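import Mathlib
import Cfsg.Prelude.Def_Transfer
set_option linter.all false

/-!
# Groups of nilpotency class at most two

Elementary commutator calculus when all commutators are central, the power formula, and the basic facts on
groups whose derived subgroup is central of prime order (in particular extraspecial groups).
-/

set_option autoImplicit false

namespace Cfsg.Agent.Transfer.CentralComm

open Subgroup
open scoped commutatorElement

variable {G : Type*} [Group G]

/-- If `G' ≤ Z(G)` then all commutators are central. -/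
theorem comm_mem_center_of_le (h : commutator G ≤ center G) (a b : G) : ⁅a, b⁆ ∈ center G :=
  h (commutator_mem_commutator (mem_top a) (mem_top b))

/-- If `[G', G] = 1` then `G' ≤ Z(G)`. -/
theorem commutator_le_center_of_eq_bot (h : ⁅commutator G, (⊤ : Subgroup G)⁆ = ⊥) :
    commutator G ≤ center G := by
  intro x hx
  rw [mem_center_iff]
  intro g
  have h1 : ⁅x, g⁆ ∈ ⁅commutator G, (⊤ : Subgroup G)⁆ := commutator_mem_commutator hx (mem_top g)
  rw [h, mem_bot, commutatorElement_eq_one_iff_mul_comm] at h1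
  exact h1.symm

/-- If `[G', G] = 1` then all commutators are central. -/
theorem comm_mem_center_of_eq_bot (h : ⁅commutator G, (⊤ : Subgroup G)⁆ = ⊥) (a b : G) :
    ⁅a, b⁆ ∈ center G :=
  comm_mem_center_of_le (commutator_le_center_of_eq_bot h) a b

theorem center_comm {z : G} (hz : z ∈ center G) (g : G) : g * z = z * g :=
  mem_center_iff.mp hz g

section ClassTwo

variable (hc : ∀ a b : G, ⁅a, b⁆ ∈ center G)

include hc

/-- The commutator is multiplicative on the left in class two. -/
theorem comm_mul_left (a b c : G) : ⁅a * b, c⁆ = ⁅a, c⁆ * ⁅b, c⁆ := by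
  rw [commutatorElement_mul_left_eq_conj_mul, center_comm (hc b c) a]
  rw [mul_assoc, mul_assoc, mul_inv_cancel_left, center_comm (hc a c) ⁅b, c⁆]

/-- The commutator is multiplicative on the right in class two. -/
theorem comm_mul_right (a b c : G) : ⁅a, b * c⁆ = ⁅a, b⁆ * ⁅a, c⁆ := by
  rw [← commutatorElement_inv, comm_mul_left hc, mul_inv_rev, commutatorElement_inv,
    commutatorElement_inv, center_comm (hc a b)]

theorem comm_inv_left (a b : G) : ⁅a⁻¹, b⁆ = ⁅a, b⁆⁻¹ := by
  have h := comm_mul_left hc a⁻¹ a b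
  rw [inv_mul_cancel, commutatorElement_one_left] at h
  exact eq_inv_of_mul_eq_one_left h.symm

theorem comm_inv_right (a b : G) : ⁅a, b⁻¹⁆ = ⁅a, b⁆⁻¹ := by
  have h := comm_mul_right hc a b⁻¹ b
  rw [inv_mul_cancel, commutatorElement_one_right] at h
  exact eq_inv_of_mul_eq_one_left h.symm

/-- `[a^n, b] = [a, b]^n` in class two. -/
theorem comm_pow_left (a b : G) (n : ℕ) : ⁅a ^ n, b⁆ = ⁅a, b⁆ ^ n := by
  induction n with
  | zero => simp
  | succ n ih => rw [pow_succ, comm_mul_left hc, ih, pow_succ]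

/-- `[a, b^n] = [a, b]^n` in class two. -/
theorem comm_pow_right (a b : G) (n : ℕ) : ⁅a, b ^ n⁆ = ⁅a, b⁆ ^ n := by
  induction n with
  | zero => simp
  | succ n ih => rw [pow_succ, comm_mul_right hc, ih, pow_succ]

theorem comm_zpow_left (a b : G) (n : ℤ) : ⁅a ^ n, b⁆ = ⁅a, b⁆ ^ n := by
  cases n with
  | ofNat n => simpa using comm_pow_left hc a b n
  | negSucc n => rw [zpow_negSucc, zpow_negSucc, comm_inv_left hc, comm_pow_left hc]

theorem comm_zpow_right (a b : G) (n : ℤ) : ⁅a, b ^ n⁆ = ⁅a, b⁆ ^ n := by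
  cases n with
  | ofNat n => simpa using comm_pow_right hc a b n
  | negSucc n => rw [zpow_negSucc, zpow_negSucc, comm_inv_right hc, comm_pow_right hc]

/-- `b * a = a * b * [b, a]` in class two (valid with the commutator on either side). -/
theorem mul_eq_mul_mul_comm (a b : G) : b * a = a * b * ⁅b, a⁆ := by
  rw [center_comm (hc b a), commutatorElement_def]
  group

/-- The power formula in class two: `(ab)^n = a^n b^n [b, a]^(n choose 2)`. -/
theorem mul_pow_choose (a b : G) (n : ℕ) :
    (a * b) ^ n = a ^ n * b ^ n * ⁅b, a⁆ ^ n.choose 2 := by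
  induction n with
  | zero => simp
  | succ n ih =>
    have hz : ∀ (m : ℕ) (g : G), g * ⁅b, a⁆ ^ m = ⁅b, a⁆ ^ m * g := fun m g =>
      center_comm ((center G).pow_mem (hc b a) m) g
    have h1 : b ^ n * a = a * b ^ n * ⁅b, a⁆ ^ n := by
      rw [← comm_pow_left hc]
      exact mul_eq_mul_mul_comm hc a (b ^ n)
    have h2 : (n + 1).choose 2 = n + n.choose 2 := by
      rw [Nat.choose_succ_succ' n 1, Nat.choose_one_right]
    calc (a * b) ^ (n + 1) = a ^ n * b ^ n * ⁅b, a⁆ ^ n.choose 2 * (a * b) := by rw [pow_succ, ih]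
      _ = a ^ n * (b ^ n * a) * b * ⁅b, a⁆ ^ n.choose 2 := by
        rw [mul_assoc (a ^ n * b ^ n), ← hz, ← mul_assoc, ← mul_assoc, ← mul_assoc]
      _ = a ^ n * a * b ^ n * b * (⁅b, a⁆ ^ n * ⁅b, a⁆ ^ n.choose 2) := by
        rw [h1]
        have := hz n b
        simp only [mul_assoc]
        rw [← mul_assoc (⁅b, a⁆ ^ n) b, ← this, mul_assoc]
      _ = a ^ (n + 1) * b ^ (n + 1) * ⁅b, a⁆ ^ (n + 1).choose 2 := by
        rw [h2, pow_add ⁅b, a⁆, pow_succ a, pow_succ b]
        simp only [mul_assoc]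

/-- If `[b, a]^m = 1` and `m ∣ n choose 2` then `(ab)^n = a^n b^n`. -/
theorem mul_pow_of_comm_pow {m n : ℕ} (hmn : m ∣ n.choose 2) {a b : G} (hab : ⁅b, a⁆ ^ m = 1) :
    (a * b) ^ n = a ^ n * b ^ n := by
  rw [mul_pow_choose hc]
  obtain ⟨k, hk⟩ := hmn
  rw [hk, pow_mul, hab, one_pow, mul_one]

/-- In class two, left commutation with `x` is a homomorphism into the centre. -/
def commHom (x : G) : G →* center G where
  toFun g := ⟨⁅g, x⁆, hc g x⟩
  map_one' := by ext; simp
  map_mul' a b := by ext; simpa using comm_mul_left hc a b x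

omit hc in
theorem coe_commHom (hc : ∀ a b : G, ⁅a, b⁆ ∈ center G) (x g : G) :
    ((commHom hc x g : center G) : G) = ⁅g, x⁆ := rfl

omit hc in
theorem mem_ker_commHom (hc : ∀ a b : G, ⁅a, b⁆ ∈ center G) {x g : G} :
    g ∈ (commHom hc x).ker ↔ g * x = x * g := by
  rw [MonoidHom.mem_ker, Subtype.ext_iff, coe_commHom, coe_one,
    commutatorElement_eq_one_iff_mul_comm]

end ClassTwo

/-- An odd prime `p` divides `p choose 2`. -/
theorem dvd_choose_two {p : ℕ} (hp : p.Prime) (h2 : p ≠ 2) : p ∣ p.choose 2 :=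
  hp.dvd_choose_self (by norm_num) (lt_of_le_of_ne hp.two_le (Ne.symm h2))

/-- In class two, for `p` odd, `(ab)^p = a^p b^p` as soon as `[b, a]^p = 1`. -/
theorem mul_pow_prime (hc : ∀ a b : G, ⁅a, b⁆ ∈ center G) {p : ℕ} (hp : p.Prime) (h2 : p ≠ 2)
    {a b : G} (hab : ⁅b, a⁆ ^ p = 1) : (a * b) ^ p = a ^ p * b ^ p :=
  mul_pow_of_comm_pow hc (dvd_choose_two hp h2) hab

/-- For `p` odd, the elements of order dividing `p` of a group of class at most two are closed under
multiplication, hence so is the subgroup they generate. -/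
theorem pow_eq_one_of_mem_closure (hc : ∀ a b : G, ⁅a, b⁆ ∈ center G) {p : ℕ} (hp : p.Prime)
    (h2 : p ≠ 2) {g : G} (hg : g ∈ closure {x : G | x ^ p = 1}) : g ^ p = 1 := by
  induction hg using closure_induction with
  | mem x hx => exact hx
  | one => exact one_pow p
  | mul x y _ _ hx hy =>
    rw [mul_pow_prime hc hp h2, hx, hy, one_mul]
    rw [← comm_pow_left hc, hy, commutatorElement_one_left]
  | inv x _ hx => rw [inv_pow, hx, inv_one]

end Cfsg.Agent.Transfer.CentralComm
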