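import Mathlib.GroupTheory.Sylow
import Mathlib.GroupTheory.Perm.Cycle.Type
import Mathlib.GroupTheory.Index
import Mathlib.GroupTheory.GroupAction.Quotient
import Cfsg.Prelude.Def_Transfer
set_option linter.all false

/-!
# Thompson transfer lemma

A fixed-point-free involution on a set with `2m` elements, `m` odd, is an odd permutation.
-/

set_option autoImplicit false

namespace Cfsg.Agent.Transfer.ThompsonTransfer

open Equiv.Perm

/-- The sign of the permutation of `G ⧸ Q` given by `u` is `-1` if `u` is an involution without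
conjugates in `Q` and the index of `Q` is twice an odd number. -/
theorem sign_quotient_eq_neg_one {G : Type*} [Group G] (Q : Subgroup G) [Fintype (G ⧸ Q)]
    [DecidableEq (G ⧸ Q)] {m : ℕ} (hQ : Q.index = 2 * m) (hm : Odd m) (u : G) (hu : u ^ 2 = 1)
    (h : ∀ g : G, g * u * g⁻¹ ∉ Q) :
    Equiv.Perm.sign (MulAction.toPermHom G (G ⧸ Q) u) = -1 := by
  have h2 : (MulAction.toPermHom G (G ⧸ Q) u) ^ 2 = 1 := by
    rw [← map_pow, hu, map_one]
  rw [sign_of_pow_two_eq_one h2]
  have hfix : IsEmpty (Function.fixedPoints (MulAction.toPermHom G (G ⧸ Q) u)) := by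
    constructor
    rintro ⟨x, hx⟩
    revert hx
    refine QuotientGroup.induction_on x ?_
    intro g hg
    have hg' : u • (g : G ⧸ Q) = (g : G ⧸ Q) := hg
    have h3 : ((u * g : G) : G ⧸ Q) = (g : G ⧸ Q) := hg'
    have h4 := QuotientGroup.eq.1 h3
    have h5 : g⁻¹ * u * g ∈ Q := by
      have h6 := Q.inv_mem h4
      have h7 : ((u * g)⁻¹ * g)⁻¹ = g⁻¹ * u * g := by group
      rwa [h7] at h6
    have h8 := h g⁻¹
    rw [inv_inv] at h8
    exact h8 h5
  have h0 : Fintype.card (Function.fixedPoints (MulAction.toPermHom G (G ⧸ Q) u)) = 0 :=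
    Fintype.card_eq_zero_iff.2 hfix
  have h1 : Fintype.card (G ⧸ Q) = 2 * m := by
    rw [← Nat.card_eq_fintype_card, ← Subgroup.index_eq_card, hQ]
  rw [h0, h1, Nat.sub_zero, Nat.mul_div_cancel_left m (by norm_num), hm.neg_one_pow]

/-- Thompson transfer lemma, general form: if the index of `Q` is twice an odd number and the
involution `u` has no conjugate in `Q` then some homomorphism to `ℤˣ` sends `u` to `-1`. -/
theorem exists_hom_eq_neg_one {G : Type*} [Group G] [Finite G] (Q : Subgroup G) {m : ℕ}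
    (hQ : Q.index = 2 * m) (hm : Odd m) (u : G) (hu : u ^ 2 = 1)
    (h : ∀ g : G, g * u * g⁻¹ ∉ Q) : ∃ f : G →* ℤˣ, f u = -1 := by
  classical
  have : Finite (G ⧸ Q) := inferInstance
  have : Fintype (G ⧸ Q) := Fintype.ofFinite _
  exact ⟨(Equiv.Perm.sign).comp (MulAction.toPermHom G (G ⧸ Q)),
    sign_quotient_eq_neg_one Q hQ hm u hu h⟩

/-- A homomorphism to `ℤˣ` with `f u = -1` has kernel of index two not containing `u`. -/
theorem exists_normal_index_two {G : Type*} [Group G] (f : G →* ℤˣ) (u : G)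
    (hf : f u = -1) : ∃ M : Subgroup G, M.Normal ∧ M.index = 2 ∧ u ∉ M := by
  refine ⟨f.ker, inferInstance, ?_, ?_⟩
  · rw [Subgroup.index_ker]
    have : f.range = ⊤ := by
      rw [eq_top_iff]
      intro x _
      rcases Int.units_eq_one_or x with rfl | rfl
      · exact f.range.one_mem
      · exact ⟨u, hf⟩
    rw [this]
    rw [Subgroup.card_top, Nat.card_eq_fintype_card]
    rfl
  · rw [MonoidHom.mem_ker, hf]
    decide

/-- The index of a subgroup of index two of a Sylow `2`-subgroup is twice an odd number. -/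
theorem exists_index_eq {G : Type*} [Group G] [Finite G] (P : Sylow 2 G) (Q : Subgroup G)
    (hQP : Q ≤ (P : Subgroup G)) (hQi : Q.relIndex (P : Subgroup G) = 2) :
    ∃ m : ℕ, Q.index = 2 * m ∧ Odd m := by
  refine ⟨(P : Subgroup G).index, ?_, ?_⟩
  · rw [← Subgroup.relIndex_mul_index hQP, hQi]
  · have := P.not_dvd_index
    rw [← Nat.not_even_iff_odd, even_iff_two_dvd]
    exact this

/-- The Thompson transfer lemma. -/
theorem thompson_transfer {G : Type*} [Group G] [Finite G] (P : Sylow 2 G) (Q : Subgroup G)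
    (hQP : Q ≤ (P : Subgroup G)) (hQi : Q.relIndex (P : Subgroup G) = 2) (u : G)
    (hu : u ^ 2 = 1) :
    (∃ M : Subgroup G, M.Normal ∧ M.index = 2 ∧ u ∉ M) ∨ ∃ g : G, g * u * g⁻¹ ∈ Q := by
  by_cases h : ∃ g : G, g * u * g⁻¹ ∈ Q
  · exact Or.inr h
  · left
    push Not at h
    obtain ⟨m, hm, hm'⟩ := exists_index_eq P Q hQP hQi
    obtain ⟨f, hf⟩ := exists_hom_eq_neg_one Q hm hm' u hu h
    exact exists_normal_index_two f u hf

/-- Every homomorphism from a group with `O^2(G) = G` to `ℤˣ` is trivial. -/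
theorem hom_eq_one_of_pResidual_eq_top {G : Type*} [Group G] (hO : Cfsg.pResidual 2 G = ⊤)
    (f : G →* ℤˣ) (x : G) : f x = 1 := by
  have h : Cfsg.pResidual 2 G ≤ f.ker := by
    unfold Cfsg.pResidual
    rw [Subgroup.closure_le]
    intro g hg
    have hg' : Nat.Coprime (orderOf g) 2 := hg
    rw [SetLike.mem_coe, MonoidHom.mem_ker]
    have h1 : orderOf (f g) ∣ orderOf g := orderOf_map_dvd f g
    have h2 : orderOf (f g) ∣ 2 := by
      apply orderOf_dvd_of_pow_eq_one
      rcases Int.units_eq_one_or (f g) with h | h <;> rw [h] <;> decide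
    have h3 : orderOf (f g) ∣ 1 := by
      rw [← hg'.gcd_eq_one]
      exact Nat.dvd_gcd h1 h2
    rw [← orderOf_eq_one_iff]
    exact Nat.dvd_one.1 h3
  rw [hO] at h
  exact h (Subgroup.mem_top x)

/-- The Thompson transfer lemma in a group with `O^2(G) = G`. -/
theorem exists_conj_mem_of_pResidual_eq_top {G : Type*} [Group G] [Finite G]
    (hO : Cfsg.pResidual 2 G = ⊤) (P : Sylow 2 G) (Q : Subgroup G)
    (hQP : Q ≤ (P : Subgroup G)) (hQi : Q.relIndex (P : Subgroup G) = 2) (u : G)
    (hu : u ^ 2 = 1) : ∃ g : G, g * u * g⁻¹ ∈ Q := by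
  by_contra h
  push Not at h
  obtain ⟨m, hm, hm'⟩ := exists_index_eq P Q hQP hQi
  obtain ⟨f, hf⟩ := exists_hom_eq_neg_one Q hm hm' u hu h
  rw [hom_eq_one_of_pResidual_eq_top hO f u] at hf
  exact absurd hf (by decide)

end Cfsg.Agent.Transfer.ThompsonTransfer
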