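import Mathlib.GroupTheory.Nilpotent
import Mathlib.GroupTheory.PGroup
import Mathlib.GroupTheory.Sylow
import Mathlib.GroupTheory.IndexNormal
set_option linter.all false

/-!
# p-groups of maximal class: basic facts

* `nilpotencyClass_le_pred` : a group of order `p ^ m`, `1 < m`, has class at most `m - 1`.
* `card_center_of_maxClass` : the centre of a `p`-group of maximal class has order `p`.
* `card_quotient_center_of_maxClass`, `nilpotencyClass_quotient_center_of_maxClass`.
* `exists_isCyclic_index_two_of_maxClass` : a 2-group of maximal class has a cyclic subgroup of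
  index two.
-/

set_option autoImplicit false
set_option linter.style.haveILetI false

namespace Cfsg.Agent.Transfer.MaximalClass

open Subgroup Group

universe u

/-- In a finite `p`-group, if the order of the centre is `p ^ k` then the order of the quotient is
`p ^ (m - k)`. -/
theorem card_quotient_center {p : ℕ} [hp : Fact p.Prime] {X : Type u} [Group X] [Finite X]
    {m k : ℕ} (hX : Nat.card X = p ^ m) (hZ : Nat.card (center X) = p ^ k) :
    k ≤ m ∧ Nat.card (X ⧸ center X) = p ^ (m - k) := by
  have hcard : Nat.card (X ⧸ center X) * Nat.card (center X) = p ^ m := by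
    rw [← hX]; exact (Subgroup.card_eq_card_quotient_mul_card_subgroup _).symm
  have hkm : k ≤ m := by
    have : p ^ k ∣ p ^ m := by rw [← hcard, hZ]; exact dvd_mul_left _ _
    exact (Nat.pow_dvd_pow_iff_le_right hp.out.one_lt).1 this
  refine ⟨hkm, ?_⟩
  rw [hZ] at hcard
  have h2 : p ^ (m - k) * p ^ k = p ^ m := by rw [← pow_add]; congr 1; omega
  rw [← h2] at hcard
  exact Nat.eq_of_mul_eq_mul_right (pow_pos hp.out.pos k) hcard

/-- If the quotient by the centre has order `p ^ j` with `j ≤ 1` then the group is abelian. -/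
theorem isMulCommutative_of_card_quotient_center_le {p : ℕ} [hp : Fact p.Prime] {X : Type u}
    [Group X] [Finite X] {j : ℕ} (hj : j ≤ 1) (hQ : Nat.card (X ⧸ center X) = p ^ j) :
    IsMulCommutative X := by
  have hcyc : IsCyclic (X ⧸ center X) := by
    rcases Nat.lt_or_ge j 1 with h0 | h1
    · have : j = 0 := by omega
      rw [this, pow_zero] at hQ
      haveI := (Nat.card_eq_one_iff_unique.1 hQ).1
      exact isCyclic_of_subsingleton
    · have : j = 1 := by omega
      rw [this, pow_one] at hQ
      exact isCyclic_of_prime_card hQ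
  exact MonoidHom.isMulCommutative_of_isCyclic_of_ker_le_center (QuotientGroup.mk' (center X))
      (by rw [QuotientGroup.ker_mk'])

/-- A group of order `p ^ m` with `1 < m` has nilpotency class at most `m - 1`. -/
theorem nilpotencyClass_le_pred {p : ℕ} [hp : Fact p.Prime] (m : ℕ) :
    ∀ (X : Type u) [Group X] [Finite X], Nat.card X = p ^ m → 1 < m →
      Group.nilpotencyClass X ≤ m - 1 := by
  induction m using Nat.strong_induction_on with
  | _ m ih =>
    intro X _ _ hX hm
    have hpX : IsPGroup p X := IsPGroup.of_card hX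
    haveI : Group.IsNilpotent X := hpX.isNilpotent
    haveI : Nontrivial X := by
      rw [← Finite.one_lt_card_iff_nontrivial, hX]
      exact Nat.one_lt_pow (by omega) hp.out.one_lt
    obtain ⟨k, hk, hZ⟩ := IsPGroup.card_center_eq_prime_pow (p := p) hX (by omega)
    obtain ⟨hkm, hQ⟩ := card_quotient_center hX hZ
    have hcl : Group.nilpotencyClass X = Group.nilpotencyClass (X ⧸ center X) + 1 :=
      Group.nilpotencyClass_eq_quotient_center_plus_one
    by_cases hmk : 1 < m - k
    · have := ih (m - k) (by omega) (X ⧸ center X) hQ hmk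
      omega
    · have hcomm : IsMulCommutative X :=
        isMulCommutative_of_card_quotient_center_le (by omega) hQ
      have := (Group.IsNilpotent.nilpotencyClass_le_one_iff (G := X)).2 hcomm
      omega

/-- A `p`-group of order `p ^ n`, `3 ≤ n`, and class `n - 1` has centre of order `p`. -/
theorem card_center_of_maxClass {p : ℕ} [hp : Fact p.Prime] {X : Type u} [Group X] [Finite X]
    {n : ℕ} (hn : 3 ≤ n) (hX : Nat.card X = p ^ n) (hc : Group.nilpotencyClass X = n - 1) :
    Nat.card (center X) = p := by
  have hpX : IsPGroup p X := IsPGroup.of_card hX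
  haveI : Group.IsNilpotent X := hpX.isNilpotent
  obtain ⟨k, hk, hZ⟩ := IsPGroup.card_center_eq_prime_pow (p := p) hX (by omega)
  obtain ⟨hkm, hQ⟩ := card_quotient_center hX hZ
  have hcl : Group.nilpotencyClass (X ⧸ center X) = Group.nilpotencyClass X - 1 :=
    Group.nilpotencyClass_quotient_center
  have hnk : 1 < n - k := by
    by_contra hlt
    have hcomm : IsMulCommutative X :=
      isMulCommutative_of_card_quotient_center_le (by omega) hQ
    have := (Group.IsNilpotent.nilpotencyClass_le_one_iff (G := X)).2 hcomm
    omega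
  have := nilpotencyClass_le_pred (n - k) (X ⧸ center X) hQ hnk
  have hk1 : k = 1 := by omega
  rw [hZ, hk1, pow_one]

/-- The central quotient of a `p`-group of maximal class and order `p ^ n` has order
`p ^ (n - 1)`. -/
theorem card_quotient_center_of_maxClass {p : ℕ} [hp : Fact p.Prime] {X : Type u} [Group X]
    [Finite X] {n : ℕ} (hn : 3 ≤ n) (hX : Nat.card X = p ^ n)
    (hc : Group.nilpotencyClass X = n - 1) :
    Nat.card (X ⧸ center X) = p ^ (n - 1) := by
  have hZ := card_center_of_maxClass hn hX hc
  exact (card_quotient_center (k := 1) hX (by rw [hZ, pow_one])).2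

/-- The central quotient of a group of class `n - 1` has class `n - 1 - 1`. -/
theorem nilpotencyClass_quotient_center_of_maxClass {X : Type u} [Group X]
    {n : ℕ} (hc : Group.nilpotencyClass X = n - 1) :
    Group.nilpotencyClass (X ⧸ center X) = n - 1 - 1 := by
  rw [Group.nilpotencyClass_quotient_center, hc]

/-- A noncommutative group of order `8` has a cyclic subgroup of index two. -/
theorem exists_isCyclic_index_two_of_card_eight {X : Type u} [Group X] [Finite X]
    (hX : Nat.card X = 8) (hc : ¬ IsMulCommutative X) : ∃ C : Subgroup X, IsCyclic C ∧ C.index = 2 := by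
  have hex : ∃ x : X, x ^ 2 ≠ 1 := by
    by_contra hall
    push Not at hall
    apply hc
    refine ⟨⟨fun a b => ?_⟩⟩
    have h1 := hall (a * b)
    have ha := hall a
    have hb := hall b
    rw [pow_two] at h1 ha hb
    have ha' : a⁻¹ = a := inv_eq_of_mul_eq_one_right ha
    have hb' : b⁻¹ = b := inv_eq_of_mul_eq_one_right hb
    have hab' : (a * b)⁻¹ = a * b := inv_eq_of_mul_eq_one_right h1
    rw [mul_inv_rev, ha', hb'] at hab'
    exact hab'.symm
  obtain ⟨x, hx⟩ := hex
  have hdvd : orderOf x ∣ 2 ^ 3 := by
    have := orderOf_dvd_natCard x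
    rw [hX] at this
    exact this
  obtain ⟨k, hk, hkx⟩ := (Nat.dvd_prime_pow Nat.prime_two).1 hdvd
  have hk2 : 2 ≤ k := by
    by_contra hlt
    apply hx
    have : orderOf x ∣ 2 ^ 1 := by
      rw [hkx]; exact pow_dvd_pow 2 (by omega)
    exact orderOf_dvd_iff_pow_eq_one.1 this
  have hk3 : k ≠ 3 := by
    rintro rfl
    apply hc
    have : IsCyclic X := isCyclic_of_orderOf_eq_card x (by rw [hkx, hX]; norm_num)
    infer_instance
  have hk' : k = 2 := by omega
  refine ⟨Subgroup.zpowers x, inferInstance, ?_⟩
  have h3 := Subgroup.index_mul_card (Subgroup.zpowers x)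
  rw [Nat.card_zpowers, hkx, hk', hX] at h3
  omega

/-- A `2`-group of order `2 ^ n`, `3 ≤ n`, and class `n - 1` has a cyclic subgroup of index 2. -/
theorem exists_isCyclic_index_two_of_maxClass (n : ℕ) (hn : 3 ≤ n) :
    ∀ (X : Type u) [Group X] [Finite X], Nat.card X = 2 ^ n → Group.nilpotencyClass X = n - 1 →
      ∃ C : Subgroup X, IsCyclic C ∧ C.index = 2 := by
  induction n, hn using Nat.le_induction with
  | base =>
    intro X _ _ hX hc
    apply exists_isCyclic_index_two_of_card_eight (by rw [hX]; norm_num)
    intro hcomm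
    have hpX : IsPGroup 2 X := IsPGroup.of_card hX
    haveI : Group.IsNilpotent X := hpX.isNilpotent
    have := (Group.IsNilpotent.nilpotencyClass_le_one_iff (G := X)).2 hcomm
    omega
  | succ n hn ih =>
    intro X _ _ hX hc
    have hZ : Nat.card (center X) = 2 := card_center_of_maxClass (by omega) hX hc
    have hQ : Nat.card (X ⧸ center X) = 2 ^ n :=
      card_quotient_center_of_maxClass (by omega) hX hc
    have hcl : Group.nilpotencyClass (X ⧸ center X) = n - 1 := by
      rw [nilpotencyClass_quotient_center_of_maxClass hc]; omega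
    obtain ⟨D, hDc, hDi⟩ := ih (X ⧸ center X) hQ hcl
    -- `C` is the preimage of `D`; it has index two
    set C : Subgroup X := D.comap (QuotientGroup.mk' (center X)) with hCdef
    have hCi : C.index = 2 := by
      rw [hCdef, Subgroup.index_comap_of_surjective _ (QuotientGroup.mk'_surjective _), hDi]
    have hCn : C.Normal := Subgroup.normal_of_index_eq_two hCi
    obtain ⟨d, hd⟩ := hDc.exists_generator
    obtain ⟨x, hx⟩ := QuotientGroup.mk'_surjective (center X) (d : X ⧸ center X)
    -- the order of `d`
    have hDcard : Nat.card D = 2 ^ (n - 1) := by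
      have h1 := Subgroup.index_mul_card D
      rw [hDi, hQ] at h1
      have h2 : 2 ^ n = 2 * 2 ^ (n - 1) := by rw [← pow_succ']; congr 1; omega
      omega
    have hdo : orderOf (QuotientGroup.mk' (center X) x) = 2 ^ (n - 1) := by
      rw [hx, Subgroup.orderOf_coe, orderOf_eq_card_of_forall_mem_zpowers hd, hDcard]
    -- every element of `C` is `x ^ i * z` with `z` central
    have hCelt : ∀ c ∈ C, ∃ i : ℤ, ∃ z ∈ center X, c = x ^ i * z := by
      intro c hc
      have hc' : QuotientGroup.mk' (center X) c ∈ D := hc
      obtain ⟨i, hi⟩ := Subgroup.mem_zpowers_iff.1 (hd ⟨_, hc'⟩)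
      refine ⟨i, (x ^ i)⁻¹ * c, ?_, by group⟩
      have h3 : (d : X ⧸ center X) ^ i = QuotientGroup.mk' (center X) c := by
        have := congrArg Subtype.val hi
        simpa using this
      rw [← QuotientGroup.eq_one_iff]
      change QuotientGroup.mk' (center X) ((x ^ i)⁻¹ * c) = 1
      rw [map_mul, map_inv, map_zpow, hx, h3, inv_mul_cancel]
    have hxC : x ∈ C := by
      change QuotientGroup.mk' (center X) x ∈ D
      rw [hx]; exact d.2
    -- the order of `x`
    have hz2 : ∀ z ∈ center X, z ^ 2 = 1 := by
      intro z hz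
      have := orderOf_dvd_natCard (⟨z, hz⟩ : center X)
      rw [hZ, orderOf_dvd_iff_pow_eq_one] at this
      simpa using congrArg Subtype.val this
    obtain ⟨k, hk, hkx⟩ : ∃ k ≤ n + 1, orderOf x = 2 ^ k :=
      (Nat.dvd_prime_pow Nat.prime_two).1 (hX ▸ orderOf_dvd_natCard x)
    have hkge : n - 1 ≤ k := by
      have h4 : 2 ^ (n - 1) ∣ 2 ^ k := by
        rw [← hdo, ← hkx]; exact orderOf_map_dvd _ _
      exact (Nat.pow_dvd_pow_iff_le_right (by norm_num)).1 h4
    by_cases hkn : n ≤ k
    · -- `x` generates a cyclic subgroup of index at most two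
      refine ⟨Subgroup.zpowers (x ^ (2 ^ (k - n))), inferInstance, ?_⟩
      have h5 : orderOf (x ^ (2 ^ (k - n))) = 2 ^ n := by
        rw [orderOf_pow' _ (by positivity), hkx]
        have : Nat.gcd (2 ^ k) (2 ^ (k - n)) = 2 ^ (k - n) :=
          Nat.gcd_eq_right (pow_dvd_pow 2 (by omega))
        rw [this, Nat.pow_div (by omega) (by norm_num)]
        congr 1; omega
      have h6 := Subgroup.index_mul_card (Subgroup.zpowers (x ^ (2 ^ (k - n))))
      rw [Nat.card_zpowers, h5, hX] at h6
      rw [pow_succ'] at h6
      exact Nat.eq_of_mul_eq_mul_right (by positivity) h6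
    · exfalso
      have hk1 : k = n - 1 := by omega
      rw [hk1] at hkx
      -- the involution `y` in `⟨x⟩`
      set y : X := x ^ (2 ^ (n - 2)) with hydef
      have hpow : 2 ^ (n - 1) = 2 ^ (n - 2) * 2 := by rw [← pow_succ]; congr 1; omega
      have hy1 : y ≠ 1 := by
        intro h
        have h7 : orderOf x ∣ 2 ^ (n - 2) := orderOf_dvd_iff_pow_eq_one.2 h
        rw [hkx] at h7
        have := (Nat.pow_dvd_pow_iff_le_right (by norm_num)).1 h7
        omega
      have hy2 : y ^ 2 = 1 := by
        rw [hydef, ← pow_mul, ← hpow, ← hkx]; exact pow_orderOf_eq_one x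
      have hyZ : y ∈ center X := by
        rw [Subgroup.mem_center_iff]
        intro g
        obtain ⟨i, z, hz, hiz⟩ := hCelt (g * x * g⁻¹) (hCn.conj_mem x hxC g)
        have h8 : g * y * g⁻¹ = y ^ i := by
          have hcz : Commute (x ^ i) z := by
            have := Subgroup.mem_center_iff.1 hz (x ^ i)
            exact this
          rw [hydef, ← conj_pow, hiz, hcz.mul_pow]
          have h9 : z ^ 2 ^ (n - 2) = 1 := by
            obtain ⟨m, hm⟩ : 2 ∣ 2 ^ (n - 2) := dvd_pow_self 2 (by omega)
            rw [hm, pow_mul, hz2 z hz, one_pow]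
          rw [h9, mul_one, ← zpow_natCast, ← zpow_natCast, ← zpow_mul, ← zpow_mul, mul_comm]
        have h10 : y ^ i = y := by
          rcases Int.even_or_odd i with ⟨j, hj⟩ | ⟨j, hj⟩
          · exfalso
            have : y ^ i = 1 := by
              rw [hj, ← two_mul, zpow_mul]
              have : y ^ (2 : ℤ) = 1 := by exact_mod_cast hy2
              rw [this, one_zpow]
            rw [this] at h8
            apply hy1
            have h11 : g * y = g := by
              rw [mul_inv_eq_one] at h8; exact h8
            simpa using h11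
          · rw [hj, zpow_add, zpow_mul, zpow_one]
            have : y ^ (2 : ℤ) = 1 := by exact_mod_cast hy2
            rw [this, one_zpow, one_mul]
        rw [h10] at h8
        exact mul_inv_eq_iff_eq_mul.1 h8
      have h12 : QuotientGroup.mk' (center X) x ^ (2 ^ (n - 2)) = 1 := by
        rw [← map_pow]
        exact (QuotientGroup.eq_one_iff _).2 hyZ
      have h13 : 2 ^ (n - 1) ∣ 2 ^ (n - 2) := by
        rw [← hdo]; exact orderOf_dvd_iff_pow_eq_one.2 h12
      have := (Nat.pow_dvd_pow_iff_le_right (by norm_num)).1 h13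
      omega

end Cfsg.Agent.Transfer.MaximalClass
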