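import Mathlib
import Cfsg.Prelude.Def_Transfer
import Cfsg.Agent.PLocal.ThompsonJ
import Cfsg.Agent.Lib.CoprimeAbelian
set_option linter.all false

/-!
# The final step in the Thompson normal `p`-complement theorem

`p` odd, `G = P M` with `P` Sylow, `U = O_p(G) ≤ M` normal, `M / U` an abelian `p'`-group,
`C_G(U) ≤ U` and `C_G(Z(P)) ≤ P`. Then `J(P)` is normal in `G`.
-/

set_option autoImplicit false

open Cfsg
open scoped commutatorElement

namespace Cfsg.Agent.Transfer.ThompsonNormalJ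

open Cfsg.Agent.PLocal.ThompsonJ

/-! ### Ring part -/

section RingPart

variable {R : Type*} [Ring R]

theorem one_add_pow_of_sq_zero {n : R} (hn : n * n = 0) (k : ℕ) :
    (1 + n) ^ k = 1 + (k : R) * n := by
  induction k with
  | zero => simp
  | succ k ih =>
    rw [pow_succ, ih]
    have : (1 + (k : R) * n) * (1 + n) = 1 + ((k : R) * n + n) + (k : R) * (n * n) := by
      noncomm_ring
    rw [this, hn, mul_zero, add_zero]
    push_cast
    rw [add_mul, one_mul]

theorem quadratic_core {p : ℕ} (hp : p.Prime) (hp2 : p ≠ 2) (hR : (p : R) = 0) (a x : Rˣ)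
    (ha : ((a : R) - 1) * ((a : R) - 1) = 0)
    (h1 : x * (a * x * a⁻¹) = (a * x * a⁻¹) * x)
    (h2 : x * (a * (a * x * a⁻¹) * a⁻¹) = (a * (a * x * a⁻¹) * a⁻¹) * x) :
    ((a * x * a⁻¹)⁻¹ * (a * (a * x * a⁻¹) * a⁻¹)) ^ p = 1 := by
  set x1 := a * x * a⁻¹ with hx1
  set x2 := a * x1 * a⁻¹ with hx2
  have c01 : Commute x x1 := h1
  have c02 : Commute x x2 := h2
  have c12 : Commute x1 x2 := by
    have : Commute (MulAut.conj a x) (MulAut.conj a x1) := c01.map (MulAut.conj a)
    simpa [MulAut.conj_apply, ← hx1, ← hx2] using this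
  set y := x⁻¹ * x1 with hy
  set y1 := x1⁻¹ * x2 with hy1
  have hy1a : y1 * a = a * y := by
    rw [hy1, hx2, hx1, hy, hx1]
    group
  have hya : y * a = x⁻¹ * a * x := by
    rw [hy, hx1]; group
  have hw : x1⁻¹ * a = y1 * a * x1⁻¹ := by
    rw [hy1a, hy]
    rw [hx1]
    have e : a * (x⁻¹ * (a * x * a⁻¹)) * (a * x * a⁻¹)⁻¹ = a * x⁻¹ := by group
    rw [e]; group
  have cy : Commute x1⁻¹ y := (((c01.symm.inv_right).mul_right (Commute.refl x1))).inv_left
  have cy1 : Commute x1⁻¹ y1 :=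
    ((((Commute.refl x1).inv_right).mul_right c12)).inv_left
  -- pass to the ring
  have E0 : (a : R) * a = 2 * a - 1 := by
    have : ((a : R) - 1) * ((a : R) - 1) = a * a - 2 * a + 1 := by noncomm_ring
    rw [this] at ha
    have h3 : (a : R) * a = (a * a - 2 * a + 1) + (2 * a - 1) := by noncomm_ring
    rw [h3, ha, zero_add]
  have E1 : (a : R) * y = y1 * a := by
    have := congrArg (Units.val) hy1a
    rw [Units.val_mul, Units.val_mul] at this
    exact this.symm
  have E2 : ((y : R) * a - 1) * ((y : R) * a - 1) = 0 := by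
    have h3 : (y : R) * a = (x⁻¹ : Rˣ) * a * x := by
      have := congrArg (Units.val) hya
      simpa using this
    have h4 : ((y : R) * a - 1) = (x⁻¹ : Rˣ) * ((a : R) - 1) * x := by
      rw [h3, mul_sub, sub_mul, mul_one, Units.inv_mul]
    rw [h4]
    have h5 : ((x⁻¹ : Rˣ) : R) * ((a : R) - 1) * x * ((x⁻¹ : Rˣ) * ((a : R) - 1) * x)
        = (x⁻¹ : Rˣ) * (((a : R) - 1) * (x * (x⁻¹ : Rˣ)) * ((a : R) - 1)) * x := by
      noncomm_ring
    rw [h5, Units.mul_inv, mul_one, ha, mul_zero, zero_mul]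
  have E3 : 2 * (y : R) * (y1 - 1) * a = y * y1 - 1 := by
    have h3 : ((y : R) * a - 1) * ((y : R) * a - 1) = y * (a * y) * a - 2 * y * a + 1 := by
      noncomm_ring
    rw [h3, E1] at E2
    have h4 : (y : R) * (y1 * a) * a - 2 * y * a + 1 = y * y1 * (a * a) - 2 * y * a + 1 := by
      noncomm_ring
    rw [h4, E0] at E2
    have h5 : 2 * (y : R) * (y1 - 1) * a
        = (y * y1 * (2 * a - 1) - 2 * y * a + 1) + (y * y1 - 1) := by
      noncomm_ring
    rw [h5, E2, zero_add]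
  have hW : ((x1⁻¹ : Rˣ) : R) * a = y1 * a * (x1⁻¹ : Rˣ) := by
    have := congrArg (Units.val) hw
    simpa using this
  have hWy : ((x1⁻¹ : Rˣ) : R) * y = y * (x1⁻¹ : Rˣ) := by
    have := congrArg (Units.val) cy.eq
    simpa using this
  have hWy1 : ((x1⁻¹ : Rˣ) : R) * y1 = y1 * (x1⁻¹ : Rˣ) := by
    have := congrArg (Units.val) cy1.eq
    simpa using this
  have E4 : 2 * (y : R) * (y1 - 1) * (y1 * a) = y * y1 - 1 := by
    have h3 : ((x1⁻¹ : Rˣ) : R) * (2 * (y : R) * (y1 - 1) * a)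
        = ((x1⁻¹ : Rˣ) : R) * (y * y1 - 1) := by rw [E3]
    set W : R := ((x1⁻¹ : Rˣ) : R) with hWdef
    have h4 : W * (y * y1 - 1) = (y * y1 - 1) * W := by
      rw [mul_sub, sub_mul, mul_one, one_mul, ← mul_assoc, hWy, mul_assoc, hWy1, mul_assoc]
    have h5 : W * (2 * (y : R) * (y1 - 1) * a) = 2 * (y : R) * (y1 - 1) * (y1 * a) * W := by
      have h6 : W * (2 * (y : R) * (y1 - 1) * a) = 2 * (W * y) * (y1 - 1) * a := by
        noncomm_ring
      have h7 : 2 * ((y : R) * W) * (y1 - 1) * a = 2 * y * (W * y1 - W) * a := by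
        noncomm_ring
      have h8 : 2 * (y : R) * (y1 * W - W) * a = 2 * y * (y1 - 1) * (W * a) := by
        noncomm_ring
      rw [h6, hWy, h7, hWy1, h8, hW]
      noncomm_ring
    rw [h5, h4] at h3
    exact (Units.mul_left_inj (x1⁻¹ : Rˣ)).mp h3
  have E5 : 2 * ((y : R) * ((y1 - 1) * (y1 - 1)) * a) = 0 := by
    have h3 : 2 * ((y : R) * ((y1 - 1) * (y1 - 1)) * a)
        = 2 * (y : R) * (y1 - 1) * (y1 * a) - 2 * (y : R) * (y1 - 1) * a := by
      noncomm_ring
    rw [h3, E4, E3, sub_self]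
  -- `2` is invertible
  have h2inv : ∀ z : R, 2 * z = 0 → z = 0 := by
    intro z hz
    obtain ⟨k, hk⟩ : ∃ k, p = 2 * k + 1 := hp.odd_of_ne_two hp2
    have h3 : (p : R) * z = z := by
      rw [hk]
      push_cast
      have : (2 * (k : R) + 1) * z = k * (2 * z) + z := by
        have hc : (2 : R) * k = k * 2 := by
          have := Nat.cast_commute 2 (k : R)
          simpa using this.eq
        rw [hc]; noncomm_ring
      rw [this, hz, mul_zero, zero_add]
    rw [← h3, hR, zero_mul]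
  have E6 : ((y1 : R) - 1) * (y1 - 1) = 0 := by
    have h3 := h2inv _ E5
    have h4 : (y : R) * (((y1 : R) - 1) * (y1 - 1)) = 0 := by
      have := congrArg (fun z => z * ((a⁻¹ : Rˣ) : R)) h3
      simpa [mul_assoc] using this
    have := congrArg (fun z => ((y⁻¹ : Rˣ) : R) * z) h4
    simpa [← mul_assoc] using this
  apply Units.ext
  rw [Units.val_pow_eq_pow_val, Units.val_one]
  have h3 : (y1 : R) = 1 + (y1 - 1) := by noncomm_ring
  rw [h3, one_add_pow_of_sq_zero E6, hR, zero_mul, add_zero]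

end RingPart

/-! ### Action part -/

section ActionPart

/-- If `a` acts quadratically on the elementary abelian `p`-group `V` (`p` odd), and
`x, x^a, x^(a^2)` commute in their action on `V`, then `(x⁻¹ x^a)^a` acts with order dividing `p`. -/
theorem quadratic_action {G V : Type*} [Group G] [CommGroup V] (φ : G →* MulAut V) {p : ℕ}
    (hp : p.Prime) (hp2 : p ≠ 2) (hV : ∀ v : V, v ^ p = 1) (a x : G)
    (ha : ∀ v : V, φ a (φ a v) * v = φ a v * φ a v)
    (h1 : φ (x * (a * x * a⁻¹)) = φ ((a * x * a⁻¹) * x))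
    (h2 : φ (x * (a * (a * x * a⁻¹) * a⁻¹)) = φ ((a * (a * x * a⁻¹) * a⁻¹) * x)) (v : V) :
    φ (((a * x * a⁻¹)⁻¹ * (a * (a * x * a⁻¹) * a⁻¹)) ^ p) v = v := by
  let f : G →* AddMonoid.End (Additive V) :=
    { toFun := fun g => MonoidHom.toAdditive (φ g).toMonoidHom
      map_one' := by
        rw [map_one]
        rfl
      map_mul' := by
        intro g h
        rw [map_mul]
        rfl }
  have hf : ∀ (g : G) (v : V), f g (Additive.ofMul v) = Additive.ofMul (φ g v) := fun g v => rfl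
  let ρ : G →* (AddMonoid.End (Additive V))ˣ := f.toHomUnits
  have hρ : ∀ g : G, ((ρ g : (AddMonoid.End (Additive V))ˣ) : AddMonoid.End (Additive V)) = f g :=
    fun g => rfl
  have hfφ : ∀ g h : G, φ g = φ h → ρ g = ρ h := by
    intro g h hgh
    apply Units.ext
    rw [hρ, hρ]
    ext v
    have := hf g v.toMul
    have := hf h v.toMul
    simp_all
  have hR : (p : AddMonoid.End (Additive V)) = 0 := by
    ext v
    have h3 : ((p : AddMonoid.End (Additive V)) : Additive V → Additive V) v = p • v :=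
      AddMonoid.End.natCast_apply p v
    rw [h3]
    exact hV v.toMul
  have key := quadratic_core hp hp2 hR (ρ a) (ρ x) ?_ ?_ ?_
  · have h3 : ρ (((a * x * a⁻¹)⁻¹ * (a * (a * x * a⁻¹) * a⁻¹)) ^ p) = 1 := by
      rw [← key]
      simp only [map_mul, map_inv, map_pow]
    have h4 : f (((a * x * a⁻¹)⁻¹ * (a * (a * x * a⁻¹) * a⁻¹)) ^ p) = 1 := by
      rw [← hρ, h3, Units.val_one]
    have h5 := hf (((a * x * a⁻¹)⁻¹ * (a * (a * x * a⁻¹) * a⁻¹)) ^ p) v
    rw [h4] at h5
    exact (Additive.ofMul.injective h5).symm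
  · rw [hρ]
    ext v
    have h3 : (f a - 1) * (f a - 1) = f a * f a - f a - (f a - 1) := by
      rw [sub_mul, mul_sub, mul_one, one_mul]
    rw [h3]
    have h4 := ha v.toMul
    change (φ a (φ a v.toMul) / φ a v.toMul) / (φ a v.toMul / v.toMul) = (1 : V)
    rw [div_eq_one, div_eq_div_iff_mul_eq_mul, h4]
  · rw [← map_inv, ← map_mul, ← map_mul, ← map_mul, ← map_mul]
    exact hfφ _ _ h1
  · rw [← map_inv, ← map_mul, ← map_mul, ← map_mul, ← map_mul, ← map_mul, ← map_mul]
    exact hfφ _ _ h2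

end ActionPart

/-! ### Nilpotence -/

section Nilp

/-- Inside a finite `p`-group, `D ≤ [D, A]` forces `D = 1`. -/
theorem eq_bot_of_le_commutator {G : Type*} [Group G] [Finite G] {p : ℕ} [Fact p.Prime]
    {P D A : Subgroup G} (hP : IsPGroup p P) (hD : D ≤ P) (hA : A ≤ P) (h : D ≤ ⁅D, A⁆) :
    D = ⊥ := by
  have hn : Group.IsNilpotent P := hP.isNilpotent
  rw [Subgroup.isNilpotent_iff_lowerCentralSeries] at hn
  obtain ⟨n, hn⟩ := hn
  have key : ∀ k, D ≤ P.lowerCentralSeries k := by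
    intro k
    induction k with
    | zero => exact hD
    | succ k ih =>
      rw [Subgroup.lowerCentralSeries_succ]
      exact h.trans (Subgroup.commutator_mono ih hA)
  have := key n
  rwa [hn, le_bot_iff] at this

end Nilp

/-! ### Thompson replacement with respect to a normal elementary abelian subgroup -/

section Replacement

/-- Thompson replacement: `V` normal elementary abelian, `A` an elementary abelian subgroup of
largest order that does not act quadratically on `V`. -/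
theorem exists_replacement {G : Type*} [Group G] [Finite G] {p : ℕ}
    {V A : Subgroup G} (hVN : V.Normal)
    (hVc : ∀ v ∈ V, ∀ w ∈ V, v * w = w * v) (hVp : ∀ v ∈ V, v ^ p = 1)
    (hA : A ∈ maxElementaryAbelianSubgroups p G) {x a0 b0 : G} (hx : x ∈ V) (ha0 : a0 ∈ A)
    (hb0 : b0 ∈ A) (hne : b0 * (a0 * x * a0⁻¹ * x⁻¹) ≠ (a0 * x * a0⁻¹ * x⁻¹) * b0) :
    ∃ B ∈ maxElementaryAbelianSubgroups p G, B ≤ A ⊔ V ∧ A ⊓ V < B ⊓ V ∧
      (V ≤ B → ∀ v ∈ V, ∃ d ∈ ⁅V, A⁆, ∃ n ∈ A ⊓ V, d * n = v) := by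
  classical
  have hAc := (isElementaryAbelian_iff.1 hA.1).1
  have hAp := (isElementaryAbelian_iff.1 hA.1).2
  have hVn : ∀ g : G, ∀ v ∈ V, g * v * g⁻¹ ∈ V := fun g v hv => hVN.conj_mem v hv g
  set M0 : Subgroup G := Subgroup.closure {m | ∃ a ∈ A, m = a * x * a⁻¹ * x⁻¹} with hM0
  have hM0V : M0 ≤ V := by
    rw [hM0, Subgroup.closure_le]
    rintro _ ⟨a, ha, rfl⟩
    exact V.mul_mem (hVn a x hx) (V.inv_mem hx)
  have hM0mem : ∀ a ∈ A, a * x * a⁻¹ * x⁻¹ ∈ M0 := fun a ha => Subgroup.subset_closure ⟨a, ha, rfl⟩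
  have hM0D : M0 ≤ ⁅V, A⁆ := by
    rw [hM0, Subgroup.closure_le]
    rintro _ ⟨a, ha, rfl⟩
    rw [Subgroup.commutator_comm]
    exact Subgroup.commutator_mem_commutator ha hx
  let C : Subgroup G := A ⊓ Subgroup.centralizer (M0 : Set G)
  have hCA : C ≤ A := inf_le_left
  have hCM : ∀ c ∈ C, ∀ m ∈ M0, c * m = m * c := by
    intro c hc m hm
    exact (Subgroup.mem_centralizer_iff.mp (Subgroup.mem_inf.mp hc).2 m hm).symm
  have hCmem : ∀ c ∈ A, (∀ d ∈ A, c * (d * x * d⁻¹ * x⁻¹) = (d * x * d⁻¹ * x⁻¹) * c) → c ∈ C := by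
    intro c hc h
    refine Subgroup.mem_inf.mpr ⟨hc, ?_⟩
    have h1 : M0 ≤ Subgroup.centralizer {c} := by
      rw [hM0, Subgroup.closure_le]
      rintro _ ⟨d, hd, rfl⟩
      rw [SetLike.mem_coe, Subgroup.mem_centralizer_singleton_iff]
      exact (h d hd).symm
    rw [Subgroup.mem_centralizer_iff]
    intro m hm
    have := h1 hm
    rw [Subgroup.mem_centralizer_singleton_iff] at this
    exact this
  let B : Subgroup G :=
    { carrier := {b | ∃ m ∈ M0, ∃ c ∈ C, m * c = b}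
      one_mem' := ⟨1, M0.one_mem, 1, C.one_mem, one_mul 1⟩
      mul_mem' := by
        rintro _ _ ⟨m, hm, c, hc, rfl⟩ ⟨m', hm', c', hc', rfl⟩
        refine ⟨m * m', M0.mul_mem hm hm', c * c', C.mul_mem hc hc', ?_⟩
        rw [mul_assoc, ← mul_assoc m', ← hCM c hc m' hm']
        simp only [mul_assoc]
      inv_mem' := by
        rintro _ ⟨m, hm, c, hc, rfl⟩
        refine ⟨m⁻¹, M0.inv_mem hm, c⁻¹, C.inv_mem hc, ?_⟩
        rw [mul_inv_rev]
        exact (hCM c⁻¹ (C.inv_mem hc) m⁻¹ (M0.inv_mem hm)).symm }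
  have hMB : M0 ≤ B := fun m hm => ⟨m, hm, 1, C.one_mem, mul_one m⟩
  have hCB : C ≤ B := fun c hc => ⟨1, M0.one_mem, c, hc, one_mul c⟩
  have hBel : IsElementaryAbelian p B := by
    rw [isElementaryAbelian_iff]
    constructor
    · rintro _ ⟨m, hm, c, hc, rfl⟩ _ ⟨m', hm', c', hc', rfl⟩
      have e1 : Commute m m' := hVc m (hM0V hm) m' (hM0V hm')
      have e2 : Commute c m' := hCM c hc m' hm'
      have e3 : Commute m c' := (hCM c' hc' m hm).symm
      have e4 : Commute c c' := hAc c (hCA hc) c' (hCA hc')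
      exact (e1.mul_left e2).mul_right (e3.mul_left e4)
    · rintro _ ⟨m, hm, c, hc, rfl⟩
      have e2 : Commute m c := (hCM c hc m hm).symm
      rw [e2.mul_pow, hVp m (hM0V hm), hAp c (hCA hc), one_mul]
  have hcard : Nat.card A ≤ Nat.card B := by
    have h1 : Nat.card C * C.relIndex A = Nat.card A := by
      have := Subgroup.relIndex_mul_relIndex ⊥ C A bot_le hCA
      rwa [Subgroup.relIndex_bot_left, Subgroup.relIndex_bot_left] at this
    have h2 : Nat.card C * C.relIndex B = Nat.card B := by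
      have := Subgroup.relIndex_mul_relIndex ⊥ C B bot_le hCB
      rwa [Subgroup.relIndex_bot_left, Subgroup.relIndex_bot_left] at this
    rw [← h1, ← h2]
    refine Nat.mul_le_mul_left _ ?_
    let g : A ⧸ C.subgroupOf A → B ⧸ C.subgroupOf B := fun q =>
      QuotientGroup.mk ⟨(q.out : G) * x * (q.out : G)⁻¹ * x⁻¹, hMB (hM0mem _ q.out.2)⟩
    have hg : Function.Injective g := by
      intro q r hqr
      have h3 := QuotientGroup.eq.mp hqr
      rw [Subgroup.mem_subgroupOf] at h3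
      simp only [Subgroup.coe_mul, Subgroup.coe_inv] at h3
      obtain ⟨a, ha⟩ : ∃ a : A, a = q.out := ⟨_, rfl⟩
      obtain ⟨b, hb⟩ : ∃ b : A, b = r.out := ⟨_, rfl⟩
      rw [← ha, ← hb] at h3
      set c : G := ((a : G) * x * (a : G)⁻¹ * x⁻¹)⁻¹ * ((b : G) * x * (b : G)⁻¹ * x⁻¹) with hc
      have hXb : (b : G) * x * (b : G)⁻¹ = (a : G) * x * (a : G)⁻¹ * c := by
        have e1 : (a : G) * x * (a : G)⁻¹ * x = x * ((a : G) * x * (a : G)⁻¹) :=
          hVc _ (hVn a x hx) _ hx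
        have e2 : (b : G) * x * (b : G)⁻¹ * x = x * ((b : G) * x * (b : G)⁻¹) :=
          hVc _ (hVn b x hx) _ hx
        have e3 : (a : G) * x * (a : G)⁻¹ * c
            = ((a : G) * x * (a : G)⁻¹ * x) * ((a : G) * x * (a : G)⁻¹)⁻¹ *
              ((b : G) * x * (b : G)⁻¹ * x⁻¹) := by
          rw [hc]; group
        have e4 : (b : G) * x * (b : G)⁻¹ * x⁻¹ = x⁻¹ * ((b : G) * x * (b : G)⁻¹) :=
          (Commute.inv_right e2 : Commute _ _)
        rw [e3, e1, mul_inv_cancel_right, e4, mul_inv_cancel_left]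
      have h4 : (a⁻¹ * b : A) ∈ C.subgroupOf A := by
        rw [Subgroup.mem_subgroupOf]
        refine hCmem _ (a⁻¹ * b : A).2 ?_
        intro d hd
        have hdc : d * c = c * d := hAc d hd c (hCA h3)
        have hda : d * a = a * d := hAc d hd a a.2
        have hdb : d * b = b * d := hAc d hd b b.2
        have e1 : (b : G) * (d * x * d⁻¹) * (b : G)⁻¹ = (a : G) * (d * x * d⁻¹) * (a : G)⁻¹ * c := by
          have f1 : (b : G) * (d * x * d⁻¹) * (b : G)⁻¹ = d * ((b : G) * x * (b : G)⁻¹) * d⁻¹ := by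
            calc (b : G) * (d * x * d⁻¹) * (b : G)⁻¹ = (b * d) * x * (b * d)⁻¹ := by group
              _ = (d * b) * x * (d * b)⁻¹ := by rw [hdb]
              _ = _ := by group
          have f2 : (a : G) * (d * x * d⁻¹) * (a : G)⁻¹ = d * ((a : G) * x * (a : G)⁻¹) * d⁻¹ := by
            calc (a : G) * (d * x * d⁻¹) * (a : G)⁻¹ = (a * d) * x * (a * d)⁻¹ := by group
              _ = (d * a) * x * (d * a)⁻¹ := by rw [hda]
              _ = _ := by group
          rw [f1, f2, hXb]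
          calc d * ((a : G) * x * (a : G)⁻¹ * c) * d⁻¹
              = d * ((a : G) * x * (a : G)⁻¹) * d⁻¹ * (d * c * d⁻¹) := by group
            _ = _ := by rw [hdc, mul_inv_cancel_right]
        have e2 : (b : G) * (d * x * d⁻¹ * x⁻¹) * (b : G)⁻¹
            = (a : G) * (d * x * d⁻¹ * x⁻¹) * (a : G)⁻¹ := by
          calc (b : G) * (d * x * d⁻¹ * x⁻¹) * (b : G)⁻¹
              = ((b : G) * (d * x * d⁻¹) * (b : G)⁻¹) * ((b : G) * x * (b : G)⁻¹)⁻¹ := by group
            _ = ((a : G) * (d * x * d⁻¹) * (a : G)⁻¹ * c) *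
                  ((a : G) * x * (a : G)⁻¹ * c)⁻¹ := by rw [e1, hXb]
            _ = _ := by group
        rw [Subgroup.coe_mul, Subgroup.coe_inv]
        calc (a : G)⁻¹ * (b : G) * (d * x * d⁻¹ * x⁻¹)
            = (a : G)⁻¹ * ((b : G) * (d * x * d⁻¹ * x⁻¹) * (b : G)⁻¹) * b := by group
          _ = _ := by rw [e2]; group
      have h5 : (QuotientGroup.mk a : A ⧸ C.subgroupOf A) = QuotientGroup.mk b :=
        QuotientGroup.eq.mpr h4
      rw [ha, hb] at h5
      rwa [QuotientGroup.out_eq', QuotientGroup.out_eq'] at h5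
    exact Nat.card_le_card_of_injective g hg
  refine ⟨B, mem_max_of_card_eq hA hBel hcard, ?_, ?_, ?_⟩
  · rintro _ ⟨m, hm, c, hc, rfl⟩
    exact Subgroup.mul_mem _ (Subgroup.mem_sup_right (hM0V hm)) (Subgroup.mem_sup_left (hCA hc))
  · refine lt_of_le_of_ne ?_ ?_
    · refine le_inf ?_ inf_le_right
      refine le_trans ?_ hCB
      rintro v ⟨hvA, hvV⟩
      refine Subgroup.mem_inf.mpr ⟨hvA, ?_⟩
      rw [Subgroup.mem_centralizer_iff]
      intro m hm
      exact hVc m (hM0V hm) v hvV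
    · intro he
      have h1 : a0 * x * a0⁻¹ * x⁻¹ ∈ A ⊓ V := by
        rw [he]
        exact ⟨hMB (hM0mem a0 ha0), hM0V (hM0mem a0 ha0)⟩
      exact hne (hAc b0 hb0 _ h1.1)
  · intro hVB v hv
    obtain ⟨m, hm, c, hc, rfl⟩ := hVB hv
    refine ⟨m, hM0D hm, c, Subgroup.mem_inf.mpr ⟨hCA hc, ?_⟩, rfl⟩
    have := V.mul_mem (V.inv_mem (hM0V hm)) hv
    rwa [inv_mul_cancel_left] at this

end Replacement

/-! ### The main theorem -/

section Main

variable {G : Type*} [Group G] [Finite G] {p : ℕ} [Fact p.Prime]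

/-- `Ω₁(Z(U))` : the elements of the centre of `U` with `v ^ p = 1`. -/
def omegaCenter (p : ℕ) (U : Subgroup G) : Subgroup G where
  carrier := {v | v ∈ U ∧ (∀ u ∈ U, u * v = v * u) ∧ v ^ p = 1}
  one_mem' := ⟨U.one_mem, fun u _ => by rw [mul_one, one_mul], one_pow p⟩
  mul_mem' := by
    rintro a b ⟨ha, ha2, ha3⟩ ⟨hb, hb2, hb3⟩
    refine ⟨U.mul_mem ha hb, fun u hu => ?_, ?_⟩
    · rw [← mul_assoc, ha2 u hu, mul_assoc, hb2 u hu, mul_assoc]
    · have : Commute a b := hb2 a ha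
      rw [this.mul_pow, ha3, hb3, one_mul]
  inv_mem' := by
    rintro a ⟨ha, ha2, ha3⟩
    refine ⟨U.inv_mem ha, fun u hu => ?_, ?_⟩
    · exact (Commute.inv_right (ha2 u hu) : Commute _ _)
    · rw [inv_pow, ha3, inv_one]

omit [Finite G] [Fact p.Prime] in
theorem mem_omegaCenter {U : Subgroup G} {v : G} :
    v ∈ omegaCenter p U ↔ v ∈ U ∧ (∀ u ∈ U, u * v = v * u) ∧ v ^ p = 1 := Iff.rfl

omit [Finite G] [Fact p.Prime] in
theorem omegaCenter_le {U : Subgroup G} : omegaCenter p U ≤ U := fun _ h => h.1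

omit [Finite G] [Fact p.Prime] in
theorem omegaCenter_normal {U : Subgroup G} (hUN : U.Normal) : (omegaCenter p U).Normal := by
  constructor
  rintro v ⟨hv1, hv2, hv3⟩ g
  refine ⟨hUN.conj_mem v hv1 g, fun u hu => ?_, ?_⟩
  · have h1 : g⁻¹ * u * g ∈ U := by
      have := hUN.conj_mem u hu g⁻¹
      rwa [inv_inv] at this
    have h2 := hv2 _ h1
    calc u * (g * v * g⁻¹) = g * ((g⁻¹ * u * g) * v) * g⁻¹ := by group
      _ = g * (v * (g⁻¹ * u * g)) * g⁻¹ := by rw [h2]
      _ = _ := by group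
  · rw [conj_pow, hv3, mul_one, mul_inv_cancel]

/-- A subgroup all of whose elements of order prime to `p` are trivial is a `p`-group. -/
theorem isPGroup_of_forall {C : Subgroup G}
    (h : ∀ y ∈ C, (orderOf y).Coprime p → y = 1) : IsPGroup p C := by
  intro y
  -- `p`-part of the order
  have hpp : p.Prime := Fact.out
  obtain ⟨k, m, hm, hk⟩ := Nat.exists_eq_pow_mul_and_not_dvd (orderOf_pos (y : G)).ne' p hpp.ne_one
  refine ⟨k, ?_⟩
  apply Subtype.ext
  rw [Subgroup.coe_pow, Subgroup.coe_one]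
  apply h _ (C.pow_mem y.2 _)
  have hdvd : orderOf ((y : G) ^ p ^ k) ∣ m := by
    apply orderOf_dvd_of_pow_eq_one
    rw [← pow_mul, ← hk, pow_orderOf_eq_one]
  exact Nat.Coprime.coprime_dvd_left hdvd (((Nat.Prime.coprime_iff_not_dvd hpp).mpr hm).symm)

/-- The centraliser of `Ω₁(Z(U))` is contained in `U`. -/
theorem centralizer_omegaCenter_le (P : Sylow p G) (U : Subgroup G) (hUN : U.Normal)
    (hU : IsPGroup p U) (hUmax : ∀ N : Subgroup G, N.Normal → IsPGroup p N → N ≤ U)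
    (hCU : Subgroup.centralizer (U : Set G) ≤ U)
    (hC : Subgroup.centralizer (((P : Subgroup G) ⊓ Subgroup.centralizer (P : Set G)) : Set G)
      ≤ (P : Subgroup G)) :
    Subgroup.centralizer (omegaCenter p U : Set G) ≤ U := by
  have hUP : U ≤ P := hU.le_sylow_of_normal P
  have hVN := omegaCenter_normal (p := p) hUN
  apply hUmax
  · infer_instance
  · apply isPGroup_of_forall
    intro y hy hyp
    -- `y` centralizes `Z(U)`
    have hZN : (U ⊓ Subgroup.centralizer (U : Set G)).Normal := by infer_instance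
    have h1 : Subgroup.zpowers y ≤
        Subgroup.centralizer ((U ⊓ Subgroup.centralizer (U : Set G) : Subgroup G) : Set G) := by
      apply Cfsg.Agent.Lib.CoprimeAbelian.le_centralizer_of_prime_order
      · rintro a ⟨ha1, _⟩ b ⟨_, hb2⟩
        exact Subgroup.mem_centralizer_iff.mp hb2 a ha1
      · rw [Subgroup.normalizer_eq_top_iff.mpr hZN]
        exact le_top
      · rw [Nat.card_zpowers]
        obtain ⟨n, hn⟩ := IsPGroup.iff_card.mp
          (hU.to_le (inf_le_left : U ⊓ Subgroup.centralizer (U : Set G) ≤ U))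
        rw [hn]
        exact Nat.Coprime.pow_right n hyp
      · intro v hv hvp a ha
        have hvV : v ∈ omegaCenter p U := by
          refine mem_omegaCenter.mpr ⟨hv.1, fun u hu => Subgroup.mem_centralizer_iff.mp hv.2 u hu, ?_⟩
          have h2 : orderOf v = p := by
            obtain ⟨n, hn⟩ := hU ⟨v, hv.1⟩
            have h3 : v ^ p ^ n = 1 := by
              have := congrArg Subtype.val hn
              simpa using this
            exact (Nat.prime_dvd_prime_iff_eq hvp Fact.out).mp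
              (hvp.dvd_of_dvd_pow (orderOf_dvd_of_pow_eq_one h3))
          rw [← h2, pow_orderOf_eq_one]
        have hay : a ∈ Subgroup.centralizer (omegaCenter p U : Set G) := by
          have : Subgroup.zpowers y ≤ Subgroup.centralizer (omegaCenter p U : Set G) := by
            rw [Subgroup.zpowers_le]
            exact hy
          exact this ha
        exact (Subgroup.mem_centralizer_iff.mp hay v hvV).symm
    have h2 : y ∈ Subgroup.centralizer
        (((P : Subgroup G) ⊓ Subgroup.centralizer (P : Set G)) : Set G) := by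
      rw [Subgroup.mem_centralizer_iff]
      rintro z hz
      have hz1 : z ∈ U := by
        apply hCU
        rw [Subgroup.mem_centralizer_iff]
        intro u hu
        exact Subgroup.mem_centralizer_iff.mp hz.2 u (hUP hu)
      have hz2 : z ∈ U ⊓ Subgroup.centralizer (U : Set G) := by
        refine Subgroup.mem_inf.mpr ⟨hz1, ?_⟩
        rw [Subgroup.mem_centralizer_iff]
        intro u hu
        exact Subgroup.mem_centralizer_iff.mp hz.2 u (hUP hu)
      exact Subgroup.mem_centralizer_iff.mp (h1 (Subgroup.mem_zpowers y)) z hz2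
    have h3 : y ∈ P := hC h2
    obtain ⟨n, hn⟩ := P.isPGroup' ⟨y, h3⟩
    have h4 : y ^ p ^ n = 1 := by
      have := congrArg Subtype.val hn
      simpa using this
    have h5 := orderOf_dvd_of_pow_eq_one h4
    have h6 : (orderOf y).Coprime (p ^ n) := Nat.Coprime.pow_right n hyp
    exact orderOf_eq_one_iff.mp (Nat.eq_one_of_dvd_coprimes h6 dvd_rfl h5)

/-- All elementary abelian subgroups of largest order of `P` lie in `U = O_p(G)`. -/
theorem le_of_mem_max (hp : p ≠ 2) (P : Sylow p G) (U M : Subgroup G) (hUN : U.Normal)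
    (hMN : M.Normal) (hU : IsPGroup p U)
    (hUmax : ∀ N : Subgroup G, N.Normal → IsPGroup p N → N ≤ U) (hUM : U ≤ M)
    (hMab : ⁅M, M⁆ ≤ U) (hMp : ¬ p ∣ U.relIndex M) (hPM : (P : Subgroup G) ⊔ M = ⊤)
    (hCV : Subgroup.centralizer (omegaCenter p U : Set G) ≤ U) (A : Subgroup G)
    (hA : A ∈ maxElementaryAbelianSubgroups p G) (hAP : A ≤ P) : A ≤ U := by
  classical
  by_contra hAU
  have hUP : U ≤ P := hU.le_sylow_of_normal P
  set V := omegaCenter p U with hVdef
  have hVN : V.Normal := omegaCenter_normal hUN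
  have hVU : V ≤ U := omegaCenter_le
  have hVc : ∀ v ∈ V, ∀ w ∈ V, v * w = w * v := fun v hv w hw => (hw.2.1) v (hVU hv)
  have hVp : ∀ v ∈ V, v ^ p = 1 := fun v hv => hv.2.2
  -- choose `A` with `|A ∩ V|` maximal
  obtain ⟨A, ⟨hA, hAP, hAU⟩, hAmax⟩ := Set.exists_max_image
    {A : Subgroup G | A ∈ maxElementaryAbelianSubgroups p G ∧ A ≤ P ∧ ¬ A ≤ U}
    (fun A => Nat.card (A ⊓ V : Subgroup G)) (Set.toFinite _) ⟨A, hA, hAP, hAU⟩
  have hAc := (isElementaryAbelian_iff.1 hA.1).1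
  -- quadratic action
  have hquad : ∀ x ∈ V, ∀ a ∈ A, ∀ b ∈ A,
      b * (a * x * a⁻¹ * x⁻¹) = (a * x * a⁻¹ * x⁻¹) * b := by
    intro x hx a0 ha0 b0 hb0
    by_contra hne
    obtain ⟨B, hB, hBAV, hlt, hVB⟩ := exists_replacement hVN hVc hVp hA hx ha0 hb0 hne
    have hBP : B ≤ P := hBAV.trans (sup_le hAP (hVU.trans hUP))
    have hBU : B ≤ U := by
      by_contra hBU
      have h1 := hAmax B ⟨hB, hBP, hBU⟩
      have h2 : Nat.card (A ⊓ V : Subgroup G) < Nat.card (B ⊓ V : Subgroup G) := by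
        refine lt_of_le_of_ne (Subgroup.card_le_of_le hlt.le) ?_
        intro he
        exact hlt.ne (Subgroup.eq_of_le_of_card_ge hlt.le he.ge)
      exact absurd h1 (not_le.mpr h2)
    -- `V ≤ B`
    have hBc := (isElementaryAbelian_iff.1 hB.1).1
    have hBp := (isElementaryAbelian_iff.1 hB.1).2
    have hBVel : IsElementaryAbelian p (B ⊔ V : Subgroup G) := by
      have hmem : ∀ z ∈ B ⊔ V, ∃ b ∈ B, ∃ v ∈ V, b * v = z := fun z hz =>
        Subgroup.mem_sup_of_normal_right.mp hz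
      rw [isElementaryAbelian_iff]
      constructor
      · intro z hz z' hz'
        obtain ⟨b, hb, v, hv, rfl⟩ := hmem z hz
        obtain ⟨b', hb', v', hv', rfl⟩ := hmem z' hz'
        have e1 : Commute b b' := hBc b hb b' hb'
        have e2 : Commute b v' := hv'.2.1 b (hBU hb)
        have e3 : Commute v b' := (hv.2.1 b' (hBU hb')).symm
        have e4 : Commute v v' := hVc v hv v' hv'
        exact (e1.mul_left e3).mul_right (e2.mul_left e4)
      · intro z hz
        obtain ⟨b, hb, v, hv, rfl⟩ := hmem z hz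
        have e2 : Commute b v := hv.2.1 b (hBU hb)
        rw [e2.mul_pow, hBp b hb, hVp v hv, one_mul]
    have hBV : B = B ⊔ V := eq_of_le_of_mem_max hB hBVel le_sup_left
    have hVB' : V ≤ B := by rw [hBV]; exact le_sup_right
    have h3 := hVB hVB'
    have h4 : ⁅V, A⁆ ≤ ⁅⁅V, A⁆, A⁆ := by
      rw [Subgroup.commutator_le]
      intro v hv a ha
      obtain ⟨d, hd, n, hn, rfl⟩ := h3 v hv
      have e1 : ⁅d * n, a⁆ = ⁅d, a⁆ := by
        rw [commutatorElement_def, commutatorElement_def]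
        have e2 : n * a = a * n := hAc n hn.1 a ha
        calc d * n * a * (d * n)⁻¹ * a⁻¹ = d * (n * a) * n⁻¹ * d⁻¹ * a⁻¹ := by group
          _ = d * (a * n) * n⁻¹ * d⁻¹ * a⁻¹ := by rw [e2]
          _ = _ := by group
      rw [e1]
      exact Subgroup.commutator_mem_commutator hd ha
    have h5 : ⁅V, A⁆ = ⊥ := by
      refine eq_bot_of_le_commutator (P := P) P.isPGroup' ?_ hAP h4
      refine le_trans ?_ (hVU.trans hUP)
      exact Subgroup.commutator_le_left V A
    have h6 : ⁅x, a0⁆ ∈ ⁅V, A⁆ := Subgroup.commutator_mem_commutator hx ha0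
    rw [h5, Subgroup.mem_bot, commutatorElement_eq_one_iff_mul_comm] at h6
    apply hne
    have h7 : a0 * x * a0⁻¹ * x⁻¹ = 1 := by
      rw [← h6]; group
    rw [h7, mul_one, one_mul]
  -- conclusion from the quadratic action
  have hstep : ∀ a ∈ A, ∀ x ∈ M, x⁻¹ * (a * x * a⁻¹) ∈ U := by
    intro a ha x hx
    let _ : CommGroup V := { (inferInstance : Group V) with
      mul_comm := fun x y => Subtype.ext (hVc x x.2 y y.2) }
    let φ : G →* MulAut V := MulAut.conjNormal
    have hφ : ∀ (g : G) (v : V), ((φ g v : V) : G) = g * v * g⁻¹ := fun g v =>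
      MulAut.conjNormal_apply g v
    have hker : ∀ g : G, (∀ v : V, φ g v = v) → g ∈ U := by
      intro g hg
      apply hCV
      rw [Subgroup.mem_centralizer_iff]
      intro v hv
      have := congrArg Subtype.val (hg ⟨v, hv⟩)
      rw [hφ] at this
      exact (mul_inv_eq_iff_eq_mul.mp this).symm
    have hker' : ∀ g ∈ U, φ g = 1 := by
      intro g hg
      ext v
      rw [hφ]
      have := v.2.2.1 g hg
      rw [this, mul_inv_cancel_right]
      rfl
    have hx1M : a * x * a⁻¹ ∈ M := hMN.conj_mem x hx a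
    have hx2M : a * (a * x * a⁻¹) * a⁻¹ ∈ M := hMN.conj_mem _ hx1M a
    have hcomm : ∀ x ∈ M, ∀ y ∈ M, φ (x * y) = φ (y * x) := by
      intro x hx y hy
      have h1 : ⁅x, y⁆ ∈ U := hMab (Subgroup.commutator_mem_commutator hx hy)
      have h2 : x * y = ⁅x, y⁆ * (y * x) := by
        rw [commutatorElement_def]; group
      rw [h2, map_mul, hker' _ h1, one_mul]
    have key := quadratic_action φ (Fact.out : p.Prime) hp
      (fun v => Subtype.ext (hVp v v.2)) a x ?_ (hcomm _ hx _ hx1M) (hcomm _ hx _ hx2M)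
    · have h1 := hker _ key
      -- `g ^ p ∈ U` with `g ∈ M`
      set g := (a * x * a⁻¹)⁻¹ * (a * (a * x * a⁻¹) * a⁻¹) with hg
      have hgM : g ∈ M := M.mul_mem (M.inv_mem hx1M) hx2M
      have h2 : g ∈ U := by
        have e1 : ((g : G) : G ⧸ U) ^ p = 1 := by
          rw [← QuotientGroup.mk_pow, QuotientGroup.eq_one_iff]
          exact h1
        have e2 : ((g : G) : G ⧸ U) ^ (U.relIndex M) = 1 := by
          rw [← QuotientGroup.mk_pow, QuotientGroup.eq_one_iff]
          have := (U.subgroupOf M).pow_index_mem ⟨g, hgM⟩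
          rw [Subgroup.mem_subgroupOf] at this
          exact this
        rw [← QuotientGroup.eq_one_iff]
        have e3 : orderOf ((g : G) : G ⧸ U) ∣ Nat.gcd p (U.relIndex M) :=
          Nat.dvd_gcd (orderOf_dvd_of_pow_eq_one e1) (orderOf_dvd_of_pow_eq_one e2)
        rw [(Nat.Prime.coprime_iff_not_dvd Fact.out).mpr hMp, Nat.dvd_one] at e3
        exact orderOf_eq_one_iff.mp e3
      have h3 : g = a * (x⁻¹ * (a * x * a⁻¹)) * a⁻¹ := by
        rw [hg]; group
      have h4 := hUN.conj_mem g h2 a⁻¹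
      rw [h3] at h4
      have h5 : a⁻¹ * (a * (x⁻¹ * (a * x * a⁻¹)) * a⁻¹) * a⁻¹⁻¹ = x⁻¹ * (a * x * a⁻¹) := by group
      rwa [h5] at h4
    · intro v
      apply Subtype.ext
      rw [Subgroup.coe_mul, Subgroup.coe_mul, hφ, hφ]
      have h1 := hquad v v.2 a ha a ha
      have h2 : a * (a * (v : G) * a⁻¹) * a⁻¹ = (a * v * a⁻¹ * (v : G)⁻¹) * (a * v * a⁻¹) := by
        calc a * (a * (v : G) * a⁻¹) * a⁻¹
            = (a * (a * (v : G) * a⁻¹ * (v : G)⁻¹)) * a⁻¹ * (a * v * a⁻¹) := by group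
          _ = _ := by rw [h1, mul_inv_cancel_right]
      rw [h2]
      have h3 : (v : G)⁻¹ * (a * v * a⁻¹) = (a * v * a⁻¹) * (v : G)⁻¹ :=
        (Commute.inv_left (hVc v v.2 _ (hVN.conj_mem v v.2 a)) : Commute _ _)
      calc a * (v : G) * a⁻¹ * (v : G)⁻¹ * (a * v * a⁻¹) * v
          = a * (v : G) * a⁻¹ * ((v : G)⁻¹ * (a * v * a⁻¹)) * v := by group
        _ = a * (v : G) * a⁻¹ * ((a * v * a⁻¹) * (v : G)⁻¹) * v := by rw [h3]
        _ = _ := by group
  -- the subgroup `D`
  let D : Subgroup G :=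
    { carrier := {g | g ∈ P ∧ ∀ x ∈ M, x⁻¹ * (g * x * g⁻¹) ∈ U}
      one_mem' := ⟨P.one_mem, fun x _ => by
        have : x⁻¹ * (1 * x * 1⁻¹) = 1 := by group
        rw [this]; exact U.one_mem⟩
      mul_mem' := by
        rintro g h ⟨hg1, hg2⟩ ⟨hh1, hh2⟩
        refine ⟨P.mul_mem hg1 hh1, fun x hx => ?_⟩
        have h1 := hg2 (h * x * h⁻¹) (hMN.conj_mem x hx h)
        have h2 := hh2 x hx
        have : x⁻¹ * (g * h * x * (g * h)⁻¹)
            = (x⁻¹ * (h * x * h⁻¹)) * ((h * x * h⁻¹)⁻¹ * (g * (h * x * h⁻¹) * g⁻¹)) := by group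
        rw [this]
        exact U.mul_mem h2 h1
      inv_mem' := by
        rintro g ⟨hg1, hg2⟩
        refine ⟨P.inv_mem hg1, fun x hx => ?_⟩
        have h1 := hg2 (g⁻¹ * x * g⁻¹⁻¹) (hMN.conj_mem x hx g⁻¹)
        have : x⁻¹ * (g⁻¹ * x * g⁻¹⁻¹)
            = ((g⁻¹ * x * g⁻¹⁻¹)⁻¹ * (g * (g⁻¹ * x * g⁻¹⁻¹) * g⁻¹))⁻¹ := by group
        rw [this]
        exact U.inv_mem h1 }
  have hDP : D ≤ P := fun g hg => hg.1
  have hDN : D.Normal := by
    constructor
    rintro g ⟨hg1, hg2⟩ k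
    refine ⟨?_, fun x hx => ?_⟩
    · have hk : k ∈ (P : Subgroup G) ⊔ M := by rw [hPM]; trivial
      obtain ⟨s, hs, m, hm, rfl⟩ := Subgroup.mem_sup_of_normal_right.mp hk
      have h1 := hg2 m⁻¹ (M.inv_mem hm)
      have h2 : s * m * g * (s * m)⁻¹ = s * ((m⁻¹⁻¹ * (g * m⁻¹ * g⁻¹)) * g) * s⁻¹ := by group
      rw [h2]
      exact P.mul_mem (P.mul_mem hs (P.mul_mem (hUP h1) hg1)) (P.inv_mem hs)
    · have h1 := hg2 (k⁻¹ * x * k⁻¹⁻¹) (hMN.conj_mem x hx k⁻¹)
      have h2 := hUN.conj_mem _ h1 k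
      have h3 : k * ((k⁻¹ * x * k⁻¹⁻¹)⁻¹ * (g * (k⁻¹ * x * k⁻¹⁻¹) * g⁻¹)) * k⁻¹
          = x⁻¹ * (k * g * k⁻¹ * x * (k * g * k⁻¹)⁻¹) := by group
      rwa [h3] at h2
  have hDU : D ≤ U := hUmax D hDN (P.isPGroup'.to_le hDP)
  exact hAU (le_trans (fun a ha => ⟨hAP ha, hstep a ha⟩ : A ≤ D) hDU)

/-- The final step of the Thompson normal `p`-complement theorem: `J(P)` is normal. -/
theorem thompsonSubgroupOf_normal {G : Type*} [Group G] [Finite G] {p : ℕ} [Fact p.Prime]
    (hp : p ≠ 2) (P : Sylow p G) (U M : Subgroup G) [U.Normal] [M.Normal] (hU : IsPGroup p U)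
    (hUmax : ∀ N : Subgroup G, N.Normal → IsPGroup p N → N ≤ U) (hUM : U ≤ M)
    (hMab : ⁅M, M⁆ ≤ U) (hMp : ¬ p ∣ U.relIndex M) (hPM : (P : Subgroup G) ⊔ M = ⊤)
    (hCU : Subgroup.centralizer (U : Set G) ≤ U)
    (hC : Subgroup.centralizer (((P : Subgroup G) ⊓ Subgroup.centralizer (P : Set G)) : Set G)
      ≤ (P : Subgroup G)) :
    (Cfsg.thompsonSubgroupOf p (P : Subgroup G)).Normal := by
  have hUN : U.Normal := inferInstance
  have hMN : M.Normal := inferInstance
  have hUP : U ≤ P := hU.le_sylow_of_normal P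
  have hCV := centralizer_omegaCenter_le P U hUN hU hUmax hCU hC
  have key := le_of_mem_max hp P U M hUN hMN hU hUmax hUM hMab hMp hPM hCV
  obtain ⟨B, hB, hBP⟩ := exists_max_le_sylow P
  have h1 : thompsonSubgroupOf p (P : Subgroup G) = thompsonSubgroupOf p U := by
    rw [thompsonSubgroupOf_eq_sSup hB hBP, thompsonSubgroupOf_eq_sSup hB (key B hB hBP)]
    congr 1
    ext A
    constructor
    · rintro ⟨hA, hAP⟩
      exact ⟨hA, key A hA hAP⟩
    · rintro ⟨hA, hAU⟩
      exact ⟨hA, hAU.trans hUP⟩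
  rw [h1, thompsonSubgroupOf_def]
  have := thompsonSubgroup_characteristic p U
  infer_instance

end Main

end Cfsg.Agent.Transfer.ThompsonNormalJ
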