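import Mathlib
import Cfsg.Prelude.Def_Transfer
set_option linter.all false

/-!
# Basic facts on the residual `O^p(G)` (`Cfsg.pResidual`)
-/

set_option autoImplicit false

namespace Cfsg.Agent.Transfer.Residual

open Cfsg

universe u v

variable {G : Type u} [Group G]

theorem pResidual_def (p : ℕ) (G : Type u) [Group G] :
    pResidual p G = Subgroup.closure {g : G | Nat.Coprime (orderOf g) p} := rfl

theorem mem_pResidual_of_coprime {p : ℕ} {g : G} (h : Nat.Coprime (orderOf g) p) :
    g ∈ pResidual p G := Subgroup.subset_closure h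

/-- the residual under a homomorphism: image of a `p'`-element of finite order is a `p'`-element -/
theorem map_pResidual_le {K : Type v} [Group K] (p : ℕ) (f : G →* K) :
    (pResidual p G).map f ≤ pResidual p K := by
  rw [pResidual_def, MonoidHom.map_closure, Subgroup.closure_le]
  rintro _ ⟨g, hg, rfl⟩
  exact mem_pResidual_of_coprime (Nat.Coprime.coprime_dvd_left (orderOf_map_dvd f g) hg)

theorem map_pResidual_equiv {K : Type v} [Group K] (p : ℕ) (e : G ≃* K) :
    (pResidual p G).map e.toMonoidHom = pResidual p K := by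
  refine le_antisymm (map_pResidual_le p _) ?_
  intro k hk
  have : e.symm k ∈ pResidual p G := by
    have h := map_pResidual_le p e.symm.toMonoidHom
    exact h (Subgroup.mem_map_of_mem _ hk)
  exact ⟨e.symm k, this, by simp⟩

theorem pResidual_characteristic (p : ℕ) : (pResidual p G).Characteristic :=
  Subgroup.characteristic_iff_map_eq.mpr fun e => map_pResidual_equiv p e

theorem pResidual_normal (p : ℕ) : (pResidual p G).Normal :=
  have := pResidual_characteristic (G := G) p
  inferInstance

theorem conj_mem_pResidual {p : ℕ} {x : G} (hx : x ∈ pResidual p G) (g : G) :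
    g * x * g⁻¹ ∈ pResidual p G := (pResidual_normal p).conj_mem x hx g

/-- `O^p(G)` is killed by every homomorphism to a `p`-group. -/
theorem pResidual_le_ker {p : ℕ} [hp : Fact p.Prime] {K : Type v} [Group K] (hK : IsPGroup p K)
    (f : G →* K) : pResidual p G ≤ f.ker := by
  rw [pResidual_def, Subgroup.closure_le]
  intro g hg
  obtain ⟨k, hk⟩ := IsPGroup.iff_orderOf.mp hK (f g)
  have h1 : orderOf (f g) ∣ orderOf g := orderOf_map_dvd f g
  have h2 : Nat.Coprime (orderOf (f g)) p := Nat.Coprime.coprime_dvd_left h1 hg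
  have h3 : orderOf (f g) = 1 := by
    rw [hk] at h2 ⊢
    rcases Nat.eq_zero_or_pos k with rfl | hk0
    · simp
    · exfalso
      have := Nat.Coprime.coprime_dvd_left (dvd_pow_self p hk0.ne') h2
      rw [Nat.coprime_self] at this
      exact hp.out.one_lt.ne' this
  exact orderOf_eq_one_iff.mp h3

theorem pResidual_le_of_isPGroup_quotient {p : ℕ} [Fact p.Prime] {N : Subgroup G} [N.Normal]
    (hN : IsPGroup p (G ⧸ N)) : pResidual p G ≤ N := by
  have := pResidual_le_ker hN (QuotientGroup.mk' N)
  rwa [QuotientGroup.ker_mk'] at this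

/-- In a finite group every element is a product of a power which has `p`-power order and a
power of order prime to `p`; more precisely a power `g ^ p ^ k` has order prime to `p`. -/
theorem exists_pow_prime_pow_coprime [Finite G] (p : ℕ) [hp : Fact p.Prime] (g : G) :
    ∃ k : ℕ, Nat.Coprime (orderOf (g ^ p ^ k)) p := by
  obtain ⟨k, m, hm, hk⟩ := Nat.exists_eq_pow_mul_and_not_dvd (orderOf_pos g).ne' p hp.out.ne_one
  refine ⟨k, ?_⟩
  have hpk : p ^ k ≠ 0 := pow_ne_zero _ hp.out.ne_zero
  have : orderOf (g ^ p ^ k) = m := by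
    rw [orderOf_pow_of_dvd hpk (hk ▸ dvd_mul_right _ _), hk, Nat.mul_div_cancel_left _
      (Nat.pos_of_ne_zero hpk)]
  rw [this, Nat.coprime_comm]
  exact (Nat.Prime.coprime_iff_not_dvd hp.out).mpr hm

theorem isPGroup_quotient_of_pResidual_le [Finite G] {p : ℕ} [Fact p.Prime] {N : Subgroup G}
    [N.Normal] (hN : pResidual p G ≤ N) : IsPGroup p (G ⧸ N) := by
  intro x
  induction x using QuotientGroup.induction_on with
  | H g =>
    obtain ⟨k, hk⟩ := exists_pow_prime_pow_coprime p g
    refine ⟨k, ?_⟩
    rw [← QuotientGroup.mk_pow]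
    exact (QuotientGroup.eq_one_iff _).mpr (hN (mem_pResidual_of_coprime hk))

/-- `O^p(G) ≤ N` iff `G / N` is a `p`-group. -/
theorem pResidual_le_iff [Finite G] {p : ℕ} [Fact p.Prime] {N : Subgroup G} [N.Normal] :
    pResidual p G ≤ N ↔ IsPGroup p (G ⧸ N) :=
  ⟨isPGroup_quotient_of_pResidual_le, pResidual_le_of_isPGroup_quotient⟩

/-- `G / O^p(G)` is a `p`-group (stated with the normality proof as an explicit instance). -/
theorem isPGroup_quotient_pResidual [Finite G] {p : ℕ} [Fact p.Prime]
    [h : (pResidual p G).Normal] : IsPGroup p (G ⧸ pResidual p G) :=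
  isPGroup_quotient_of_pResidual_le le_rfl

theorem exists_pow_mem_pResidual [Finite G] (p : ℕ) [Fact p.Prime] (g : G) :
    ∃ k : ℕ, g ^ p ^ k ∈ pResidual p G := by
  obtain ⟨k, hk⟩ := exists_pow_prime_pow_coprime p g
  exact ⟨k, mem_pResidual_of_coprime hk⟩

/-- The index of `O^p(G)` is a power of `p`. -/
theorem exists_index_pResidual_eq_pow [Finite G] (p : ℕ) [Fact p.Prime] :
    ∃ k : ℕ, (pResidual p G).index = p ^ k := by
  have := pResidual_normal (G := G) p
  exact IsPGroup.iff_card.mp (isPGroup_quotient_pResidual (G := G) (p := p))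

/-- The residual of a subgroup is contained in the residual. -/
theorem pResidual_subgroup_le (p : ℕ) (H : Subgroup G) :
    (pResidual p H).map H.subtype ≤ pResidual p G := map_pResidual_le p _

theorem pResidual_subgroup_le_inf (p : ℕ) (H : Subgroup G) :
    (pResidual p H).map H.subtype ≤ H ⊓ pResidual p G :=
  le_inf (Subgroup.map_subtype_le _) (pResidual_subgroup_le p H)

/-- A normal subgroup `N` with `p`-power index contained together with a subgroup of index prime
to `p` generates everything. -/
theorem sup_eq_top_of_not_dvd_index [Finite G] {p : ℕ} [Fact p.Prime] {H N : Subgroup G}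
    [N.Normal] (hN : IsPGroup p (G ⧸ N)) (hH : ¬ p ∣ H.index) : N ⊔ H = ⊤ := by
  have h1 : (N ⊔ H).index ∣ H.index := Subgroup.index_dvd_of_le le_sup_right
  have h2 : (N ⊔ H).index ∣ N.index := Subgroup.index_dvd_of_le le_sup_left
  obtain ⟨k, hk⟩ := IsPGroup.iff_card.mp hN
  have h3 : N.index = p ^ k := hk
  rw [h3] at h2
  have h4 : Nat.Coprime (p ^ k) H.index :=
    Nat.Coprime.pow_left _ ((Nat.Prime.coprime_iff_not_dvd (Fact.out)).mpr hH)
  exact Subgroup.index_eq_one.mp (Nat.eq_one_of_dvd_coprimes h4 h2 h1)

/-- `G = O^p(G) H` for `H` of index prime to `p`. -/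
theorem pResidual_sup_of_not_dvd_index [Finite G] {p : ℕ} [Fact p.Prime] {H : Subgroup G}
    (hH : ¬ p ∣ H.index) : pResidual p G ⊔ H = ⊤ := by
  have := pResidual_normal (G := G) p
  exact sup_eq_top_of_not_dvd_index isPGroup_quotient_pResidual hH

/-- `G = O^p(G) P`. -/
theorem pResidual_sup_sylow [Finite G] {p : ℕ} [Fact p.Prime] (P : Sylow p G) :
    pResidual p G ⊔ (P : Subgroup G) = ⊤ :=
  pResidual_sup_of_not_dvd_index P.not_dvd_index

/-- Two homomorphisms to a `p`-group which agree on a subgroup of index prime to `p` are equal. -/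
theorem hom_eq_of_eq_on [Finite G] {p : ℕ} [Fact p.Prime] {H : Subgroup G}
    (hH : ¬ p ∣ H.index) {K : Type v} [Group K] (hK : IsPGroup p K) {f f' : G →* K}
    (h : ∀ x ∈ H, f x = f' x) : f = f' := by
  have h1 : pResidual p G ⊔ H ≤ f.eqLocus f' := by
    refine sup_le ?_ ?_
    · intro x hx
      have h2 : f x = 1 := pResidual_le_ker hK f hx
      have h3 : f' x = 1 := pResidual_le_ker hK f' hx
      exact h2.trans h3.symm
    · intro x hx
      exact h x hx
  rw [pResidual_sup_of_not_dvd_index hH] at h1
  exact MonoidHom.ext fun x => h1 (Subgroup.mem_top x)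

/-- The image of `O^p(G)` under a surjection is `O^p` of the image. -/
theorem map_pResidual_of_surjective [Finite G] {K : Type v} [Group K] {p : ℕ} [Fact p.Prime]
    (f : G →* K) (hf : Function.Surjective f) : (pResidual p G).map f = pResidual p K := by
  have := pResidual_normal (G := G) p
  have : Finite K := Finite.of_surjective f hf
  have : ((pResidual p G).map f).Normal := Subgroup.Normal.map inferInstance f hf
  refine le_antisymm (map_pResidual_le p f) ?_
  rw [pResidual_le_iff]
  intro x
  induction x using QuotientGroup.induction_on with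
  | H k =>
    obtain ⟨g, rfl⟩ := hf k
    obtain ⟨n, hn⟩ := exists_pow_mem_pResidual p g
    refine ⟨n, ?_⟩
    rw [← QuotientGroup.mk_pow, ← map_pow]
    exact (QuotientGroup.eq_one_iff _).mpr (Subgroup.mem_map_of_mem _ hn)

end Cfsg.Agent.Transfer.Residual
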