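import Mathlib
import Cfsg.Prelude.Def_Transfer
import Cfsg.Agent.Transfer.Residual
set_option linter.all false

/-!
# Basic facts on groups with a normal `p`-complement

`HasNormalPComplement p G` holds iff `O^p(G)` is a `p'`-group; inheritance by subgroups, images
and extensions by normal `p'`-subgroups.
-/

set_option autoImplicit false

namespace Cfsg.Agent.Transfer.PNilpotentBasic

open Cfsg Cfsg.Agent.Transfer.Residual

universe u v

variable {G : Type u} [Group G] [Finite G] {p : ℕ} [Fact p.Prime]

/-- A group has a normal `p`-complement iff its residual `O^p(G)` has order prime to `p`. -/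
theorem hnc_iff : HasNormalPComplement p G ↔ (Nat.card (pResidual p G)).Coprime p := by
  have hp : p.Prime := Fact.out
  constructor
  · rintro ⟨P, N, hN, hc⟩
    have h1 : pResidual p G ≤ N :=
      pResidual_le_of_isPGroup_quotient (P.isPGroup'.of_equiv hc.symm.QuotientMulEquiv.symm)
    have h2 : (P : Subgroup G).index = Nat.card N := hc.index_eq_card
    have h3 : (Nat.card N).Coprime p := by
      rw [← h2, Nat.coprime_comm, Nat.Prime.coprime_iff_not_dvd hp]
      exact P.not_dvd_index
    exact Nat.Coprime.coprime_dvd_left (Subgroup.card_dvd_of_le h1) h3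
  · intro h
    obtain ⟨P⟩ := (Sylow.nonempty : Nonempty (Sylow p G))
    have hR := pResidual_normal (G := G) p
    refine ⟨P, pResidual p G, hR, ?_⟩
    obtain ⟨n, hn⟩ := IsPGroup.iff_card.1 P.isPGroup'
    apply Subgroup.isComplement'_of_disjoint_and_mul_eq_univ
    · have h4 : (Nat.card (pResidual p G)).Coprime (Nat.card (P : Subgroup G)) := by
        rw [hn]
        exact Nat.Coprime.pow_right _ h
      exact Subgroup.disjoint_of_coprime_natCard h4
    · rw [← Subgroup.normal_mul, pResidual_sup_sylow P, Subgroup.coe_top]

/-- Criterion: a normal `p'`-subgroup with quotient a `p`-group. -/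
theorem hnc_of_normal (N : Subgroup G) [N.Normal] (h1 : (Nat.card N).Coprime p)
    (h2 : IsPGroup p (G ⧸ N)) : HasNormalPComplement p G :=
  hnc_iff.2 (Nat.Coprime.coprime_dvd_left
    (Subgroup.card_dvd_of_le (pResidual_le_of_isPGroup_quotient h2)) h1)

theorem hnc_of_injective {H : Type v} [Group H] (f : H →* G)
    (hf : Function.Injective f) (h : HasNormalPComplement p G) : HasNormalPComplement p H := by
  have : Finite H := Finite.of_injective f hf
  rw [hnc_iff] at h ⊢
  have h1 := Subgroup.card_dvd_of_le (map_pResidual_le p f)
  have h2 : Nat.card ((pResidual p H).map f) = Nat.card (pResidual p H) :=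
    (Nat.card_congr ((pResidual p H).equivMapOfInjective f hf).toEquiv).symm
  rw [h2] at h1
  exact Nat.Coprime.coprime_dvd_left h1 h

theorem hnc_of_surjective {H : Type v} [Group H] (f : G →* H)
    (hf : Function.Surjective f) (h : HasNormalPComplement p G) : HasNormalPComplement p H := by
  have : Finite H := Finite.of_surjective f hf
  rw [hnc_iff] at h ⊢
  rw [← map_pResidual_of_surjective f hf]
  exact Nat.Coprime.coprime_dvd_left (Subgroup.card_map_dvd _ f) h

theorem hnc_congr {H : Type v} [Group H] (e : H ≃* G) :
    HasNormalPComplement p G ↔ HasNormalPComplement p H := by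
  have : Finite H := Finite.of_injective e e.injective
  exact ⟨hnc_of_injective e.toMonoidHom e.injective, hnc_of_injective e.symm.toMonoidHom e.symm.injective⟩

theorem hnc_subgroup (H : Subgroup G) (h : HasNormalPComplement p G) : HasNormalPComplement p H :=
  hnc_of_injective H.subtype H.subtype_injective h

theorem hnc_of_le {H K : Subgroup G} (hHK : H ≤ K) (h : HasNormalPComplement p K) :
    HasNormalPComplement p H :=
  hnc_of_injective (Subgroup.inclusion hHK) (Subgroup.inclusion_injective hHK) h

theorem hnc_top : HasNormalPComplement p (⊤ : Subgroup G) ↔ HasNormalPComplement p G :=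
  (hnc_congr Subgroup.topEquiv).symm

/-- image of a subgroup with a normal `p`-complement. -/
theorem hnc_map {H : Type v} [Group H] (f : G →* H) (K : Subgroup G)
    (h : HasNormalPComplement p K) : HasNormalPComplement p (K.map f) :=
  hnc_of_surjective (f.subgroupMap K) (f.subgroupMap_surjective K) h

omit [Finite G] in
/-- preimage form: a subgroup `H` of `G` whose image under an injective `f` is inside `K`. -/
theorem hnc_of_map_le {H : Type v} [Group H] [Finite H] (f : G →* H) (hf : Function.Injective f)
    (L : Subgroup G) (K : Subgroup H) (hLK : L.map f ≤ K)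
    (h : HasNormalPComplement p K) : HasNormalPComplement p L :=
  (hnc_congr (L.equivMapOfInjective f hf)).1 (hnc_of_le hLK h)

theorem hnc_of_quotient (N : Subgroup G) [N.Normal] (hN : (Nat.card N).Coprime p)
    (h : HasNormalPComplement p (G ⧸ N)) : HasNormalPComplement p G := by
  rw [hnc_iff] at h ⊢
  rw [← map_pResidual_of_surjective (QuotientGroup.mk' N) (QuotientGroup.mk'_surjective N),
    ← Subgroup.relIndex_ker, QuotientGroup.ker_mk'] at h
  have h1 : N.relIndex (pResidual p G) * Nat.card (N.subgroupOf (pResidual p G)) =
      Nat.card (pResidual p G) := (N.subgroupOf (pResidual p G)).index_mul_card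
  have h2 : Nat.card (N.subgroupOf (pResidual p G)) ∣ Nat.card N := by
    rw [Nat.card_congr ((N.subgroupOf (pResidual p G)).equivMapOfInjective _
      (Subgroup.subtype_injective _)).toEquiv]
    refine Subgroup.card_dvd_of_le ?_
    rw [Subgroup.subgroupOf_map_subtype]
    exact inf_le_left
  rw [← h1]
  exact Nat.Coprime.mul_left h (Nat.Coprime.coprime_dvd_left h2 hN)

theorem hnc_of_isPGroup (h : IsPGroup p G) : HasNormalPComplement p G := by
  refine hnc_of_normal ⊥ ?_ (h.to_quotient ⊥)
  rw [Subgroup.card_bot]
  exact Nat.coprime_one_left p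

theorem hnc_of_coprime (h : (Nat.card G).Coprime p) : HasNormalPComplement p G := by
  rw [hnc_iff]
  exact Nat.Coprime.coprime_dvd_left (Subgroup.card_subgroup_dvd_card _) h

end Cfsg.Agent.Transfer.PNilpotentBasic
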