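import Mathlib
import Cfsg.Prelude.Def_Transfer
import Cfsg.Agent.Transfer.Residual
import Cfsg.Agent.Transfer.PNilpotentBasic
import Cfsg.Agent.PLocal.ThompsonJ
import Cfsg.Agent.Lib.PGroupCoprimeAction
set_option linter.all false

/-!
# Reduction for the Thompson normal `p`-complement theorem
-/

set_option autoImplicit false

namespace Cfsg.Agent.Transfer.ThompsonReduction

open Cfsg Cfsg.Agent.Transfer.Residual Cfsg.Agent.Transfer.PNilpotentBasic
open Cfsg.Agent.PLocal.ThompsonJ
open scoped Pointwise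

universe u v

section Frattini

variable {G : Type u} [Group G] [Finite G] {p : ℕ} [Fact p.Prime]

theorem relIndex_sup_of_coprime (X N : Subgroup G) [N.Normal] (hX : IsPGroup p X)
    (hN : (Nat.card N).Coprime p) : X.relIndex (X ⊔ N) = Nat.card N := by
  obtain ⟨a, ha⟩ := IsPGroup.iff_card.1 hX
  have hcop : (Nat.card N).Coprime (Nat.card X) := by
    rw [ha]; exact Nat.Coprime.pow_right _ hN
  have h1 : N.subgroupOf X = ⊥ := by
    rw [Subgroup.subgroupOf_eq_bot]
    exact Subgroup.disjoint_of_coprime_natCard hcop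
  have h2 : N.relIndex X = Nat.card X := by
    rw [Subgroup.relIndex, h1, Subgroup.index_bot]
  have h3 : N.relIndex (X ⊔ N) * Nat.card N = Nat.card (X ⊔ N : Subgroup G) := by
    rw [← Nat.card_congr (Subgroup.subgroupOfEquivOfLe (le_sup_right : N ≤ X ⊔ N)).toEquiv]
    exact Subgroup.index_mul_card _
  have h4 : X.relIndex (X ⊔ N) * Nat.card X = Nat.card (X ⊔ N : Subgroup G) := by
    rw [← Nat.card_congr (Subgroup.subgroupOfEquivOfLe (le_sup_left : X ≤ X ⊔ N)).toEquiv]
    exact Subgroup.index_mul_card _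
  rw [Subgroup.relIndex_sup_right, h2] at h3
  rw [← h3, mul_comm] at h4
  exact Nat.eq_of_mul_eq_mul_left Nat.card_pos h4

theorem exists_conj_of_sup_eq (X Y N : Subgroup G) [N.Normal] (hX : IsPGroup p X)
    (hY : IsPGroup p Y) (hN : (Nat.card N).Coprime p) (h : Y ⊔ N = X ⊔ N) :
    ∃ n ∈ N, ∀ y : G, y ∈ Y ↔ n * y * n⁻¹ ∈ X := by
  have hp : p.Prime := Fact.out
  set K : Subgroup G := X ⊔ N with hK
  have hXK : X ≤ K := le_sup_left
  have hYK : Y ≤ K := h ▸ le_sup_left
  have hpN : ¬ p ∣ Nat.card N := by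
    rw [← Nat.Prime.coprime_iff_not_dvd hp, Nat.coprime_comm]; exact hN
  have hX' : IsPGroup p (X.subgroupOf K) := hX.of_equiv (Subgroup.subgroupOfEquivOfLe hXK).symm
  have hY' : IsPGroup p (Y.subgroupOf K) := hY.of_equiv (Subgroup.subgroupOfEquivOfLe hYK).symm
  have hXi : ¬ p ∣ (X.subgroupOf K).index := by
    change ¬ p ∣ X.relIndex (X ⊔ N)
    rw [relIndex_sup_of_coprime X N hX hN]
    exact hpN
  have hYi : ¬ p ∣ (Y.subgroupOf K).index := by
    change ¬ p ∣ Y.relIndex K
    rw [← h, relIndex_sup_of_coprime Y N hY hN]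
    exact hpN
  obtain ⟨k, hk⟩ := MulAction.exists_smul_eq K (hY'.toSylow hYi) (hX'.toSylow hXi)
  have hk' : MulAut.conj k • (Y.subgroupOf K) = X.subgroupOf K := by
    have := congrArg (fun Q : Sylow p K => (Q : Subgroup K)) hk
    simpa [Sylow.coe_subgroup_smul] using this
  obtain ⟨x, hx, n, hn, hxn⟩ := Subgroup.mem_sup_of_normal_right.1 k.2
  refine ⟨n, hn, fun y => ?_⟩
  have key : ∀ z : K, z ∈ Y.subgroupOf K ↔ k * z * k⁻¹ ∈ X.subgroupOf K := by
    intro z
    rw [← hk', Subgroup.mem_pointwise_smul_iff_inv_smul_mem, MulAut.smul_def, ← map_inv,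
      MulAut.conj_apply, inv_inv]
    have : k⁻¹ * (k * z * k⁻¹) * k = z := by group
    rw [this]
  have hconj : ∀ z : G, n * z * n⁻¹ ∈ X ↔ (k : G) * z * (k : G)⁻¹ ∈ X := by
    intro z
    have h1 : (k : G) * z * (k : G)⁻¹ = x * (n * z * n⁻¹) * x⁻¹ := by
      rw [← hxn]; group
    rw [h1]
    constructor
    · intro h2
      exact X.mul_mem (X.mul_mem hx h2) (X.inv_mem hx)
    · intro h2
      have h3 := X.mul_mem (X.mul_mem (X.inv_mem hx) h2) hx
      have h4 : x⁻¹ * (x * (n * z * n⁻¹) * x⁻¹) * x = n * z * n⁻¹ := by group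
      rwa [h4] at h3
  rw [hconj]
  constructor
  · intro hy
    have := (key ⟨y, hYK hy⟩).1 (Subgroup.mem_subgroupOf.2 hy)
    exact Subgroup.mem_subgroupOf.1 this
  · intro hy
    have hyK : y ∈ K := by
      have h1 : (k : G)⁻¹ * ((k : G) * y * (k : G)⁻¹) * k ∈ K :=
        K.mul_mem (K.mul_mem (K.inv_mem k.2) (hXK hy)) k.2
      have h2 : (k : G)⁻¹ * ((k : G) * y * (k : G)⁻¹) * k = y := by group
      rwa [h2] at h1
    exact Subgroup.mem_subgroupOf.1 ((key ⟨y, hyK⟩).2 (Subgroup.mem_subgroupOf.2 hy))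

/-- Frattini argument: normalizers of `p`-subgroups in `G/N`, `N` a normal `p'`-subgroup. -/
theorem normalizer_map_mk_le (X N : Subgroup G) [N.Normal] (hX : IsPGroup p X)
    (hN : (Nat.card N).Coprime p) :
    Subgroup.normalizer ((X.map (QuotientGroup.mk' N) : Subgroup (G ⧸ N)) : Set (G ⧸ N)) ≤
      (Subgroup.normalizer (X : Set G)).map (QuotientGroup.mk' N) := by
  intro y hy
  obtain ⟨g, rfl⟩ := QuotientGroup.mk'_surjective N y
  -- Y = g X g⁻¹
  have hY : IsPGroup p (X.map (MulAut.conj g).toMonoidHom) := hX.map _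
  have h1 : (X.map (MulAut.conj g).toMonoidHom).map (QuotientGroup.mk' N) =
      X.map (QuotientGroup.mk' N) := by
    rw [Subgroup.map_map]
    have h2 : (QuotientGroup.mk' N).comp (MulAut.conj g).toMonoidHom =
        (MulAut.conj (QuotientGroup.mk' N g)).toMonoidHom.comp (QuotientGroup.mk' N) := by
      ext z
      simp
    rw [h2, ← Subgroup.map_map]
    exact (Subgroup.mem_normalizer_iff_map_conj_eq).1 hy
  have h3 : X.map (MulAut.conj g).toMonoidHom ⊔ N = X ⊔ N := by
    have := congrArg (Subgroup.comap (QuotientGroup.mk' N)) h1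
    rwa [Subgroup.comap_map_eq, Subgroup.comap_map_eq, QuotientGroup.ker_mk'] at this
  obtain ⟨n, hn, hnY⟩ := exists_conj_of_sup_eq X _ N hX hY hN h3
  refine ⟨n * g, ?_, ?_⟩
  · rw [SetLike.mem_coe, Subgroup.mem_normalizer_iff]
    intro z
    have h4 := hnY (g * z * g⁻¹)
    have h5 : n * (g * z * g⁻¹) * n⁻¹ = n * g * z * (n * g)⁻¹ := by group
    rw [h5] at h4
    rw [← h4]
    constructor
    · intro hz
      exact ⟨z, hz, by simp⟩
    · rintro ⟨w, hw, hwz⟩
      have h6 : g * w * g⁻¹ = g * z * g⁻¹ := by simpa using hwz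
      have h7 : w = z := by simpa using h6
      exact h7 ▸ hw
  · rw [map_mul]
    have : (QuotientGroup.mk' N) n = 1 := by
      rw [← MonoidHom.mem_ker, QuotientGroup.ker_mk']; exact hn
    rw [this, one_mul]

/-- Frattini argument: centralizers of `p`-subgroups in `G/N`, `N` a normal `p'`-subgroup. -/
theorem centralizer_map_mk_le (X N : Subgroup G) [N.Normal] (hX : IsPGroup p X)
    (hN : (Nat.card N).Coprime p) :
    Subgroup.centralizer ((X.map (QuotientGroup.mk' N) : Subgroup (G ⧸ N)) : Set (G ⧸ N)) ≤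
      (Subgroup.centralizer (X : Set G)).map (QuotientGroup.mk' N) := by
  intro y hy
  obtain ⟨h, hh, hhy⟩ := normalizer_map_mk_le X N hX hN
    (Subgroup.centralizer_le_normalizer _ hy)
  refine ⟨h, ?_, hhy⟩
  obtain ⟨a, ha⟩ := IsPGroup.iff_card.1 hX
  have hcop : (Nat.card N).Coprime (Nat.card X) := by
    rw [ha]; exact Nat.Coprime.pow_right _ hN
  have hdisj : Disjoint N X := Subgroup.disjoint_of_coprime_natCard hcop
  rw [SetLike.mem_coe, Subgroup.mem_centralizer_iff]
  intro x hx
  rw [← hhy, Subgroup.mem_centralizer_iff] at hy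
  have h1 := hy (QuotientGroup.mk' N x) ⟨x, hx, rfl⟩
  have h2 : x⁻¹ * (h * x * h⁻¹) ∈ N := by
    rw [← QuotientGroup.ker_mk' N, MonoidHom.mem_ker]
    simp only [map_mul, map_inv]
    rw [← h1]
    group
  have h3 : x⁻¹ * (h * x * h⁻¹) ∈ X := by
    refine X.mul_mem (X.inv_mem hx) ?_
    exact ((Subgroup.mem_normalizer_iff.1 hh) x).1 hx
  have h4 : x⁻¹ * (h * x * h⁻¹) = 1 := Subgroup.disjoint_def.1 hdisj h2 h3
  have h5 : h * x * h⁻¹ = x := by
    rw [inv_mul_eq_one] at h4
    exact h4.symm
  calc x * h = (h * x * h⁻¹) * h := by rw [h5]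
    _ = h * x := by group

end Frattini

section Hyp

/-- The normalizer of the Thompson subgroup of `S`. -/
def nJ {G : Type u} [Group G] (p : ℕ) (S : Subgroup G) : Subgroup G :=
  Subgroup.normalizer (thompsonSubgroupOf p S : Set G)

/-- The centre of `S`, as a subgroup of `G`. -/
def zC {G : Type u} [Group G] (S : Subgroup G) : Subgroup G :=
  S ⊓ Subgroup.centralizer (S : Set G)

/-- The centralizer of the centre of `S`. -/
def cZ {G : Type u} [Group G] (S : Subgroup G) : Subgroup G :=
  Subgroup.centralizer (zC S : Set G)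

/-- Thompson's hypothesis. -/
def Hyp {G : Type u} [Group G] (p : ℕ) (S : Subgroup G) : Prop :=
  HasNormalPComplement p (nJ p S) ∧ HasNormalPComplement p (cZ S)

theorem mem_zC {G : Type u} [Group G] {S : Subgroup G} {x : G} :
    x ∈ zC S ↔ x ∈ S ∧ ∀ s ∈ S, s * x = x * s := by
  unfold zC
  rw [Subgroup.mem_inf, Subgroup.mem_centralizer_iff]
  rfl

theorem mem_cZ {G : Type u} [Group G] {S : Subgroup G} {x : G} :
    x ∈ cZ S ↔ ∀ z ∈ zC S, z * x = x * z := by
  unfold cZ
  rw [Subgroup.mem_centralizer_iff]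
  rfl

theorem map_nJ_le {G : Type u} {H : Type v} [Group G] [Group H] (p : ℕ) {f : G →* H}
    (hf : Function.Injective f) (S : Subgroup G) : (nJ p S).map f ≤ nJ p (S.map f) := by
  unfold nJ
  rw [thompsonSubgroupOf_map p hf]
  exact Subgroup.le_normalizer_map f

theorem zC_map_le {G : Type u} {H : Type v} [Group G] [Group H] {f : G →* H} (S : Subgroup G)
    (hf : Set.InjOn f S) : zC (S.map f) ≤ (zC S).map f := by
  intro x hx
  rw [mem_zC] at hx
  obtain ⟨⟨s, hs, rfl⟩, hx2⟩ := hx
  refine ⟨s, mem_zC.2 ⟨hs, fun t ht => ?_⟩, rfl⟩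
  have h1 := hx2 (f t) ⟨t, ht, rfl⟩
  rw [← map_mul, ← map_mul] at h1
  exact hf (S.mul_mem ht hs) (S.mul_mem hs ht) h1

theorem map_cZ_le {G : Type u} {H : Type v} [Group G] [Group H] {f : G →* H}
    (hf : Function.Injective f) (S : Subgroup G) : (cZ S).map f ≤ cZ (S.map f) := by
  rintro _ ⟨x, hx, rfl⟩
  rw [SetLike.mem_coe, mem_cZ] at hx
  rw [mem_cZ]
  intro z hz
  obtain ⟨w, hw, rfl⟩ := zC_map_le S hf.injOn hz
  rw [← map_mul, ← map_mul, hx w hw]

theorem hyp_of_map {G : Type u} {H : Type v} [Group G] [Group H] [Finite H] {p : ℕ}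
    [Fact p.Prime] {f : G →* H} (hf : Function.Injective f) (S : Subgroup G)
    (h : Hyp p (S.map f)) : Hyp p S :=
  ⟨hnc_of_map_le f hf _ _ (map_nJ_le p hf S) h.1, hnc_of_map_le f hf _ _ (map_cZ_le hf S) h.2⟩

theorem hyp_smul {G : Type u} [Group G] [Finite G] {p : ℕ} [Fact p.Prime] (g : G)
    (S : Subgroup G) (h : Hyp p S) : Hyp p (S.map (MulAut.conj g).toMonoidHom) := by
  refine hyp_of_map (f := (MulAut.conj g⁻¹).toMonoidHom) (MulAut.conj g⁻¹).injective _ ?_
  rw [Subgroup.map_map]
  have : ((MulAut.conj g⁻¹).toMonoidHom).comp (MulAut.conj g).toMonoidHom = MonoidHom.id G := by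
    ext z
    simp [mul_assoc]
  rw [this, Subgroup.map_id]
  exact h

theorem hyp_sylow {G : Type u} [Group G] [Finite G] {p : ℕ} [Fact p.Prime] (P Q : Sylow p G)
    (h : Hyp p (P : Subgroup G)) : Hyp p (Q : Subgroup G) := by
  obtain ⟨g, rfl⟩ := MulAction.exists_smul_eq G P Q
  exact hyp_smul g P h

/-- `J` commutes with homomorphisms injective on the subgroup. -/
theorem thompsonSubgroupOf_map_of_injOn {G : Type u} {H : Type v} [Group G] [Group H] (p : ℕ)
    {f : G →* H} (U : Subgroup G) (hf : Set.InjOn f U) :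
    thompsonSubgroupOf p (U.map f) = (thompsonSubgroupOf p U).map f := by
  have hg : Function.Injective (f.comp U.subtype) := by
    intro a b hab
    exact Subtype.ext (hf a.2 b.2 hab)
  let e : U ≃* U.map f := MulEquiv.ofBijective (f.subgroupMap U)
    ⟨fun a b hab => Subtype.ext (hf a.2 b.2 (congrArg Subtype.val hab)),
      f.subgroupMap_surjective U⟩
  rw [thompsonSubgroupOf_def, thompsonSubgroupOf_def, ← map_mulEquiv_thompsonSubgroup p e,
    Subgroup.map_map, Subgroup.map_map]
  rfl

/-- The hypothesis passes to quotients by normal `p'`-subgroups. -/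
theorem hyp_quotient {G : Type u} [Group G] [Finite G] {p : ℕ} [Fact p.Prime]
    (N : Subgroup G) [N.Normal] (hN : (Nat.card N).Coprime p) (S : Subgroup G)
    (hS : IsPGroup p S) (h : Hyp p S) : Hyp p (S.map (QuotientGroup.mk' N)) := by
  obtain ⟨a, ha⟩ := IsPGroup.iff_card.1 hS
  have hcop : (Nat.card N).Coprime (Nat.card S) := by
    rw [ha]; exact Nat.Coprime.pow_right _ hN
  have hdisj : Disjoint N S := Subgroup.disjoint_of_coprime_natCard hcop
  have hinj : Set.InjOn (QuotientGroup.mk' N) S := by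
    intro x hx y hy hxy
    have h1 : x⁻¹ * y ∈ N := by
      rw [← QuotientGroup.ker_mk' N, MonoidHom.mem_ker, map_mul, map_inv, hxy, inv_mul_cancel]
    have h2 : x⁻¹ * y ∈ S := S.mul_mem (S.inv_mem hx) hy
    exact inv_mul_eq_one.1 (Subgroup.disjoint_def.1 hdisj h1 h2)
  constructor
  · refine hnc_of_le ?_ (hnc_map (QuotientGroup.mk' N) _ h.1)
    unfold nJ
    rw [thompsonSubgroupOf_map_of_injOn p S hinj]
    exact normalizer_map_mk_le _ N (hS.to_le (thompsonSubgroupOf_le_self p S)) hN
  · refine hnc_of_le ?_ (hnc_map (QuotientGroup.mk' N) _ h.2)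
    have h1 : zC (S.map (QuotientGroup.mk' N)) = (zC S).map (QuotientGroup.mk' N) := by
      refine le_antisymm (zC_map_le S hinj) ?_
      rintro _ ⟨z, hz, rfl⟩
      rw [SetLike.mem_coe, mem_zC] at hz
      rw [mem_zC]
      refine ⟨⟨z, hz.1, rfl⟩, ?_⟩
      rintro _ ⟨s, hs, rfl⟩
      rw [← map_mul, ← map_mul, hz.2 s hs]
    unfold cZ
    rw [h1]
    exact centralizer_map_mk_le _ N (hS.to_le inf_le_left) hN

end Hyp

section ChoiceU

variable {G : Type u} [Group G] [Finite G] {p : ℕ} [Fact p.Prime]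

/-- The exponent of `p` in the order of the normalizer. -/
noncomputable def expN (p : ℕ) (U : Subgroup G) : ℕ :=
  (Nat.card (Subgroup.normalizer (U : Set G))).factorization p

omit [Finite G] in
theorem expN_def (p : ℕ) (U : Subgroup G) :
    expN p U = (Nat.card (Subgroup.normalizer (U : Set G))).factorization p := rfl

/-- normalizers grow in `p`-groups -/
theorem exists_normalizer_gt (S P : Subgroup G) (hP : IsPGroup p P) (hSP : S < P) :
    S < P ⊓ Subgroup.normalizer (S : Set G) := by
  have : Group.IsNilpotent P := hP.isNilpotent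
  have h1 : S.subgroupOf P < ⊤ := by
    rw [lt_top_iff_ne_top, Ne, Subgroup.subgroupOf_eq_top]
    exact not_le_of_gt hSP
  have h2 := Group.normalizerCondition_of_isNilpotent _ h1
  obtain ⟨x, hx, hxS⟩ := SetLike.exists_of_lt h2
  refine lt_of_le_of_ne (le_inf hSP.le Subgroup.le_normalizer) ?_
  intro h3
  apply hxS
  rw [Subgroup.mem_subgroupOf, h3]
  refine ⟨x.2, ?_⟩
  rw [Subgroup.mem_normalizer_iff] at hx
  change (x : G) ∈ Subgroup.normalizer (S : Set G)
  rw [Subgroup.mem_normalizer_iff]
  intro y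
  constructor
  · intro hy
    exact (hx ⟨y, hSP.le hy⟩).1 hy
  · intro hy
    have hyP : y ∈ P := by
      have h4 : (x : G)⁻¹ * ((x : G) * y * (x : G)⁻¹) * x ∈ P :=
        P.mul_mem (P.mul_mem (P.inv_mem x.2) (hSP.le hy)) x.2
      have h5 : (x : G)⁻¹ * ((x : G) * y * (x : G)⁻¹) * x = y := by group
      rwa [h5] at h4
    exact (hx ⟨y, hyP⟩).2 hy

omit [Finite G] [Fact p.Prime] in
/-- The normalizer of `S` normalizes `J(S)`. -/
theorem normalizer_le_nJ (S : Subgroup G) :
    Subgroup.normalizer (S : Set G) ≤ nJ p S := by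
  intro g hg
  unfold nJ
  rw [Subgroup.mem_normalizer_iff_map_conj_eq] at hg ⊢
  have h := thompsonSubgroupOf_map_conj p g S
  rw [show S.map (MulAut.conj g).toMonoidHom = S from hg] at h
  exact h.symm

/-- lower bound for `expN` -/
theorem le_expN {K : Subgroup G} {T : Subgroup G} {b : ℕ} (hT : Nat.card T = p ^ b)
    (hTK : T ≤ Subgroup.normalizer (K : Set G)) : b ≤ expN p K := by
  rw [expN_def, ← Nat.Prime.pow_dvd_iff_le_factorization Fact.out Nat.card_pos.ne', ← hT]
  exact Subgroup.card_dvd_of_le hTK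

theorem card_sylow_eq (U : Subgroup G)
    (S : Sylow p (Subgroup.normalizer (U : Set G))) :
    Nat.card ((S : Subgroup (Subgroup.normalizer (U : Set G))).map (Subgroup.subtype _)) =
      p ^ expN p U := by
  rw [← Nat.card_congr ((S : Subgroup (Subgroup.normalizer (U : Set G))).equivMapOfInjective _
    (Subgroup.subtype_injective _)).toEquiv, expN_def]
  exact S.card_eq_multiplicity

theorem exists_U
    (hfrob : (∀ Q : Subgroup G, IsPGroup p Q → Q ≠ ⊥ →
      HasNormalPComplement p (Subgroup.normalizer (Q : Set G))) → HasNormalPComplement p G)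
    (ih : ∀ (H : Type u) [Group H] [Finite H], Nat.card H < Nat.card G →
      ∀ P : Sylow p H, Hyp p (P : Subgroup H) → HasNormalPComplement p H)
    (P : Sylow p G) (hP : Hyp p (P : Subgroup G)) (hG : ¬ HasNormalPComplement p G) :
    ∃ U : Subgroup G, U.Normal ∧ IsPGroup p U ∧ U ≠ ⊥ ∧ ∀ K : Subgroup G, IsPGroup p K →
      (P : Subgroup G) ≤ Subgroup.normalizer (K : Set G) → Nat.card U < Nat.card K →
      HasNormalPComplement p (Subgroup.normalizer (K : Set G)) := by
  classical
  let C : Set (Subgroup G) := {U | IsPGroup p U ∧ U ≠ ⊥ ∧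
    ¬ HasNormalPComplement p (Subgroup.normalizer (U : Set G))}
  have hne : C.Nonempty := by
    by_contra h
    apply hG
    apply hfrob
    intro Q hQ hQ1
    by_contra h2
    exact h ⟨Q, hQ, hQ1, h2⟩
  obtain ⟨U, ⟨hUp, hU1, hUn⟩, hmax⟩ := Set.exists_max_image C
    (fun U => toLex (expN p U, Nat.card U)) (Set.toFinite _) hne
  have hmax1 : ∀ K : Subgroup G, IsPGroup p K → K ≠ ⊥ → expN p U < expN p K →
      HasNormalPComplement p (Subgroup.normalizer (K : Set G)) := by
    intro K hK hK1 hlt
    by_contra hcon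
    have := hmax K ⟨hK, hK1, hcon⟩
    rw [Prod.Lex.le_iff] at this
    simp only [ofLex_toLex] at this
    omega
  have hmax2 : ∀ K : Subgroup G, IsPGroup p K → K ≠ ⊥ → expN p U ≤ expN p K →
      Nat.card U < Nat.card K → HasNormalPComplement p (Subgroup.normalizer (K : Set G)) := by
    intro K hK hK1 hle hlt
    by_contra hcon
    have := hmax K ⟨hK, hK1, hcon⟩
    rw [Prod.Lex.le_iff] at this
    simp only [ofLex_toLex] at this
    omega
  have hNtop : Subgroup.normalizer (U : Set G) = ⊤ := by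
    by_contra hN
    apply hUn
    obtain ⟨S⟩ := (Sylow.nonempty : Nonempty (Sylow p (Subgroup.normalizer (U : Set G))))
    set S' : Subgroup G :=
      (S : Subgroup (Subgroup.normalizer (U : Set G))).map (Subgroup.subtype _) with hS'
    have hcS' : Nat.card S' = p ^ expN p U := card_sylow_eq U S
    have hlt : Nat.card (Subgroup.normalizer (U : Set G)) < Nat.card G := by
      refine lt_of_le_of_ne (Subgroup.card_le_card_group _) fun h => hN ?_
      exact Subgroup.eq_top_of_card_eq _ h
    refine ih (Subgroup.normalizer (U : Set G)) hlt S ?_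
    refine hyp_of_map (Subgroup.subtype_injective _) _ ?_
    change Hyp p S'
    have hS'p : IsPGroup p S' := S.isPGroup'.map _
    have hS'N : S' ≤ Subgroup.normalizer (U : Set G) := Subgroup.map_subtype_le _
    obtain ⟨P', hP'⟩ := hS'p.exists_le_sylow
    have hHP' := hyp_sylow P P' hP
    have hUS' : U ≤ S' := by
      have h1 : IsPGroup p (U.subgroupOf (Subgroup.normalizer (U : Set G))) :=
        hUp.of_equiv (Subgroup.subgroupOfEquivOfLe Subgroup.le_normalizer).symm
      have h2 := h1.le_sylow_of_normal S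
      have h3 := Subgroup.map_mono (f := Subgroup.subtype _) h2
      rwa [Subgroup.subgroupOf_map_subtype, inf_eq_left.2 Subgroup.le_normalizer] at h3
    have hS'1 : S' ≠ ⊥ := by
      intro h
      rw [h, le_bot_iff] at hUS'
      exact hU1 hUS'
    constructor
    · by_cases hSP : S' = (P' : Subgroup G)
      · rw [hSP]
        exact hHP'.1
      · have hlt' : S' < (P' : Subgroup G) := lt_of_le_of_ne hP' hSP
        have hT := exists_normalizer_gt S' P' P'.isPGroup' hlt'
        set T : Subgroup G := (P' : Subgroup G) ⊓ Subgroup.normalizer (S' : Set G) with hTdef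
        have hTp : IsPGroup p T := P'.isPGroup'.to_le inf_le_left
        obtain ⟨b, hb⟩ := IsPGroup.iff_card.1 hTp
        have hcard : Nat.card S' < Nat.card T := by
          refine lt_of_le_of_ne (Subgroup.card_le_of_le hT.le) fun h => hT.ne ?_
          exact Subgroup.eq_of_le_of_card_ge hT.le h.ge
        have hb' : expN p U < b := by
          rw [hcS', hb] at hcard
          exact (Nat.pow_lt_pow_iff_right (Fact.out : p.Prime).one_lt).1 hcard
        have hTn : T ≤ nJ p S' := inf_le_right.trans (normalizer_le_nJ S')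
        have hb'' : b ≤ expN p (thompsonSubgroupOf p S') := le_expN hb hTn
        refine hmax1 _ (hS'p.to_le (thompsonSubgroupOf_le_self p S')) ?_ (lt_of_lt_of_le hb' hb'')
        intro h
        rw [thompsonSubgroupOf_def, Subgroup.map_eq_bot_iff_of_injective _
          (Subgroup.subtype_injective _)] at h
        refine thompsonSubgroup_ne_bot ?_ h
        rcases hS'p.card_eq_or_dvd with h1 | h1
        · exact absurd (Subgroup.card_eq_one.1 h1) hS'1
        · exact h1
    · refine hnc_of_le ?_ hHP'.2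
      have hz : zC (P' : Subgroup G) ≤ zC S' := by
        intro z hz
        rw [mem_zC] at hz
        have hzU : zC (P' : Subgroup G) ≤ Subgroup.normalizer (U : Set G) := by
          intro w hw
          rw [mem_zC] at hw
          apply Subgroup.centralizer_le_normalizer
          rw [Subgroup.mem_centralizer_iff]
          intro u hu
          exact hw.2 u (hP' (hUS' hu))
        have h1 : S' ⊔ zC (P' : Subgroup G) ≤ Subgroup.normalizer (U : Set G) :=
          sup_le hS'N hzU
        have h2 : S' ⊔ zC (P' : Subgroup G) ≤ (P' : Subgroup G) := sup_le hP' inf_le_left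
        have h3 : IsPGroup p ((S' ⊔ zC (P' : Subgroup G)).subgroupOf
            (Subgroup.normalizer (U : Set G))) :=
          (P'.isPGroup'.to_le h2).of_equiv (Subgroup.subgroupOfEquivOfLe h1).symm
        have h4 : (S : Subgroup (Subgroup.normalizer (U : Set G))) ≤
            (S' ⊔ zC (P' : Subgroup G)).subgroupOf (Subgroup.normalizer (U : Set G)) := by
          intro s hs
          rw [Subgroup.mem_subgroupOf]
          exact Subgroup.mem_sup_left ⟨s, hs, rfl⟩
        have h5 := S.is_maximal' h3 h4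
        have h6 : z ∈ S' := by
          have h7 : z ∈ Subgroup.normalizer (U : Set G) := hzU (mem_zC.2 hz)
          have h8 : (⟨z, h7⟩ : Subgroup.normalizer (U : Set G)) ∈
              (S' ⊔ zC (P' : Subgroup G)).subgroupOf (Subgroup.normalizer (U : Set G)) := by
            rw [Subgroup.mem_subgroupOf]
            exact Subgroup.mem_sup_right (mem_zC.2 hz)
          rw [h5] at h8
          exact ⟨⟨z, h7⟩, h8, rfl⟩
        exact mem_zC.2 ⟨h6, fun s hs => hz.2 s (hP' hs)⟩
      intro x hx
      rw [mem_cZ] at hx ⊢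
      exact fun z hz' => hx z (hz hz')
  refine ⟨U, Subgroup.normalizer_eq_top_iff.1 hNtop, hUp, hU1, ?_⟩
  intro K hK hPK hlt
  refine hmax2 K hK ?_ ?_ hlt
  · rintro rfl
    rw [Subgroup.card_bot] at hlt
    have := Nat.card_pos (α := U)
    omega
  · have h1 : expN p U = (Nat.card G).factorization p := by
      rw [expN_def, hNtop, Subgroup.card_top]
    rw [h1]
    exact le_expN P.card_eq_multiplicity hPK

end ChoiceU

section Config

variable {G : Type u} [Group G] [Finite G] {p : ℕ} [Fact p.Prime]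

omit [Finite G] [Fact p.Prime] in
theorem normalizer_eq_top_of_normal (K : Subgroup G) (hK : K.Normal) :
    Subgroup.normalizer (K : Set G) = ⊤ := Subgroup.normalizer_eq_top_iff.2 hK

/-- `U = O_p(G)`. -/
theorem normal_le_U (P : Sylow p G) (hG : ¬ HasNormalPComplement p G) (U : Subgroup G)
    [U.Normal] (hU : IsPGroup p U)
    (hstar : ∀ K : Subgroup G, IsPGroup p K →
      (P : Subgroup G) ≤ Subgroup.normalizer (K : Set G) → Nat.card U < Nat.card K →
      HasNormalPComplement p (Subgroup.normalizer (K : Set G)))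
    (K : Subgroup G) (hKn : K.Normal) (hK : IsPGroup p K) : K ≤ U := by
  by_contra h
  apply hG
  have h1 : IsPGroup p (U ⊔ K : Subgroup G) := hU.to_sup_of_normal_right hK
  have h2 : Nat.card U < Nat.card (U ⊔ K : Subgroup G) := by
    refine lt_of_le_of_ne (Subgroup.card_le_of_le le_sup_left) fun h3 => h ?_
    have h4 := Subgroup.eq_of_le_of_card_ge (le_sup_left : U ≤ U ⊔ K) h3.ge
    rw [h4]
    exact le_sup_right
  have h3 := normalizer_eq_top_of_normal (U ⊔ K) inferInstance
  have h4 := hstar (U ⊔ K) h1 (by rw [h3]; exact le_top) h2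
  rw [h3] at h4
  exact hnc_top.1 h4

theorem card_quotient_lt (U : Subgroup G) [U.Normal] (hU1 : U ≠ ⊥) :
    Nat.card (G ⧸ U) < Nat.card G := by
  rw [← Subgroup.index_eq_card, ← Subgroup.card_mul_index U]
  have h1 : 1 < Nat.card U := by
    have := Nat.card_pos (α := U)
    rcases Nat.lt_or_ge 1 (Nat.card U) with h | h
    · exact h
    · exact absurd (Subgroup.card_eq_one.1 (le_antisymm h this)) hU1
  have h2 : 0 < U.index := Nat.pos_of_ne_zero U.index_ne_zero_of_finite
  nlinarith

/-- `G / U` has a normal `p`-complement. -/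
theorem hnc_mod_U (P : Sylow p G) (U : Subgroup G) [U.Normal] (hU : IsPGroup p U) (hU1 : U ≠ ⊥)
    (hstar : ∀ K : Subgroup G, IsPGroup p K →
      (P : Subgroup G) ≤ Subgroup.normalizer (K : Set G) → Nat.card U < Nat.card K →
      HasNormalPComplement p (Subgroup.normalizer (K : Set G)))
    (ih : ∀ (H : Type u) [Group H] [Finite H], Nat.card H < Nat.card G →
      ∀ P : Sylow p H, Hyp p (P : Subgroup H) → HasNormalPComplement p H) :
    HasNormalPComplement p (G ⧸ U) := by
  have hsurj := QuotientGroup.mk'_surjective U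
  set π := QuotientGroup.mk' U with hπ
  have hker : π.ker = U := QuotientGroup.ker_mk' U
  set Q : Sylow p (G ⧸ U) := P.mapSurjective hsurj with hQ
  have hQc : (Q : Subgroup (G ⧸ U)) = (P : Subgroup G).map π := rfl
  have key : ∀ L : Subgroup (G ⧸ U), IsPGroup p L → L ≠ ⊥ →
      (Q : Subgroup (G ⧸ U)) ≤ Subgroup.normalizer (L : Set (G ⧸ U)) →
      HasNormalPComplement p (Subgroup.normalizer (L : Set (G ⧸ U))) := by
    intro L hL hL1 hLn
    have hKp : IsPGroup p (L.comap π) := hL.comap_of_ker_isPGroup π (by rw [hker]; exact hU)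
    have hN : Subgroup.normalizer ((L.comap π : Subgroup G) : Set G) =
        (Subgroup.normalizer (L : Set (G ⧸ U))).comap π :=
      (Subgroup.comap_normalizer_eq_of_surjective L hsurj).symm
    have hPK : (P : Subgroup G) ≤ Subgroup.normalizer ((L.comap π : Subgroup G) : Set G) := by
      rw [hN, ← Subgroup.map_le_iff_le_comap, ← hQc]
      exact hLn
    have hUK : U ≤ L.comap π := by
      refine hker.symm.le.trans ?_
      intro x hx
      rw [Subgroup.mem_comap, (MonoidHom.mem_ker).1 hx]
      exact L.one_mem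
    have hcard : Nat.card U < Nat.card (L.comap π) := by
      refine lt_of_le_of_ne (Subgroup.card_le_of_le hUK) fun h3 => hL1 ?_
      have h4 := Subgroup.eq_of_le_of_card_ge hUK h3.ge
      rw [← Subgroup.map_comap_eq_self_of_surjective hsurj L, ← h4]
      rw [Subgroup.map_eq_bot_iff, hker]
    have h5 := hnc_map π _ (hstar _ hKp hPK hcard)
    rw [hN, Subgroup.map_comap_eq_self_of_surjective hsurj] at h5
    exact h5
  by_cases hPU : (Q : Subgroup (G ⧸ U)) = ⊥
  · apply hnc_of_coprime
    have h1 := Q.not_dvd_index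
    rw [hPU, Subgroup.index_bot] at h1
    rw [Nat.coprime_comm]
    exact (Nat.Prime.coprime_iff_not_dvd Fact.out).2 h1
  · refine ih (G ⧸ U) (card_quotient_lt U hU1) Q ⟨?_, ?_⟩
    · refine key _ (Q.isPGroup'.to_le (thompsonSubgroupOf_le_self p _)) ?_
        (Subgroup.le_normalizer.trans (normalizer_le_nJ _))
      intro h
      rw [thompsonSubgroupOf_def, Subgroup.map_eq_bot_iff_of_injective _
        (Subgroup.subtype_injective _)] at h
      refine thompsonSubgroup_ne_bot ?_ h
      rcases Q.isPGroup'.card_eq_or_dvd with h1 | h1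
      · exact absurd (Subgroup.card_eq_one.1 h1) hPU
      · exact h1
    · refine hnc_of_le (Subgroup.centralizer_le_normalizer _)
        (key (zC (Q : Subgroup (G ⧸ U))) (Q.isPGroup'.to_le inf_le_left) ?_ ?_)
      · intro h
        have hnt : Nontrivial (Q : Subgroup (G ⧸ U)) := (Subgroup.nontrivial_iff_ne_bot _).2 hPU
        have h2 := Q.isPGroup'.center_nontrivial
        obtain ⟨z, hz⟩ := (Subgroup.nontrivial_iff_exists_ne_one _).1 h2
        have h3 : ((z : (Q : Subgroup (G ⧸ U))) : G ⧸ U) ∈ zC (Q : Subgroup (G ⧸ U)) := by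
          rw [mem_zC]
          refine ⟨z.2, fun s hs => ?_⟩
          have := Subgroup.mem_center_iff.1 hz.1 ⟨s, hs⟩
          exact congrArg Subtype.val this
        rw [h, Subgroup.mem_bot] at h3
        exact hz.2 (Subtype.ext h3)
      · refine le_trans ?_ (Subgroup.centralizer_le_normalizer _)
        intro s hs
        rw [Subgroup.mem_centralizer_iff]
        intro z hz
        exact ((mem_zC.1 hz).2 s hs).symm

/-- `O_{p'}(G) = 1`. -/
theorem pprime_eq_bot (P : Sylow p G) (hP : Hyp p (P : Subgroup G))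
    (hG : ¬ HasNormalPComplement p G)
    (ih : ∀ (H : Type u) [Group H] [Finite H], Nat.card H < Nat.card G →
      ∀ P : Sylow p H, Hyp p (P : Subgroup H) → HasNormalPComplement p H)
    (N : Subgroup G) (hNn : N.Normal) (hN : (Nat.card N).Coprime p) : N = ⊥ := by
  by_contra h
  exact hG (hnc_of_quotient N hN (ih (G ⧸ N) (card_quotient_lt N h)
    (P.mapSurjective (QuotientGroup.mk'_surjective N)) (hyp_quotient N hN P P.isPGroup' hP)))

/-- A group with a central Sylow `p`-subgroup has a normal `p`-complement. -/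
theorem hnc_of_central (Z : Subgroup G) (hZ : IsPGroup p Z) (hZc : ∀ z ∈ Z, ∀ g : G, z * g = g * z)
    (hi : ¬ p ∣ Z.index) : HasNormalPComplement p G := by
  have h : Subgroup.normalizer ((hZ.toSylow hi : Sylow p G) : Set G) ≤
      Subgroup.centralizer ((hZ.toSylow hi : Sylow p G) : Set G) := by
    intro g _
    rw [Subgroup.mem_centralizer_iff]
    intro z hz
    exact hZc z hz g
  exact ⟨hZ.toSylow hi, _, inferInstance, MonoidHom.ker_transferSylow_isComplement' _ h⟩

omit [Finite G] [Fact p.Prime] in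
theorem relIndex_dvd_of_normal (U : Subgroup G) [U.Normal] {D M : Subgroup G} (hDM : D ≤ M) :
    U.relIndex D ∣ U.relIndex M := by
  rw [← QuotientGroup.ker_mk' U, Subgroup.relIndex_ker, Subgroup.relIndex_ker]
  exact Subgroup.card_dvd_of_le (Subgroup.map_mono hDM)

/-- `C_G(U) ≤ U`. -/
theorem centralizer_le (U M : Subgroup G) [U.Normal] [M.Normal] (hU : IsPGroup p U)
    (hcop : (U.relIndex M).Coprime p) (hGM : ∀ x : G, ∃ k : ℕ, x ^ p ^ k ∈ M)
    (hmax : ∀ K : Subgroup G, K.Normal → IsPGroup p K → K ≤ U)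
    (hp' : ∀ N : Subgroup G, N.Normal → (Nat.card N).Coprime p → N = ⊥) :
    Subgroup.centralizer (U : Set G) ≤ U := by
  have hCn : (Subgroup.centralizer (U : Set G)).Normal := inferInstance
  set D : Subgroup G := Subgroup.centralizer (U : Set G) ⊓ M with hD
  have hDn : D.Normal := inferInstance
  have hDM : D ≤ M := inf_le_right
  have h1 : HasNormalPComplement p D := by
    refine hnc_of_central (U.subgroupOf D) hU.comap_subtype ?_ ?_
    · intro z hz g
      apply Subtype.ext
      have h2 : (g : G) ∈ Subgroup.centralizer (U : Set G) := g.2.1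
      exact (Subgroup.mem_centralizer_iff.1 h2) z hz
    · change ¬ p ∣ U.relIndex D
      rw [← Nat.Prime.coprime_iff_not_dvd Fact.out, Nat.coprime_comm]
      exact Nat.Coprime.coprime_dvd_left (relIndex_dvd_of_normal U hDM) hcop
  have hchar := pResidual_characteristic (G := D) p
  have h2 : ((pResidual p D).map D.subtype).Normal := inferInstance
  have h3 : (Nat.card ((pResidual p D).map D.subtype)).Coprime p := by
    rw [← Nat.card_congr ((pResidual p D).equivMapOfInjective _
      (Subgroup.subtype_injective _)).toEquiv]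
    exact hnc_iff.1 h1
  have h4 := hp' _ h2 h3
  rw [Subgroup.map_eq_bot_iff_of_injective _ (Subgroup.subtype_injective _)] at h4
  have h5 : IsPGroup p (Subgroup.centralizer (U : Set G)) := by
    intro x
    obtain ⟨k, hk⟩ := hGM x
    have hxD : (x : G) ^ p ^ k ∈ D :=
      ⟨(Subgroup.centralizer (U : Set G)).pow_mem x.2 _, hk⟩
    obtain ⟨j, hj⟩ := exists_pow_mem_pResidual p (⟨(x : G) ^ p ^ k, hxD⟩ : D)
    rw [h4, Subgroup.mem_bot] at hj
    refine ⟨k + j, ?_⟩
    apply Subtype.ext
    have h6 := congrArg Subtype.val hj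
    rw [Subgroup.coe_pow] at h6
    rw [Subgroup.coe_pow, pow_add, pow_mul]
    exact h6
  exact hmax _ hCn h5

/-- A subgroup above `U` with a normal `p`-complement is a `p`-group. -/
theorem isPGroup_of_hnc (U : Subgroup G) [U.Normal] (hU : IsPGroup p U)
    (hC : Subgroup.centralizer (U : Set G) ≤ U) (H : Subgroup G) (hUH : U ≤ H)
    (hH : HasNormalPComplement p H) : IsPGroup p H := by
  have hR := pResidual_normal (G := H) p
  have h1 := hnc_iff.1 hH
  obtain ⟨a, ha⟩ := IsPGroup.iff_card.1 (hU.comap_subtype (K := H))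
  have h2 : Disjoint (pResidual p H) (U.comap H.subtype) := by
    apply Subgroup.disjoint_of_coprime_natCard
    rw [ha]
    exact Nat.Coprime.pow_right _ h1
  have h3 := Subgroup.commute_of_normal_of_disjoint (pResidual p H) (U.comap H.subtype) hR
    inferInstance h2
  have h4 : pResidual p H ≤ U.comap H.subtype := by
    intro r hr
    rw [Subgroup.mem_comap]
    apply hC
    rw [Subgroup.mem_centralizer_iff]
    intro u hu
    have h5 := h3 r ⟨u, hUH hu⟩ hr hu
    exact (congrArg Subtype.val h5.eq).symm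
  have h5 : pResidual p H = ⊥ := le_bot_iff.1 (h2 le_rfl h4)
  intro x
  obtain ⟨k, hk⟩ := exists_pow_mem_pResidual p x
  rw [h5, Subgroup.mem_bot] at hk
  exact ⟨k, hk⟩

omit [Finite G] in
theorem le_normalizer_of_forall {P B : Subgroup G} (h : ∀ g ∈ P, ∀ b ∈ B, g * b * g⁻¹ ∈ B) :
    P ≤ Subgroup.normalizer (B : Set G) := by
  intro g hg
  rw [Subgroup.mem_normalizer_iff]
  intro b
  refine ⟨h g hg b, fun hb => ?_⟩
  have h1 := h g⁻¹ (P.inv_mem hg) _ hb
  have h2 : g⁻¹ * (g * b * g⁻¹) * g⁻¹⁻¹ = b := by group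
  rwa [h2] at h1

/-- The minimal configuration. -/
theorem exists_A (P : Sylow p G) (hP : Hyp p (P : Subgroup G))
    (ih : ∀ (H : Type u) [Group H] [Finite H], Nat.card H < Nat.card G →
      ∀ P : Sylow p H, Hyp p (P : Subgroup H) → HasNormalPComplement p H)
    (U : Subgroup G) [U.Normal] (hU : IsPGroup p U)
    (hC : Subgroup.centralizer (U : Set G) ≤ U) (M : Subgroup G) [M.Normal] (hUM : U < M)
    (hcop : (U.relIndex M).Coprime p) :
    ∃ A : Subgroup G, A.Normal ∧ U ≤ A ∧ ⁅A, A⁆ ≤ U ∧ ¬ p ∣ U.relIndex A ∧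
      (P : Subgroup G) ⊔ A = ⊤ := by
  classical
  let C : Set (Subgroup G) := {A | U < A ∧ (P : Subgroup G) ≤ Subgroup.normalizer (A : Set G) ∧
    (U.relIndex A).Coprime p}
  have hne : C.Nonempty := by
    refine ⟨M, hUM, ?_, hcop⟩
    rw [normalizer_eq_top_of_normal M inferInstance]
    exact le_top
  obtain ⟨A, ⟨hUA, hPA, hAcop⟩, hmin⟩ := Set.exists_min_image C
    (fun U => Nat.card U) (Set.toFinite _) hne
  have hmin' : ∀ B ∈ C, B ≤ A → B = A := fun B hB hBA =>
    Subgroup.eq_of_le_of_card_ge hBA (hmin B hB)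
  have hUP : U ≤ P := hU.le_sylow_of_normal P
  have htop : ∀ B ∈ C, (P : Subgroup G) ⊔ B = ⊤ := by
    rintro B ⟨hUB, hPB, hBcop⟩
    by_contra hne
    have hlt : Nat.card ((P : Subgroup G) ⊔ B : Subgroup G) < Nat.card G := by
      refine lt_of_le_of_ne (Subgroup.card_le_card_group _) fun h => hne ?_
      exact Subgroup.eq_top_of_card_eq _ h
    have h1 : HasNormalPComplement p ((P : Subgroup G) ⊔ B : Subgroup G) := by
      refine ih _ hlt (P.subtype le_sup_left) (hyp_of_map (Subgroup.subtype_injective _) _ ?_)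
      rw [Sylow.coe_subtype, Subgroup.subgroupOf_map_subtype, inf_eq_left.2 le_sup_left]
      exact hP
    have h2 := isPGroup_of_hnc U hU hC _ (hUP.trans le_sup_left) h1
    have h3 : IsPGroup p B := h2.to_le le_sup_right
    obtain ⟨a, ha⟩ := IsPGroup.iff_card.1 h3
    have h4 : U.relIndex B ∣ p ^ a := by
      rw [← ha]; exact Subgroup.relIndex_dvd_card U B
    have h5 : U.relIndex B = 1 := Nat.Coprime.eq_one_of_dvd (Nat.Coprime.pow_right _ hBcop) h4
    exact hUB.not_ge (Subgroup.relIndex_eq_one.1 h5)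
  have hAC : A ∈ C := ⟨hUA, hPA, hAcop⟩
  have hAtop := htop A hAC
  have hAn : A.Normal := by
    rw [← Subgroup.normalizer_eq_top_iff, eq_top_iff, ← hAtop]
    exact sup_le hPA Subgroup.le_normalizer
  refine ⟨A, hAn, hUA.le, ?_, ?_, hAtop⟩
  swap
  · rw [← Nat.Prime.coprime_iff_not_dvd Fact.out, Nat.coprime_comm]
    exact hAcop
  have hsurj := QuotientGroup.mk'_surjective U
  set π := QuotientGroup.mk' U with hπ
  have hker : π.ker = U := QuotientGroup.ker_mk' U
  have hcomap : (A.map π).comap π = A := by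
    rw [Subgroup.comap_map_eq, hker, sup_eq_left.2 hUA.le]
  have hcard : Nat.card (A.map π) = U.relIndex A := by
    rw [← Subgroup.relIndex_ker, hker]
  have hne1 : Nat.card (A.map π) ≠ 1 := by
    rw [hcard]
    intro h
    exact hUA.not_ge (Subgroup.relIndex_eq_one.1 h)
  have hndvd : ¬ p ∣ Nat.card (A.map π) := by
    rw [← Nat.Prime.coprime_iff_not_dvd Fact.out, Nat.coprime_comm, hcard]
    exact hAcop
  have : Fact (Nat.minFac (Nat.card (A.map π))).Prime := ⟨Nat.minFac_prime hne1⟩
  have hAπn : (A.map π).Normal := Subgroup.Normal.map hAn π hsurj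
  obtain ⟨S, ⟨T, rfl⟩, hS⟩ := Cfsg.Agent.Lib.PGroupCoprimeAction.exists_invariant_sylow
    (A := (P : Subgroup G).map π) (H := A.map π) (P.isPGroup'.map π) hndvd
    (fun b _ u hu => hAπn.conj_mem u hu b) (Nat.minFac (Nat.card (A.map π)))
  set S : Subgroup (G ⧸ U) := (T : Subgroup (A.map π)).map (A.map π).subtype with hSdef
  have hSle : S ≤ A.map π := Subgroup.map_subtype_le _
  have hS1 : S ≠ ⊥ := by
    rw [hSdef, Ne, Subgroup.map_eq_bot_iff_of_injective _ (Subgroup.subtype_injective _)]
    exact T.ne_bot_of_dvd_card (Nat.minFac_dvd _)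
  have hUB : U ≤ S.comap π := by
    refine hker.symm.le.trans ?_
    intro x hx
    rw [Subgroup.mem_comap, (MonoidHom.mem_ker).1 hx]
    exact S.one_mem
  have hmapS : (S.comap π).map π = S := Subgroup.map_comap_eq_self_of_surjective hsurj S
  have hBle : S.comap π ≤ A := by
    rw [← hcomap]
    exact Subgroup.comap_mono hSle
  have hBC : S.comap π ∈ C := by
    refine ⟨lt_of_le_of_ne hUB ?_, ?_, ?_⟩
    · intro h
      apply hS1
      rw [← hmapS, ← h, Subgroup.map_eq_bot_iff, hker]
    · apply le_normalizer_of_forall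
      intro g hg b hb
      rw [Subgroup.mem_comap] at hb ⊢
      rw [map_mul, map_mul, map_inv]
      exact hS _ ⟨g, hg, rfl⟩ _ hb
    · exact Nat.Coprime.coprime_dvd_left (relIndex_dvd_of_normal U hBle) hAcop
  have hBA := hmin' _ hBC hBle
  have hSA : A.map π = S := by rw [← hBA, hmapS]
  have hAq : IsPGroup (Nat.minFac (Nat.card (A.map π))) (A.map π) := by
    have h1 : IsPGroup (Nat.minFac (Nat.card (A.map π))) S := T.isPGroup'.map _
    intro x
    have hx : (x : G ⧸ U) ∈ S := hSA ▸ x.2
    obtain ⟨k, hk⟩ := h1 ⟨x, hx⟩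
    refine ⟨k, Subtype.ext ?_⟩
    have h2 := congrArg Subtype.val hk
    rw [Subgroup.coe_pow] at h2 ⊢
    exact h2
  have hnil : Group.IsNilpotent (A.map π) := hAq.isNilpotent
  have hsol : Group.IsSolvable (A.map π) := inferInstance
  have hnt : Nontrivial (A.map π) := by
    rw [Subgroup.nontrivial_iff_ne_bot]
    intro h
    apply hne1
    rw [h, Subgroup.card_bot]
  have hlt : ⁅A.map π, A.map π⁆ < A.map π := by
    have h1 := Group.IsSolvable.commutator_lt_top_of_nontrivial (A.map π)
    refine lt_of_le_of_ne (Subgroup.commutator_le_left _ _) ?_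
    intro h2
    rw [← Subgroup.map_subtype_commutator] at h2
    apply h1.ne
    have h3 := congrArg (Subgroup.comap (A.map π).subtype) h2
    rw [Subgroup.comap_map_eq_self_of_injective (Subgroup.subtype_injective _)] at h3
    rw [h3]
    exact Subgroup.subgroupOf_self _
  by_contra hcon
  have hEn : (⁅A, A⁆ ⊔ U).Normal := inferInstance
  have hEle : ⁅A, A⁆ ⊔ U ≤ A := sup_le (Subgroup.commutator_le_left _ _) hUA.le
  have hEC : ⁅A, A⁆ ⊔ U ∈ C := by
    refine ⟨lt_of_le_of_ne le_sup_right ?_, ?_, ?_⟩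
    · intro h
      apply hcon
      rw [h]
      exact le_sup_left
    · rw [normalizer_eq_top_of_normal _ hEn]
      exact le_top
    · exact Nat.Coprime.coprime_dvd_left (relIndex_dvd_of_normal U hEle) hAcop
  have hEA := hmin' _ hEC hEle
  have hEmap : (⁅A, A⁆ ⊔ U).map π = ⁅A.map π, A.map π⁆ := by
    rw [Subgroup.map_sup, Subgroup.map_commutator]
    have : U.map π = ⊥ := by rw [Subgroup.map_eq_bot_iff, hker]
    rw [this, sup_bot_eq]
  rw [hEA] at hEmap
  exact hlt.ne hEmap.symm

end Config

end Cfsg.Agent.Transfer.ThompsonReduction
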