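import Mathlib.GroupTheory.Sylow
import Mathlib.GroupTheory.Transfer
import Mathlib.Data.Fintype.Lattice
set_option linter.all false

/-!
# Abelian Hall subgroups: conjugacy and control of fusion

* `exists_sylow_le` : if `p` does not divide `H.index` then `H` contains a Sylow `p`-subgroup of `G`.
* `exists_conj_eq` : two abelian Hall subgroups of the same order are conjugate (Wielandt, abelian
  case).
* `conj_eq_normalizer_conj_of_mem` : `N_G(H)` controls fusion of elements in an abelian Hall
  subgroup `H`.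
-/

set_option autoImplicit false

open scoped Pointwise

namespace Cfsg.Agent.Transfer.AbelianHall

/-- A subgroup whose index is prime to `p` contains a Sylow `p`-subgroup of the whole group. -/
theorem exists_sylow_le {G : Type*} [Group G] [Finite G] (p : ℕ) [Fact p.Prime] (H : Subgroup G)
    (hp : ¬ p ∣ H.index) : ∃ P : Sylow p G, (P : Subgroup G) ≤ H := by
  let P₀ : Sylow p H := default
  have h1 : IsPGroup p ((P₀ : Subgroup H).map H.subtype) := P₀.2.map _
  have h2 : ¬ p ∣ ((P₀ : Subgroup H).map H.subtype).index := by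
    rw [Subgroup.index_map_subtype]
    intro h
    rcases (Nat.Prime.dvd_mul (Fact.out : p.Prime)).mp h with h | h
    · exact P₀.not_dvd_index h
    · exact hp h
  refine ⟨h1.toSylow h2, ?_⟩
  rw [IsPGroup.toSylow_coe]
  exact Subgroup.map_subtype_le _

theorem card_smul {G : Type*} [Group G] (g : G) (K : Subgroup G) :
    Nat.card (MulAut.conj g • K : Subgroup G) = Nat.card K :=
  (Nat.card_congr (Subgroup.equivSMul (MulAut.conj g) K).toEquiv).symm

theorem isMulCommutative_smul {G : Type*} [Group G] (g : G) (K : Subgroup G)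
    [IsMulCommutative K] : IsMulCommutative (MulAut.conj g • K : Subgroup G) := by
  constructor
  constructor
  rintro ⟨a, ha⟩ ⟨b, hb⟩
  apply Subtype.ext
  rw [Subgroup.mem_smul_pointwise_iff_exists] at ha hb
  obtain ⟨a', ha', rfl⟩ := ha
  obtain ⟨b', hb', rfl⟩ := hb
  have h := (IsMulCommutative.is_comm (M := K)).comm ⟨a', ha'⟩ ⟨b', hb'⟩
  have h' : a' * b' = b' * a' := congrArg Subtype.val h
  change (MulAut.conj g • a') * (MulAut.conj g • b') = (MulAut.conj g • b') * (MulAut.conj g • a')
  rw [← smul_mul', h', smul_mul']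

theorem le_centralizer_of_le {G : Type*} [Group G] (K D : Subgroup G) [IsMulCommutative K]
    (h : D ≤ K) : K ≤ Subgroup.centralizer (D : Set G) := by
  intro x hx
  rw [Subgroup.mem_centralizer_iff]
  intro y hy
  have := (IsMulCommutative.is_comm (M := K)).comm ⟨y, h hy⟩ ⟨x, hx⟩
  exact congrArg Subtype.val this

/-- Two abelian Hall subgroups with the same order are conjugate. -/
theorem exists_conj_eq {G : Type*} [Group G] [Finite G] (H K : Subgroup G)
    [IsMulCommutative H] [IsMulCommutative K] (hH : (Nat.card H).Coprime H.index)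
    (hcard : Nat.card K = Nat.card H) : ∃ g : G, MulAut.conj g • K = H := by
  classical
  have hidx : K.index = H.index := by
    have h1 := H.card_mul_index
    have h2 := K.card_mul_index
    rw [hcard, ← h1] at h2
    exact Nat.eq_of_mul_eq_mul_left Nat.card_pos h2
  obtain ⟨g, hg⟩ := Finite.exists_max
    (fun g : G => Nat.card (H ⊓ (MulAut.conj g • K) : Subgroup G))
  refine ⟨g, ?_⟩
  set K' : Subgroup G := MulAut.conj g • K with hK'
  have hcardK' : Nat.card K' = Nat.card H := by rw [hK', card_smul, hcard]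
  have hidxK' : K'.index = H.index := by
    have h1 := H.card_mul_index
    have h2 := K'.card_mul_index
    rw [hcardK', ← h1] at h2
    exact Nat.eq_of_mul_eq_mul_left Nat.card_pos h2
  have : IsMulCommutative K' := isMulCommutative_smul g K
  set D : Subgroup G := H ⊓ K' with hD
  by_cases hDH : D = H
  · have h1 : H ≤ K' := by rw [← hDH]; exact inf_le_right
    exact (Subgroup.eq_of_le_of_card_ge h1 hcardK'.le).symm
  exfalso
  have hDle : D ≤ H := inf_le_left
  have hdvd : Nat.card D ∣ Nat.card H := Subgroup.card_dvd_of_le hDle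
  have hne : Nat.card D ≠ Nat.card H := fun h =>
    hDH (Subgroup.eq_of_le_of_card_ge hDle h.ge)
  obtain ⟨m, hm⟩ := hdvd
  have hm1 : m ≠ 1 := by
    rintro rfl
    rw [mul_one] at hm
    exact hne hm.symm
  obtain ⟨p, hp, hpm⟩ := Nat.exists_prime_and_dvd hm1
  haveI : Fact p.Prime := ⟨hp⟩
  have hpH : p ∣ Nat.card H := by rw [hm]; exact hpm.mul_left _
  have hpi : ¬ p ∣ H.index := fun h =>
    hp.one_lt.ne' (Nat.dvd_one.mp (hH ▸ Nat.dvd_gcd hpH h))
  obtain ⟨P, hP⟩ := exists_sylow_le p H hpi
  obtain ⟨Q, hQ⟩ := exists_sylow_le p K' (by rw [hidxK']; exact hpi)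
  set C := Subgroup.centralizer (D : Set G) with hC
  have hHC : H ≤ C := le_centralizer_of_le H D hDle
  have hKC : K' ≤ C := le_centralizer_of_le K' D inf_le_right
  obtain ⟨c, hc⟩ := MulAction.exists_smul_eq C (Q.subtype (hQ.trans hKC)) (P.subtype (hP.trans hHC))
  rw [Sylow.smul_subtype] at hc
  have hc' : c • Q = P := Sylow.subtype_injective hc
  have hc'' : MulAut.conj (c : G) • (Q : Subgroup G) = P := by
    rw [← hc']; rfl
  -- the new intersection contains `D` and `P`
  have hDnew : D ≤ H ⊓ (MulAut.conj ((c : G) * g) • K) := by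
    refine le_inf hDle ?_
    intro d hd
    have hcd : (c : G)⁻¹ * d * (c : G) = d := by
      have h1 : (c : G) ∈ Subgroup.centralizer (D : Set G) := c.2
      rw [Subgroup.mem_centralizer_iff] at h1
      rw [mul_assoc, h1 d hd, inv_mul_cancel_left]
    rw [map_mul, mul_smul, ← hK', Subgroup.mem_pointwise_smul_iff_inv_smul_mem]
    have h2 : (MulAut.conj (c : G))⁻¹ • d = d := by
      rw [← map_inv, MulAut.smul_def, MulAut.conj_apply, inv_inv]
      exact hcd
    rw [h2]
    exact (inf_le_right : D ≤ K') hd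
  have hPnew : (P : Subgroup G) ≤ H ⊓ (MulAut.conj ((c : G) * g) • K) := by
    refine le_inf hP ?_
    rw [map_mul, mul_smul, ← hK', ← hc'']
    exact Subgroup.pointwise_smul_le_pointwise_smul_iff.mpr hQ
  have hle := hg ((c : G) * g)
  have heq : D = H ⊓ (MulAut.conj ((c : G) * g) • K) := Subgroup.eq_of_le_of_card_ge hDnew hle
  have hPD : (P : Subgroup G) ≤ D := by rw [heq]; exact hPnew
  -- contradiction: `p` divides `|H : D|`, hence `|P|` does not divide `|D|`
  have h3 : Nat.card (P : Subgroup G) ∣ Nat.card D := Subgroup.card_dvd_of_le hPD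
  have h4 : p * Nat.card (P : Subgroup G) ∣ Nat.card G := by
    obtain ⟨a, ha⟩ := h3
    obtain ⟨b, hb⟩ := hpm
    rw [← H.card_mul_index, hm, ha, hb]
    exact ⟨a * b * H.index, by ring⟩
  have h5 : p ∣ (P : Subgroup G).index := by
    rw [← (P : Subgroup G).card_mul_index, mul_comm p] at h4
    exact Nat.dvd_of_mul_dvd_mul_left Nat.card_pos h4
  exact P.not_dvd_index h5

/-- If `H` is an abelian Hall subgroup, then `N_G(H)` controls fusion of elements of `H`. -/
theorem conj_eq_normalizer_conj_of_mem {G : Type*} [Group G] [Finite G] (H : Subgroup G)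
    [IsMulCommutative H] (hH : (Nat.card H).Coprime H.index) {x g : G} (hx : x ∈ H)
    (hy : g⁻¹ * x * g ∈ H) :
    ∃ n ∈ Subgroup.normalizer (H : Set G), g⁻¹ * x * g = n⁻¹ * x * n := by
  set y := g⁻¹ * x * g with hydef
  set C := Subgroup.centralizer ({y} : Set G) with hC
  have hHC : H ≤ C := by
    have h1 := le_centralizer_of_le H H le_rfl
    exact h1.trans (Subgroup.centralizer_le (by simpa using! hy))
  set L : Subgroup G := MulAut.conj g⁻¹ • H with hL
  have : IsMulCommutative L := isMulCommutative_smul _ _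
  have hyL : y ∈ L := by
    rw [hL, Subgroup.mem_pointwise_smul_iff_inv_smul_mem, ← map_inv, inv_inv, MulAut.smul_def,
      MulAut.conj_apply, hydef]
    have : g * (g⁻¹ * x * g) * g⁻¹ = x := by group
    rw [this]
    exact hx
  have hLC : L ≤ C := by
    have h1 := le_centralizer_of_le L L le_rfl
    exact h1.trans (Subgroup.centralizer_le (by simpa using! hyL))
  have hcardL : Nat.card L = Nat.card H := card_smul _ _
  have : IsMulCommutative (H.subgroupOf C) := by
    constructor; constructor
    rintro ⟨a, ha⟩ ⟨b, hb⟩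
    apply Subtype.ext; apply Subtype.ext
    have := (IsMulCommutative.is_comm (M := H)).comm ⟨(a : G), ha⟩ ⟨(b : G), hb⟩
    exact congrArg (Subtype.val : H → G) this
  have : IsMulCommutative (L.subgroupOf C) := by
    constructor; constructor
    rintro ⟨a, ha⟩ ⟨b, hb⟩
    apply Subtype.ext; apply Subtype.ext
    have := (IsMulCommutative.is_comm (M := L)).comm ⟨(a : G), ha⟩ ⟨(b : G), hb⟩
    exact congrArg (Subtype.val : L → G) this
  have hc1 : Nat.card (H.subgroupOf C) = Nat.card H :=
    Nat.card_congr (Subgroup.subgroupOfEquivOfLe hHC).toEquiv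
  have hc2 : Nat.card (L.subgroupOf C) = Nat.card L :=
    Nat.card_congr (Subgroup.subgroupOfEquivOfLe hLC).toEquiv
  have hi : (H.subgroupOf C).index ∣ H.index := Subgroup.relIndex_dvd_index_of_le hHC
  obtain ⟨c, hc⟩ := exists_conj_eq (H.subgroupOf C) (L.subgroupOf C)
    (by rw [hc1]; exact Nat.Coprime.coprime_dvd_right hi hH) (by rw [hc1, hc2, hcardL])
  -- push forward to `G`
  have hc' : MulAut.conj (c : G) • L = H := by
    apply Subgroup.eq_of_le_of_card_ge
    · intro z hz
      rw [Subgroup.mem_smul_pointwise_iff_exists] at hz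
      obtain ⟨l, hl, rfl⟩ := hz
      have h1 : (MulAut.conj c • (⟨l, hLC hl⟩ : C)) ∈ MulAut.conj c • (L.subgroupOf C) :=
        Subgroup.smul_mem_pointwise_smul _ _ _ hl
      rw [hc] at h1
      exact h1
    · rw [card_smul, hcardL]
  refine ⟨g * (c : G)⁻¹, ?_, ?_⟩
  · rw [← inv_mem_iff (x := g * (c : G)⁻¹), mul_inv_rev, inv_inv]
    rw [Subgroup.mem_normalizer_iff_map_conj_eq]
    change MulAut.conj ((c : G) * g⁻¹) • H = H
    rw [map_mul, mul_smul, ← hL]
    exact hc'
  · have h1 : (c : G) ∈ Subgroup.centralizer ({y} : Set G) := c.2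
    rw [Subgroup.mem_centralizer_iff] at h1
    have h2 := h1 y rfl
    have h3 : (g * (c : G)⁻¹)⁻¹ * x * (g * (c : G)⁻¹) = (c : G) * y * (c : G)⁻¹ := by
      rw [hydef]; group
    rw [h3, ← h2, mul_inv_cancel_right]

end Cfsg.Agent.Transfer.AbelianHall
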