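import Mathlib
set_option linter.all false

/-!
The order of the automorphism group of an elementary abelian `p`-group, and a form of
Burnside's normal complement theorem: an abelian Sylow `p`-subgroup whose automorphism group
has order with no prime divisor (other than `p`) in common with `|G|` has a normal complement.
-/

set_option autoImplicit false

namespace Cfsg.Agent.Transfer.ElemAbAut

/-- The additive automorphism group of a vector space of order `p ^ n` over `ZMod p` has order
`∏ i < n, (p ^ n - p ^ i)`. -/
theorem card_addAut {V : Type*} [AddCommGroup V] [Finite V] (p n : ℕ) [hp : Fact p.Prime]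
    [Module (ZMod p) V] (hc : Nat.card V = p ^ n) :
    Nat.card (AddAut V) = ∏ i : Fin n, (p ^ n - p ^ (i : ℕ)) := by
  classical
  have : Module.Finite (ZMod p) V := Module.Finite.of_finite
  have hfin : Module.finrank (ZMod p) V = n := by
    have h1 := Module.natCard_eq_pow_finrank (K := ZMod p) (V := V)
    rw [Nat.card_zmod, hc] at h1
    exact (Nat.pow_right_injective hp.out.two_le h1).symm
  let b : Module.Basis (Fin n) (ZMod p) V := Module.finBasisOfFinrankEq _ _ hfin
  have e1 : AddAut V ≃ (V ≃ₗ[ZMod p] V) :=
    { toFun := fun f => f.toLinearEquiv (fun c x => ZMod.map_smul f c x)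
      invFun := fun f => f.toAddEquiv
      left_inv := fun f => by ext x; rfl
      right_inv := fun f => by ext x; rfl }
  have e2 : (V ≃ₗ[ZMod p] V) ≃ Matrix.GeneralLinearGroup (Fin n) (ZMod p) :=
    ((LinearMap.GeneralLinearGroup.generalLinearEquiv (ZMod p) V).symm.toEquiv).trans
      (Units.mapEquiv (LinearMap.toMatrixAlgEquiv b).toMulEquiv).toEquiv
  rw [Nat.card_congr (e1.trans e2), Matrix.card_GL_field, ZMod.card] 

/-- The automorphism group of an elementary abelian `p`-group of order `p ^ n` has order
`∏ i < n, (p ^ n - p ^ i)`. -/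
theorem card_mulAut {T : Type*} [hT : Group T] [Finite T] (p n : ℕ) [hp : Fact p.Prime]
    (hcomm : ∀ x y : T, x * y = y * x) (hpow : ∀ x : T, x ^ p = 1) (hc : Nat.card T = p ^ n) :
    Nat.card (MulAut T) = ∏ i : Fin n, (p ^ n - p ^ (i : ℕ)) := by
  let _ : CommGroup T := { hT with mul_comm := hcomm }
  let _ : Module (ZMod p) (Additive T) := AddCommGroup.zmodModule (n := p) (fun x => by
    exact hpow x.toMul)
  rw [← card_addAut (V := Additive T) p n hc]
  exact Nat.card_congr MulEquiv.toAdditive

/-- If the Sylow `p`-subgroup `P` is abelian and every prime dividing both `|Aut P|` and `|G|`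
is `p`, then `N_G(P) ≤ C_G(P)`. -/
theorem normalizer_le_centralizer {G : Type*} [Group G] [Finite G] (p : ℕ) [hp : Fact p.Prime]
    (P : Sylow p G) (hcomm : ∀ x y : P, x * y = y * x)
    (haut : ∀ q : ℕ, q.Prime → q ∣ Nat.card (MulAut P) → q ∣ Nat.card G → q = p) :
    Subgroup.normalizer (P : Set G) ≤ Subgroup.centralizer (P : Set G) := by
  have key := Subgroup.card_dvd_of_injective _
    (QuotientGroup.kerLift_injective P.normalizerMonoidHom)
  rw [Subgroup.normalizerMonoidHom_ker, ← Subgroup.index, ← Subgroup.relIndex] at key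
  have hcent : (P : Subgroup G) ≤ Subgroup.centralizer (P : Set G) := by
    intro x hx
    rw [Subgroup.mem_centralizer_iff]
    intro y hy
    exact congrArg Subtype.val (hcomm ⟨y, hy⟩ ⟨x, hx⟩)
  refine Subgroup.relIndex_eq_one.mp ?_
  by_contra hne
  obtain ⟨q, hq, hqd⟩ := Nat.exists_prime_and_dvd hne
  have h1 := haut q hq (hqd.trans key) (hqd.trans ((Subgroup.relIndex_dvd_card _ _).trans
    (Subgroup.card_subgroup_dvd_card _)))
  subst h1
  have h2 : q ∣ (P : Subgroup G).index :=
    hqd.trans ((Subgroup.relIndex_dvd_of_le_left _ hcent).trans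
      (Subgroup.relIndex_dvd_index_of_le P.le_normalizer))
  exact P.not_dvd_index h2

end Cfsg.Agent.Transfer.ElemAbAut
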