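import Mathlib
set_option linter.all false

/-!
Power formula in class two, and homomorphism `x ↦ x ^ p`.
-/

open scoped commutatorElement

namespace Cfsg.Agent.Transfer.ClassTwo

variable {G : Type*} [Group G]

/-- `y ^ n * x = x * y ^ n * ⁅y, x⁆ ^ n` when `⁅y, x⁆` commutes with `x` and `y`. -/
theorem pow_mul_eq {x y : G} (hx : Commute x ⁅y, x⁆) (hy : Commute y ⁅y, x⁆) (n : ℕ) :
    y ^ n * x = x * y ^ n * ⁅y, x⁆ ^ n := by
  have h1 : y * x = x * y * ⁅y, x⁆ := by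
    have : y * x = ⁅y, x⁆ * (x * y) := by simp [commutatorElement_def, mul_assoc]
    rw [this, (hx.mul_left hy).eq]
  induction n with
  | zero => simp
  | succ n ih =>
    have hyn : Commute y (⁅y, x⁆ ^ n) := hy.pow_right n
    calc y ^ (n + 1) * x = y * (y ^ n * x) := by rw [pow_succ', mul_assoc]
      _ = y * (x * y ^ n * ⁅y, x⁆ ^ n) := by rw [ih]
      _ = (y * x) * y ^ n * ⁅y, x⁆ ^ n := by simp only [mul_assoc]
      _ = x * y * ⁅y, x⁆ * y ^ n * ⁅y, x⁆ ^ n := by rw [h1]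
      _ = x * (y * (⁅y, x⁆ * y ^ n)) * ⁅y, x⁆ ^ n := by simp only [mul_assoc]
      _ = x * (y * (y ^ n * ⁅y, x⁆)) * ⁅y, x⁆ ^ n := by rw [(hy.pow_left n).eq]
      _ = x * y ^ (n + 1) * ⁅y, x⁆ ^ (n + 1) := by
        rw [pow_succ' y, pow_succ' ⁅y, x⁆]; simp only [mul_assoc]

/-- Class-two power formula. -/
theorem mul_pow_eq {x y : G} (hx : Commute x ⁅y, x⁆) (hy : Commute y ⁅y, x⁆) (n : ℕ) :
    (x * y) ^ n = x ^ n * y ^ n * ⁅y, x⁆ ^ (n.choose 2) := by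
  induction n with
  | zero => simp
  | succ n ih =>
    have hc : Nat.choose (n + 1) 2 = n + n.choose 2 := by
      rw [Nat.choose_succ_succ' n 1, Nat.choose_one_right]
    have h1 : Commute (⁅y, x⁆ ^ (n.choose 2)) x := (hx.pow_right _).symm
    have h2 : Commute (⁅y, x⁆ ^ (n.choose 2)) y := (hy.pow_right _).symm
    calc (x * y) ^ (n + 1) = x ^ n * y ^ n * ⁅y, x⁆ ^ (n.choose 2) * (x * y) := by
          rw [pow_succ, ih]
      _ = x ^ n * y ^ n * (⁅y, x⁆ ^ (n.choose 2) * x) * y := by simp only [mul_assoc]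
      _ = x ^ n * y ^ n * (x * ⁅y, x⁆ ^ (n.choose 2)) * y := by rw [h1.eq]
      _ = x ^ n * (y ^ n * x) * (⁅y, x⁆ ^ (n.choose 2) * y) := by simp only [mul_assoc]
      _ = x ^ n * (x * y ^ n * ⁅y, x⁆ ^ n) * (y * ⁅y, x⁆ ^ (n.choose 2)) := by
          rw [h2.eq, pow_mul_eq hx hy n]
      _ = x ^ n * x * y ^ n * (⁅y, x⁆ ^ n * y) * ⁅y, x⁆ ^ (n.choose 2) := by
          simp only [mul_assoc]
      _ = x ^ n * x * y ^ n * (y * ⁅y, x⁆ ^ n) * ⁅y, x⁆ ^ (n.choose 2) := by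
          rw [(hy.pow_right n).eq]
      _ = x ^ (n + 1) * y ^ (n + 1) * ⁅y, x⁆ ^ ((n + 1).choose 2) := by
          rw [hc, pow_add ⁅y, x⁆ n, pow_succ x, pow_succ y]; simp only [mul_assoc]

/-- If `p` is odd, `⁅y, x⁆` commutes with `x`, `y` and has order dividing `p`, then
`(x * y) ^ p = x ^ p * y ^ p`. -/
theorem mul_pow_prime {p : ℕ} (hp : p.Prime) (hp2 : p ≠ 2) {x y : G}
    (hx : Commute x ⁅y, x⁆) (hy : Commute y ⁅y, x⁆) (h : ⁅y, x⁆ ^ p = 1) :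
    (x * y) ^ p = x ^ p * y ^ p := by
  rw [mul_pow_eq hx hy p]
  have hd : p ∣ p.choose 2 :=
    hp.dvd_choose_self (by norm_num) (lt_of_le_of_ne hp.two_le (Ne.symm hp2))
  obtain ⟨k, hk⟩ := hd
  rw [hk, pow_mul, h, one_pow, mul_one]

/-- In a group whose commutators are central of order dividing the odd prime `p`, the map
`x ↦ x ^ p` is a homomorphism. -/
def powHom {p : ℕ} (hp : p.Prime) (hp2 : p ≠ 2) (hc : ∀ x y : G, ⁅x, y⁆ ∈ Subgroup.center G)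
    (h : ∀ x y : G, ⁅x, y⁆ ^ p = 1) : G →* G where
  toFun x := x ^ p
  map_one' := one_pow p
  map_mul' x y := mul_pow_prime hp hp2 (Subgroup.mem_center_iff.mp (hc y x) x)
    (Subgroup.mem_center_iff.mp (hc y x) y) (h y x)

@[simp] theorem powHom_apply {p : ℕ} (hp : p.Prime) (hp2 : p ≠ 2)
    (hc : ∀ x y : G, ⁅x, y⁆ ∈ Subgroup.center G) (h : ∀ x y : G, ⁅x, y⁆ ^ p = 1) (x : G) :
    powHom hp hp2 hc h x = x ^ p := rfl

end Cfsg.Agent.Transfer.ClassTwo
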