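import Mathlib
import Cfsg.Prelude.Def_Transfer
import Cfsg.Agent.Lib.NormalAbelian
import Cfsg.Agent.Lib.FrattiniPGroup
import Cfsg.Agent.Transfer.ElemAbAut
import Cfsg.Agent.Transfer.MaximalClass
import Cfsg.Agent.Transfer.SmallClassPow
set_option linter.all false

/-!
Groups of exponent `p` and rank at most two have order at most `p ^ 3`; for `p > 3`, in a
`p`-group of rank at most two the elements of order dividing `p` form a subgroup.
-/

set_option autoImplicit false

open scoped Pointwise

namespace Cfsg.Agent.Transfer.RankTwoOmega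

universe u

/-- If `A` is a normal self-centralizing subgroup, `|G : A|` divides `|Aut A|`. -/
theorem index_dvd_card_mulAut {G : Type u} [Group G] [Finite G] (A : Subgroup G) [hA : A.Normal]
    (hc : Subgroup.centralizer (A : Set G) = A) : A.index ∣ Nat.card (MulAut A) := by
  have key := Subgroup.card_dvd_of_injective _
    (QuotientGroup.kerLift_injective (MulAut.conjNormal : G →* MulAut A))
  have hker : (MulAut.conjNormal : G →* MulAut A).ker = A := by
    refine Eq.trans ?_ hc
    ext g
    rw [MonoidHom.mem_ker, Subgroup.mem_centralizer_iff]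
    constructor
    · intro h a ha
      have h1 := congrArg (fun f : MulAut A => ((f ⟨a, ha⟩ : A) : G)) h
      simp only [MulAut.conjNormal_apply, MulAut.one_apply] at h1
      exact (mul_inv_eq_iff_eq_mul.mp h1).symm
    · intro h
      ext a
      rw [MulAut.conjNormal_apply, MulAut.one_apply, mul_inv_eq_iff_eq_mul]
      exact (h a a.2).symm
  rw [hker] at key
  exact key

/-- A finite group of exponent dividing `p` all of whose elementary abelian subgroups have order
at most `p ^ 2` has order at most `p ^ 3`. -/
theorem card_le_cube {K : Type u} [Group K] [Finite K] {p : ℕ} [hp : Fact p.Prime]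
    (hexp : ∀ k : K, k ^ p = 1)
    (hrk : ∀ E : Subgroup K, Cfsg.IsElementaryAbelian p E → Nat.card E ≤ p ^ 2) :
    Nat.card K ≤ p ^ 3 := by
  have hpp : p.Prime := hp.out
  have hpK : IsPGroup p K := fun k => ⟨1, by rw [pow_one]; exact hexp k⟩
  have : Group.IsNilpotent K := hpK.isNilpotent
  obtain ⟨A, hA, hAc, hAA⟩ := Lib.NormalAbelian.exists_normal_abelian_selfCentralizing (G := K)
  have hAle : Nat.card A ≤ p ^ 2 := hrk A ⟨hAc, fun a _ => hexp a⟩
  obtain ⟨a, ha⟩ := IsPGroup.iff_card.mp (hpK.to_subgroup A)
  have ha2 : a ≤ 2 := by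
    rw [ha] at hAle
    exact (Nat.pow_le_pow_iff_right hpp.one_lt).mp hAle
  obtain ⟨m, hm⟩ := IsPGroup.iff_card.mp hpK
  have hidx : A.index ∣ Nat.card (MulAut A) := index_dvd_card_mulAut A hAA
  have hcm := A.card_mul_index
  rw [ha, hm] at hcm
  obtain ⟨k, hk1, hk⟩ := (Nat.dvd_prime_pow hpp).mp (Dvd.intro_left _ hcm)
  rw [Transfer.ElemAbAut.card_mulAut p a (fun x y => (isMulCommutative_iff.mp hAc) x y)
    (fun x => Subtype.ext (hexp x)) ha] at hidx
  rw [hk] at hidx
  rw [hk, ← pow_add] at hcm
  rw [hm, ← hcm]
  apply Nat.pow_le_pow_right hpp.pos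
  -- `k ≤ 1` if `a = 2`, `k = 0` if `a ≤ 1`
  interval_cases a
  · simp at hidx
    rcases hidx with h | h
    · exact absurd h hpp.ne_one
    · omega
  · simp at hidx
    rcases Nat.eq_zero_or_pos k with h | h
    · omega
    · exfalso
      have h1 : p ∣ p - 1 := dvd_trans (dvd_pow_self p (by omega)) hidx
      have h2 := Nat.le_of_dvd (by have := hpp.two_le; omega) h1
      have := hpp.two_le
      omega
  · by_contra hcon
    have h1 : p ^ 2 ∣ (p ^ 2 - 1) * (p ^ 2 - p) := by
      have h2 : p ^ 2 ∣ p ^ k := pow_dvd_pow p (by omega)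
      have h3 := h2.trans hidx
      rw [Fin.prod_univ_two] at h3
      simpa using h3
    have h4 : p ^ 2 - p = p * (p - 1) := by
      rw [Nat.mul_sub, mul_one, sq]
    rw [h4, sq, mul_left_comm] at h1
    have h5 : p ∣ (p * p - 1) * (p - 1) := Nat.dvd_of_mul_dvd_mul_left hpp.pos h1
    have hp2 := hpp.two_le
    rcases (Nat.Prime.dvd_mul hpp).mp h5 with h6 | h6
    · have h7 : p ∣ 1 := by
        have h8 : p ∣ p * p - (p * p - 1) := Nat.dvd_sub (dvd_mul_right p p) h6
        have h9 : p * p - (p * p - 1) = 1 := by
          have : 1 ≤ p * p := Nat.one_le_iff_ne_zero.mpr (by positivity)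
          omega
        rwa [h9] at h8
      exact hpp.one_lt.ne' (Nat.dvd_one.mp h7)
    · have := Nat.le_of_dvd (by omega) h6
      omega

/-- A group of order at most `p ^ 4` has class at most three. -/
theorem class_le_three {R : Type u} [Group R] [Finite R] {p : ℕ} [hp : Fact p.Prime] {m : ℕ}
    (hm : Nat.card R = p ^ m) (hm4 : m ≤ 4) :
    ⁅⁅commutator R, (⊤ : Subgroup R)⁆, (⊤ : Subgroup R)⁆ = ⊥ := by
  have hpR : IsPGroup p R := IsPGroup.of_card hm
  have hnil : Group.IsNilpotent R := hpR.isNilpotent
  have h : Group.nilpotencyClass R ≤ 3 := by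
    rcases Nat.lt_or_ge 1 m with h1 | h1
    · have := MaximalClass.nilpotencyClass_le_pred (p := p) m R hm h1
      omega
    · have hcyc : IsCyclic R := by
        interval_cases m
        · rw [pow_zero] at hm
          have := (Nat.card_eq_one_iff_unique.1 hm).1
          exact isCyclic_of_subsingleton
        · rw [pow_one] at hm
          exact isCyclic_of_prime_card hm
      have h2 : Group.nilpotencyClass R ≤ 1 :=
        (Group.IsNilpotent.nilpotencyClass_le_one_iff (G := R)).2 inferInstance
      omega
  have h3 := (Subgroup.lowerCentralSeries_eq_bot_iff_nilpotencyClass_le (G := R) (n := 3)).2 h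
  exact h3

/-- For `p > 3`, in a finite `p`-group of rank at most two the elements of order dividing `p`
are closed under multiplication. -/
theorem mul_pow_eq_one {p : ℕ} [hp : Fact p.Prime] (hp3 : 3 < p) (n : ℕ) :
    ∀ (R : Type u) [Group R] [Finite R], Nat.card R = n → IsPGroup p R →
      (∀ E : Subgroup R, Cfsg.IsElementaryAbelian p E → Nat.card E ≤ p ^ 2) →
      ∀ x y : R, x ^ p = 1 → y ^ p = 1 → (x * y) ^ p = 1 := by
  have hpp : p.Prime := hp.out
  induction n using Nat.strong_induction_on with
  | _ n ih =>
    intro R _ _ hn hR hrk x y hx hy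
    -- the statement holds in proper subgroups
    have hsub : ∀ S : Subgroup R, S ≠ ⊤ → ∀ a ∈ S, ∀ b ∈ S, a ^ p = 1 → b ^ p = 1 →
        (a * b) ^ p = 1 := by
      intro S hS a ha b hb hap hbp
      have hlt : Nat.card S < n := by
        rw [← hn]
        exact lt_of_le_of_ne (Subgroup.card_le_card_group S)
          (fun h => hS (Subgroup.eq_top_of_card_eq S h))
      have hrkS : ∀ E : Subgroup S, Cfsg.IsElementaryAbelian p E → Nat.card E ≤ p ^ 2 := by
        intro E hE
        have h1 : Cfsg.IsElementaryAbelian p (E.map S.subtype) := by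
          refine ⟨?_, ?_⟩
          · have := hE.1
            infer_instance
          · rintro _ ⟨e, he, rfl⟩
            have := hE.2 e he
            rw [← map_pow, this, map_one]
        have h2 := hrk _ h1
        rwa [Subgroup.card_map_of_injective S.subtype_injective] at h2
      have := ih (Nat.card S) hlt S rfl (hR.to_subgroup S) hrkS ⟨a, ha⟩ ⟨b, hb⟩
        (Subtype.ext hap) (Subtype.ext hbp)
      simpa using congrArg Subtype.val this
    by_cases hS : Subgroup.closure {x, y} = ⊤
    swap
    · exact hsub _ hS x (Subgroup.subset_closure (by simp)) y (Subgroup.subset_closure (by simp))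
        hx hy
    by_cases hX : Subgroup.zpowers x = ⊤
    · -- cyclic
      have hy' : y ∈ Subgroup.zpowers x := by rw [hX]; trivial
      obtain ⟨k, rfl⟩ := Subgroup.mem_zpowers_iff.mp hy'
      have hc : Commute x (x ^ k) := (Commute.refl x).zpow_right k
      rw [hc.mul_pow, hx, hy, one_mul]
    -- `M` a maximal subgroup containing `x`
    obtain ⟨M, hM, hxM⟩ : ∃ M : Subgroup R, IsCoatom M ∧ Subgroup.zpowers x ≤ M := by
      rcases eq_top_or_exists_le_coatom (Subgroup.zpowers x) with h | h
      · exact absurd h hX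
      · exact h
    have hMn : M.Normal := Lib.FrattiniPGroup.normal_of_coatom hR hM
    have hxM' : x ∈ M := hxM (Subgroup.mem_zpowers x)
    let K : Subgroup R :=
      { carrier := {k | k ∈ M ∧ k ^ p = 1}
        one_mem' := ⟨one_mem M, one_pow p⟩
        mul_mem' := fun {a b} ha hb => ⟨mul_mem ha.1 hb.1, hsub M hM.1 a ha.1 b hb.1 ha.2 hb.2⟩
        inv_mem' := fun {a} ha => ⟨inv_mem ha.1, by rw [inv_pow, ha.2, inv_one]⟩ }
    have hKn : K.Normal := by
      refine ⟨fun k hk g => ⟨hMn.conj_mem k hk.1 g, ?_⟩⟩
      rw [conj_pow, hk.2, mul_one, mul_inv_cancel]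
    have hK : Nat.card K ≤ p ^ 3 := by
      apply card_le_cube
      · intro k
        exact Subtype.ext k.2.2
      · intro E hE
        have h1 : Cfsg.IsElementaryAbelian p (E.map K.subtype) := by
          refine ⟨?_, ?_⟩
          · have := hE.1
            infer_instance
          · rintro _ ⟨e, he, rfl⟩
            have := hE.2 e he
            rw [← map_pow, this, map_one]
        have h2 := hrk _ h1
        rwa [Subgroup.card_map_of_injective K.subtype_injective] at h2
    have htop : K ⊔ Subgroup.zpowers y = ⊤ := by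
      rw [eq_top_iff, ← hS, Subgroup.closure_le]
      rintro z (rfl | hz)
      · exact (le_sup_left : K ≤ _) ⟨hxM', hx⟩
      · rw [Set.mem_singleton_iff.mp hz]
        exact (le_sup_right : Subgroup.zpowers y ≤ _) (Subgroup.mem_zpowers y)
    have hy1 : Nat.card (Subgroup.zpowers y) ≤ p := by
      rw [Nat.card_zpowers]
      exact orderOf_le_of_pow_eq_one hpp.pos hy
    have hcardR : Nat.card R ≤ p ^ 4 := by
      have h1 : Nat.card (K ⊔ Subgroup.zpowers y : Subgroup R) ≤
          Nat.card K * Nat.card (Subgroup.zpowers y) := by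
        have h2 : ((K ⊔ Subgroup.zpowers y : Subgroup R) : Set R) =
            (K : Set R) * (Subgroup.zpowers y : Set R) := Subgroup.normal_mul K _
        have h3 := Set.natCard_mul_le (s := (K : Set R)) (t := (Subgroup.zpowers y : Set R))
        rw [← h2] at h3
        exact h3
      rw [htop] at h1
      calc Nat.card R = Nat.card (⊤ : Subgroup R) := by rw [Subgroup.card_top]
        _ ≤ Nat.card K * Nat.card (Subgroup.zpowers y) := h1
        _ ≤ p ^ 3 * p := Nat.mul_le_mul hK hy1
        _ = p ^ 4 := by ring
    obtain ⟨m, hm⟩ := IsPGroup.iff_card.mp hR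
    have hm4 : m ≤ 4 := by
      rw [hm] at hcardR
      exact (Nat.pow_le_pow_iff_right hpp.one_lt).mp hcardR
    have hcl := class_le_three hm hm4
    refine SmallClassPow.pow_eq_one_of_mem_closure hpp (Or.inr ⟨hp3, hcl⟩) ?_
    exact mul_mem (Subgroup.subset_closure hx) (Subgroup.subset_closure hy)

end Cfsg.Agent.Transfer.RankTwoOmega
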