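import Mathlib
set_option linter.all false

/-!
Finite p-groups: a normal subgroup of order p^(i+1) contains a normal subgroup M of index p with
`[N, G] ≤ M`; bound for the index of the centralizer of a normal subgroup of order p^i.
-/

set_option autoImplicit false

namespace Cfsg.Agent.Transfer.PGroupChain

open scoped commutatorElement

/-- In a nilpotent group `[N, G] < N` for a nontrivial normal subgroup. -/
theorem commutator_top_lt {G : Type*} [Group G] [hnil : Group.IsNilpotent G] (N : Subgroup G)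
    [hN : N.Normal] (hne : N ≠ ⊥) : ⁅N, (⊤ : Subgroup G)⁆ < N := by
  refine lt_of_le_of_ne (Subgroup.commutator_le_left N ⊤) ?_
  intro h
  obtain ⟨n, hn⟩ := Subgroup.nilpotent_iff_lowerCentralSeries.mp hnil
  have hle : ∀ k, N ≤ Subgroup.lowerCentralSeries (⊤ : Subgroup G) k := by
    intro k
    induction k with
    | zero => simp
    | succ k ih =>
      rw [Subgroup.lowerCentralSeries_succ]
      calc N = ⁅N, (⊤ : Subgroup G)⁆ := h.symm
        _ ≤ _ := Subgroup.commutator_mono ih le_rfl
  exact hne (le_bot_iff.mp (hn ▸ hle n))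

/-- A normal subgroup of order `p ^ (i+1)` of a finite p-group `G` contains a subgroup `M` of order
`p ^ i`, normal in `G`, with `[N, G] ≤ M`. -/
theorem exists_normal_index_p {G : Type*} [Group G] [Finite G] {p : ℕ} [Fact p.Prime]
    (hG : IsPGroup p G) (N : Subgroup G) [hN : N.Normal] {i : ℕ} (hi : Nat.card N = p ^ (i + 1)) :
    ∃ M : Subgroup G, M.Normal ∧ M ≤ N ∧ Nat.card M = p ^ i ∧ ⁅N, (⊤ : Subgroup G)⁆ ≤ M := by
  have hp : p.Prime := Fact.out
  have hnil : Group.IsNilpotent G := hG.isNilpotent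
  have hne : N ≠ ⊥ := by
    rintro rfl
    rw [Subgroup.card_bot] at hi
    have : 1 < p ^ (i + 1) := Nat.one_lt_pow (by omega) hp.one_lt
    omega
  have hlt := commutator_top_lt N hne
  set K := ⁅N, (⊤ : Subgroup G)⁆ with hK
  obtain ⟨m, hm⟩ := (IsPGroup.iff_card (p := p)).mp (hG.to_subgroup K)
  have hKN : Nat.card K < Nat.card N := by
    refine lt_of_le_of_ne (Subgroup.card_le_of_le hlt.le) fun h => ?_
    exact hlt.ne (Subgroup.eq_of_le_of_card_ge hlt.le h.ge)
  have hmi : m ≤ i := by
    rw [hm, hi] at hKN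
    have := (Nat.pow_lt_pow_iff_right hp.one_lt).mp hKN
    omega
  have hcardsub : Nat.card (K.subgroupOf N) = p ^ m := by
    rw [← hm]
    exact Nat.card_congr (Subgroup.subgroupOfEquivOfLe hlt.le).toEquiv
  obtain ⟨M', hM'card, hM'⟩ := Sylow.exists_subgroup_card_pow_prime_le (G := N) (n := m) (m := i) (p := p)
    (by rw [hi]; exact pow_dvd_pow p (by omega)) (K.subgroupOf N) hcardsub hmi
  have hKM : K ≤ M'.map N.subtype := by
    intro y hy
    exact ⟨⟨y, hlt.le hy⟩, hM' (Subgroup.mem_subgroupOf.mpr hy), rfl⟩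
  have hMN : M'.map N.subtype ≤ N := by
    rintro _ ⟨y, -, rfl⟩; exact y.2
  refine ⟨M'.map N.subtype, ?_, hMN, ?_, hKM⟩
  · refine Subgroup.Normal.mk fun y hy g => ?_
    have h1 : ⁅y, g⁆ ∈ K := Subgroup.commutator_mem_commutator (hMN hy) (Subgroup.mem_top g)
    have h2 : g * y * g⁻¹ = ⁅y, g⁆⁻¹ * y := by rw [commutatorElement_def]; group
    rw [h2]
    exact Subgroup.mul_mem _ (Subgroup.inv_mem _ (hKM h1)) hy
  · rw [Subgroup.card_map_of_injective N.subtype_injective]
    exact hM'card

/-- If `M ≤ N` are normal subgroups of the finite p-group `G` with `|M| = p ^ i`, `|N| = p ^ (i+1)`,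
then `|C_G(M)| ≤ p ^ i * |C_G(N)|`. -/
theorem card_centralizer_le {G : Type*} [Group G] [Finite G] {p : ℕ} [Fact p.Prime]
    (hG : IsPGroup p G) (M N : Subgroup G) (hMN : M ≤ N)
    (hcomm : ⁅N, (⊤ : Subgroup G)⁆ ≤ M) {i : ℕ} (hM : Nat.card M = p ^ i)
    (hN : Nat.card N = p ^ (i + 1)) :
    Nat.card (Subgroup.centralizer (M : Set G)) ≤
      p ^ i * Nat.card (Subgroup.centralizer (N : Set G)) := by
  classical
  have hp : p.Prime := Fact.out
  have hne : ∃ a ∈ N, a ∉ M := by
    by_contra hcon
    push Not at hcon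
    have : M = N := le_antisymm hMN hcon
    rw [this, hN] at hM
    have := Nat.pow_right_injective hp.two_le hM
    omega
  obtain ⟨a, haN, haM⟩ := hne
  have hsup : M ⊔ Subgroup.zpowers a = N := by
    have hle : M ⊔ Subgroup.zpowers a ≤ N :=
      sup_le hMN (by rw [Subgroup.zpowers_le]; exact haN)
    apply Subgroup.eq_of_le_of_card_ge hle
    obtain ⟨j, hj⟩ := (IsPGroup.iff_card (p := p)).mp (hG.to_subgroup (M ⊔ Subgroup.zpowers a))
    have hlt : Nat.card M < Nat.card ↥(M ⊔ Subgroup.zpowers a) := by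
      refine lt_of_le_of_ne (Subgroup.card_le_of_le le_sup_left) fun h => ?_
      have h2 : M = M ⊔ Subgroup.zpowers a := Subgroup.eq_of_le_of_card_ge le_sup_left h.ge
      exact haM (h2 ▸ ((le_sup_right : Subgroup.zpowers a ≤ _) (Subgroup.mem_zpowers a)))
    rw [hM, hj] at hlt
    have hij := (Nat.pow_lt_pow_iff_right hp.one_lt).mp hlt
    rw [hN, hj]
    exact Nat.pow_le_pow_right hp.pos hij
  set CM := Subgroup.centralizer (M : Set G) with hCM
  set CN := Subgroup.centralizer (N : Set G) with hCN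
  have hCNM : CN ≤ CM := Subgroup.centralizer_le hMN
  -- g ∈ C_G(M) commuting with a lies in C_G(N)
  have hmem : ∀ g ∈ CM, g * a = a * g → g ∈ CN := by
    intro g hg hga
    rw [hCN, Subgroup.mem_centralizer_iff]
    have hle : N ≤ Subgroup.centralizer ({g} : Set G) := by
      rw [← hsup]
      refine sup_le ?_ ?_
      · intro y hy
        rw [Subgroup.mem_centralizer_iff]
        rintro _ rfl
        exact (Subgroup.mem_centralizer_iff.mp hg y hy).symm
      · rw [Subgroup.zpowers_le, Subgroup.mem_centralizer_iff]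
        rintro _ rfl
        exact hga
    intro y hy
    exact (Subgroup.mem_centralizer_iff.mp (hle hy) g rfl).symm
  let f : CM → M := fun g => ⟨g * a * g⁻¹ * a⁻¹, by
    have h1 : ⁅a, (g : G)⁆ ∈ M := hcomm (Subgroup.commutator_mem_commutator haN (Subgroup.mem_top _))
    have h2 := M.inv_mem h1
    rw [commutatorElement_inv, commutatorElement_def] at h2
    exact h2⟩
  have hf : ∀ g h : CM, f g = f h ↔ g⁻¹ * h ∈ CN.subgroupOf CM := by
    intro g h
    have hiff : f g = f h ↔ (g : G) * a * (g : G)⁻¹ = (h : G) * a * (h : G)⁻¹ := by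
      simp only [f, Subtype.mk.injEq, mul_left_inj, InvMemClass.coe_inv]
    rw [hiff, Subgroup.mem_subgroupOf]
    constructor
    · intro h1
      apply hmem _ (CM.mul_mem (CM.inv_mem g.2) h.2)
      have h2 : a = (g : G)⁻¹ * ((h : G) * a * (h : G)⁻¹) * g := by rw [← h1]; group
      calc (g : G)⁻¹ * h * a = (g : G)⁻¹ * ((h : G) * a * (h : G)⁻¹) * g * ((g : G)⁻¹ * h) := by group
        _ = a * ((g : G)⁻¹ * h) := by rw [← h2]
    · intro h1
      have h2 := Subgroup.mem_centralizer_iff.mp h1 a haN
      have h3 : a * ((g : G)⁻¹ * h) = (g : G)⁻¹ * h * a := h2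
      calc (g : G) * a * (g : G)⁻¹ = (g : G) * (a * ((g : G)⁻¹ * h)) * (h : G)⁻¹ := by group
        _ = (g : G) * ((g : G)⁻¹ * h * a) * (h : G)⁻¹ := by rw [h3]
        _ = _ := by group
  let F : CM ⧸ CN.subgroupOf CM → M := Quotient.lift f (fun g h hgh => by
    exact (hf g h).mpr (QuotientGroup.leftRel_apply.mp hgh))
  have hF : Function.Injective F := by
    intro x y
    induction x using Quotient.inductionOn with | _ x => ?_
    induction y using Quotient.inductionOn with | _ y => ?_
    intro h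
    apply Quotient.sound
    exact QuotientGroup.leftRel_apply.mpr ((hf x y).mp h)
  have h1 : Nat.card (CM ⧸ CN.subgroupOf CM) ≤ p ^ i := by
    rw [← hM]; exact Nat.card_le_card_of_injective F hF
  have h2 : Nat.card CM = Nat.card (CM ⧸ CN.subgroupOf CM) * Nat.card (CN.subgroupOf CM) :=
    Subgroup.card_eq_card_quotient_mul_card_subgroup _
  have h3 : Nat.card (CN.subgroupOf CM) = Nat.card CN :=
    Nat.card_congr (Subgroup.subgroupOfEquivOfLe hCNM).toEquiv
  rw [h2, h3]
  exact Nat.mul_le_mul_right _ h1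

/-- In a finite p-group `|G| ≤ p ^ (i choose 2) * |C_G(N)|` for a normal subgroup `N` of order `p ^ i`. -/
theorem card_le_mul_card_centralizer {G : Type*} [Group G] [Finite G] {p : ℕ} [Fact p.Prime]
    (hG : IsPGroup p G) (i : ℕ) (N : Subgroup G) (hNn : N.Normal) (hN : Nat.card N = p ^ i) :
    Nat.card G ≤ p ^ (i.choose 2) * Nat.card (Subgroup.centralizer (N : Set G)) := by
  induction i generalizing N with
  | zero =>
    have : N = ⊥ := Subgroup.card_eq_one.mp (by simpa using hN)
    subst this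
    have h1 : Subgroup.centralizer (((⊥ : Subgroup G) : Set G)) = ⊤ := by
      rw [eq_top_iff]
      intro g _
      rw [Subgroup.mem_centralizer_iff]
      intro y hy
      have : y = 1 := hy
      simp [this]
    rw [h1, Subgroup.card_top]
    simp
  | succ i ih =>
    obtain ⟨M, hMn, hMN, hM, hcomm⟩ := exists_normal_index_p hG N hN
    have h1 := ih M hMn hM
    have h2 := card_centralizer_le hG M N hMN hcomm hM hN
    rw [Nat.choose_succ_succ' i 1, Nat.choose_one_right, add_comm, pow_add, mul_assoc]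
    exact h1.trans (Nat.mul_le_mul_left _ h2)

end Cfsg.Agent.Transfer.PGroupChain
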