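import Cfsg.Agent.Transfer.SL23Recog
set_option linter.all false

/-!
# Sections isomorphic to SL(2,3)

* `exists_section`: elements `i, j, t` of a finite group with the relations `SLRel`, `i^2 ≠ 1`
  and `t` of odd order give a section isomorphic to `SL(2,3)`.
* `exists_slrel_of_quaternion`: if `g` is an element of odd order normalising and not
  centralising a subgroup `Q` of a generalized quaternion 2-group `T`, such elements exist.
-/

set_option autoImplicit false

namespace Cfsg.Agent.Transfer.SL23Section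

open Subgroup Cfsg.Agent.Transfer.SL23Recog

local notation "SL23" => Matrix.SpecialLinearGroup (Fin 2) (ZMod 3)

theorem slrel_map {M M' : Type*} [Group M] [Group M'] (f : M →* M') {i j t : M}
    (h : SLRel i j t) : SLRel (f i) (f j) (f t) where
  hi := by rw [← map_pow, h.hi, map_one]
  hj := by rw [← map_pow, ← map_pow, h.hj]
  hji := by rw [← map_inv, ← map_mul, ← map_mul, h.hji, map_inv]
  hti := by rw [← map_inv, ← map_mul, ← map_mul, h.hti]
  htj := by rw [← map_inv, ← map_mul, ← map_mul, h.htj, map_mul]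

theorem slrel_subtype {M : Type*} [Group M] (H : Subgroup M) {i j t : M}
    (hi : i ∈ H) (hj : j ∈ H) (ht : t ∈ H) (h : SLRel i j t) :
    SLRel (⟨i, hi⟩ : H) ⟨j, hj⟩ ⟨t, ht⟩ where
  hi := Subtype.ext h.hi
  hj := Subtype.ext h.hj
  hji := Subtype.ext h.hji
  hti := Subtype.ext h.hti
  htj := Subtype.ext h.htj

variable {G : Type*} [Group G]

theorem j_not_commute {i j : G} (h : QRel i j) (hi2 : i ^ 2 ≠ 1) : ¬ Commute j i := by
  intro hc
  apply hi2
  have := h.hji
  rw [hc.eq, mul_inv_cancel_right] at this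
  rw [pow_two]
  nth_rewrite 1 [this]
  simp

theorem card_quaternion [Finite G] {i j : G} (h : QRel i j) (hi2 : i ^ 2 ≠ 1) :
    Nat.card (Subgroup.closure ({i, j} : Set G)) = 8 := by
  obtain ⟨-, hle⟩ := h.card_le
  have hi' : i ∈ Subgroup.closure ({i, j} : Set G) := subset_closure (by simp)
  have hj' : j ∈ Subgroup.closure ({i, j} : Set G) := subset_closure (by simp)
  have hz : zpowers i ≤ Subgroup.closure ({i, j} : Set G) := by
    rw [zpowers_le]; exact hi'
  have ho : orderOf i = 4 := by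
    rw [show (4 : ℕ) = 2 ^ (1 + 1) from rfl]
    exact orderOf_eq_prime_pow (by simpa using hi2) (by simpa using h.hi)
  have hcz : Nat.card (zpowers i) = 4 := by rw [Nat.card_zpowers, ho]
  have hdvd : 4 ∣ Nat.card (Subgroup.closure ({i, j} : Set G)) := by
    rw [← hcz]; exact card_dvd_of_le hz
  have hpos : 0 < Nat.card (Subgroup.closure ({i, j} : Set G)) := Nat.card_pos
  have hne : Nat.card (Subgroup.closure ({i, j} : Set G)) ≠ 4 := by
    intro h4
    have heq : zpowers i = Subgroup.closure ({i, j} : Set G) :=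
      eq_of_le_of_card_ge hz (by rw [hcz, h4])
    have : j ∈ zpowers i := by rw [heq]; exact hj'
    obtain ⟨k, rfl⟩ := mem_zpowers_iff.mp this
    exact j_not_commute h hi2 ((Commute.refl i).zpow_left k)
  omega

theorem exists_section [Finite G] {i j t : G} (h : SLRel i j t) (hi2 : i ^ 2 ≠ 1)
    (ht : Odd (orderOf t)) :
    ∃ (H K : Subgroup G) (_ : (K.subgroupOf H).Normal),
      Nonempty ((H ⧸ K.subgroupOf H) ≃* SL23) := by
  have hjne : j ≠ i := by
    rintro rfl
    exact j_not_commute h.toQRel hi2 (Commute.refl _)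
  -- `t^3` centralises `i` and `j`
  have e1 : t * (i * j) * t⁻¹ = i := by
    have : t * (i * j) * t⁻¹ = (t * i * t⁻¹) * (t * j * t⁻¹) := by group
    rw [this, h.hti, h.htj, ← mul_assoc, h.toQRel.ji, mul_assoc, ← pow_two, h.hj, ← pow_add,
      show 3 + 2 = 4 + 1 from rfl, pow_add, h.hi, one_mul, pow_one]
  have ci : t ^ 3 * i * (t ^ 3)⁻¹ = i := by
    have : t ^ 3 * i * (t ^ 3)⁻¹ = t * (t * (t * i * t⁻¹) * t⁻¹) * t⁻¹ := by
      simp [pow_succ, mul_assoc]
    rw [this, h.hti, h.htj, e1]
  have cj : t ^ 3 * j * (t ^ 3)⁻¹ = j := by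
    have : t ^ 3 * j * (t ^ 3)⁻¹ = t * (t * (t * j * t⁻¹) * t⁻¹) * t⁻¹ := by
      simp [pow_succ, mul_assoc]
    rw [this, h.htj, e1, h.hti]
  let H : Subgroup G := Subgroup.closure {i, j, t}
  let K : Subgroup G := zpowers (t ^ 3)
  have hiH : i ∈ H := subset_closure (by simp)
  have hjH : j ∈ H := subset_closure (by simp)
  have htH : t ∈ H := subset_closure (by simp)
  have hHc : H ≤ centralizer {t ^ 3} := by
    rw [closure_le]
    intro x hx
    rw [SetLike.mem_coe, mem_centralizer_singleton_iff]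
    rcases hx with rfl | rfl | hx
    · rw [mul_inv_eq_iff_eq_mul] at ci; exact ci.symm
    · rw [mul_inv_eq_iff_eq_mul] at cj; exact cj.symm
    · rw [Set.mem_singleton_iff] at hx; subst hx
      exact ((Commute.refl x).pow_right 3).eq
  have hcomm : ∀ x ∈ H, ∀ k ∈ K, Commute x k := by
    intro x hx k hk
    obtain ⟨m, rfl⟩ := mem_zpowers_iff.mp hk
    have := hHc hx
    rw [mem_centralizer_singleton_iff] at this
    exact Commute.zpow_right this m
  have hKn : (K.subgroupOf H).Normal := by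
    constructor
    intro k hk x
    rw [mem_subgroupOf] at hk ⊢
    have := hcomm x x.2 k hk
    push_cast
    rw [this.eq, mul_inv_cancel_right]
    exact hk
  refine ⟨H, K, hKn, ?_⟩
  let π := QuotientGroup.mk' (K.subgroupOf H)
  have hrel : SLRel (π ⟨i, hiH⟩) (π ⟨j, hjH⟩) (π ⟨t, htH⟩) :=
    slrel_map π (slrel_subtype H hiH hjH htH h)
  have ht3 : (π ⟨t, htH⟩) ^ 3 = 1 := by
    rw [← map_pow]
    change ((_ : H) : H ⧸ K.subgroupOf H) = 1
    rw [QuotientGroup.eq_one_iff, mem_subgroupOf]
    exact mem_zpowers (t ^ 3)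
  have hgen : Subgroup.closure ({π ⟨i, hiH⟩, π ⟨j, hjH⟩, π ⟨t, htH⟩} : Set (H ⧸ K.subgroupOf H)) = ⊤ := by
    have h1 : (Subgroup.closure ({⟨i, hiH⟩, ⟨j, hjH⟩, ⟨t, htH⟩} : Set H)) = ⊤ := by
      have := Subgroup.closure_closure_coe_preimage (k := ({i, j, t} : Set G))
      rw [← this]
      congr 1
      ext ⟨x, hx⟩
      simp [Subtype.ext_iff]
    have h2 := congrArg (Subgroup.map π) h1
    rw [MonoidHom.map_closure, ← MonoidHom.range_eq_map,
      MonoidHom.range_eq_top.mpr (QuotientGroup.mk'_surjective _)] at h2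
    rw [← h2]
    congr 1
    simp [Set.image_insert_eq]
  have hcard : Nat.card (H ⧸ K.subgroupOf H) = 24 := by
    have hle : Nat.card (H ⧸ K.subgroupOf H) ≤ 24 := by
      have := (hrel.card_le ht3).2
      rw [hgen] at this
      rwa [Subgroup.card_top] at this
    have h8 : 8 ∣ Nat.card H := by
      rw [← card_quaternion h.toQRel hi2]
      apply card_dvd_of_le
      apply Subgroup.closure_mono
      intro x hx
      rcases hx with rfl | hx
      · simp
      · rw [Set.mem_singleton_iff] at hx; subst hx; simp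
    have hKodd : Odd (Nat.card (K.subgroupOf H)) := by
      have h1 : Nat.card (K.subgroupOf H) ∣ Nat.card K :=
        Subgroup.card_comap_dvd_of_injective K H.subtype H.subtype_injective
      have h2 : Nat.card K ∣ orderOf t := by
        rw [Nat.card_zpowers]; exact orderOf_pow_dvd 3
      exact Odd.of_dvd_nat ht (h1.trans h2)
    have hprod : Nat.card H = Nat.card (H ⧸ K.subgroupOf H) * Nat.card (K.subgroupOf H) :=
      Subgroup.card_eq_card_quotient_mul_card_subgroup _
    have h8' : 8 ∣ Nat.card (H ⧸ K.subgroupOf H) := by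
      rw [hprod] at h8
      refine Nat.Coprime.dvd_of_dvd_mul_right ?_ h8
      rw [show (8 : ℕ) = 2 ^ 3 from rfl]
      apply Nat.Coprime.pow_left
      rw [Nat.coprime_two_left]
      exact hKodd
    have htne : π ⟨t, htH⟩ ≠ 1 := by
      intro h1
      have h2 : (⟨t, htH⟩ : H) ∈ K.subgroupOf H := (QuotientGroup.eq_one_iff _).mp h1
      rw [mem_subgroupOf] at h2
      have := hcomm i hiH t h2
      apply hjne
      rw [← h.hti, ← this.eq, mul_inv_cancel_right]
    have h3 : 3 ∣ Nat.card (H ⧸ K.subgroupOf H) := by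
      have := orderOf_eq_prime ht3 htne
      rw [← this]
      exact orderOf_dvd_natCard _
    have h24 : 24 ∣ Nat.card (H ⧸ K.subgroupOf H) := by
      rw [show (24 : ℕ) = 8 * 3 from rfl]
      exact Nat.Coprime.mul_dvd_of_dvd_of_dvd (by norm_num) h8' h3
    exact le_antisymm hle (Nat.le_of_dvd Nat.card_pos h24)
  exact sl23_of_relations hrel ht3 hgen hcard

/-! ### Odd order elements acting on cyclic 2-groups -/

theorem commute_of_zpowers [Finite G] {u g : G} {k : ℕ} (hu : u ^ (2 ^ k) = 1)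
    (hg : Odd (orderOf g)) (h : g * u * g⁻¹ ∈ zpowers u) : Commute g u := by
  have hgn : g ∈ normalizer (zpowers u : Set G) := by
    rw [Subgroup.mem_normalizer_iff_map_conj_eq]
    have hle : (zpowers u).map (MulAut.conj g : G →* G) ≤ zpowers u := by
      rw [MonoidHom.map_zpowers, zpowers_le]
      exact h
    apply eq_of_le_of_card_ge hle
    rw [Subgroup.card_map_of_injective (MulAut.conj g).injective]
  let φ := (zpowers u).normalizerMonoidHom
  have hcm : Nat.card (MulAut (zpowers u)) = Nat.totient (Nat.card (zpowers u)) :=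
    IsCyclic.card_mulAut _
  have h2 : ∃ m, Nat.card (MulAut (zpowers u)) = 2 ^ m := by
    rw [hcm]
    obtain ⟨m, -, hm⟩ := (Nat.dvd_prime_pow Nat.prime_two).mp (orderOf_dvd_of_pow_eq_one hu)
    rw [Nat.card_zpowers, hm]
    rcases Nat.eq_zero_or_pos m with h0 | h0
    · exact ⟨0, by rw [h0]; rfl⟩
    · exact ⟨m - 1, by rw [Nat.totient_prime_pow Nat.prime_two h0]; simp⟩
  obtain ⟨m, hm⟩ := h2
  have h3 : φ ⟨g, hgn⟩ = 1 := by
    rw [← orderOf_eq_one_iff]
    have h4 : orderOf (φ ⟨g, hgn⟩) ∣ 2 ^ m := by rw [← hm]; exact orderOf_dvd_natCard _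
    have h5 : orderOf (φ ⟨g, hgn⟩) ∣ orderOf g := by
      have := orderOf_map_dvd φ ⟨g, hgn⟩
      rwa [← Subgroup.orderOf_coe] at this
    exact Nat.eq_one_of_dvd_coprimes
      (Nat.Coprime.pow_left m (Nat.coprime_two_left.mpr hg)) h4 h5
  have h6 := congrArg (fun f : MulAut (zpowers u) => ((f ⟨u, mem_zpowers u⟩ : zpowers u) : G)) h3
  have h7 : g * u * g⁻¹ = u := h6
  rw [mul_inv_eq_iff_eq_mul] at h7
  exact h7

/-- `T` is a generalized quaternion group, seen inside `G`: `A = ⟨c⟩` is its cyclic subgroup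
of index two and `z` its involution. -/
structure IsQuat (T : Subgroup G) (c z : G) : Prop where
  c_mem : c ∈ T
  sq : ∀ x ∈ T, x ∉ zpowers c → x ^ 2 = z
  conj : ∀ x ∈ T, x ∉ zpowers c → ∀ u ∈ zpowers c, x * u * x⁻¹ = u⁻¹
  invol : ∀ u ∈ zpowers c, u ^ 2 = 1 → u = 1 ∨ u = z
  z_sq : z ^ 2 = 1
  z_ne : z ≠ 1
  z_mem : z ∈ zpowers c
  quot : ∀ x ∈ T, ∀ y ∈ T, x ∉ zpowers c → y ∉ zpowers c → x⁻¹ * y ∈ zpowers c
  two : IsPGroup 2 T

theorem exists_slrel_of_quaternion [Finite G] {T : Subgroup G} {c z : G} (hT : IsQuat T c z)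
    (Q : Subgroup G) (hQ : Q ≤ T) (g : G) (hgQ : g ∈ normalizer (Q : Set G))
    (hg : Odd (orderOf g)) (hgc : g ∉ centralizer (Q : Set G)) :
    ∃ i j t : G, SLRel i j t ∧ i ^ 2 ≠ 1 ∧ Odd (orderOf t) := by
  have htwo : ∀ x ∈ T, ∃ k : ℕ, x ^ (2 ^ k) = 1 := by
    intro x hx
    obtain ⟨k, hk⟩ := hT.two ⟨x, hx⟩
    exact ⟨k, congrArg Subtype.val hk⟩
  have hcT : zpowers c ≤ T := by rw [zpowers_le]; exact hT.c_mem
  have hgq : ∀ q ∈ Q, g * q * g⁻¹ ∈ Q := fun q hq => ((mem_normalizer_iff.mp hgQ) q).mp hq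
  -- B = Q ∩ A is cyclic
  obtain ⟨b, hb⟩ : ∃ b, zpowers b = Q ⊓ zpowers c := by
    have h1 : IsCyclic (zpowers c) := inferInstance
    have h2 : IsCyclic (Q.subgroupOf (zpowers c)) := inferInstance
    obtain ⟨b, hb⟩ := h2.exists_generator
    refine ⟨((b : zpowers c) : G), ?_⟩
    apply le_antisymm
    · rw [zpowers_le]
      exact mem_inf.mpr ⟨b.2, (b : zpowers c).2⟩
    · intro x hx
      obtain ⟨hx1, hx2⟩ := mem_inf.mp hx
      obtain ⟨k, hk⟩ := mem_zpowers_iff.mp (hb ⟨⟨x, hx2⟩, hx1⟩)
      rw [mem_zpowers_iff]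
      exact ⟨k, by simpa using congrArg (fun y : (Q.subgroupOf (zpowers c)) => ((y : zpowers c) : G)) hk⟩
  have hbB : b ∈ Q ⊓ zpowers c := by rw [← hb]; exact mem_zpowers b
  obtain ⟨hbQ, hbA⟩ := mem_inf.mp hbB
  obtain ⟨kb, hkb⟩ := htwo b (hQ hbQ)
  by_cases hcase : g * b * g⁻¹ ∈ zpowers c
  · -- then g centralises Q
    exfalso
    have hgb : Commute g b := by
      apply commute_of_zpowers hkb hg
      rw [hb]
      exact mem_inf.mpr ⟨hgq b hbQ, hcase⟩
    have hgB : ∀ x ∈ Q, x ∈ zpowers c → Commute g x := by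
      intro x hx1 hx2
      have : x ∈ zpowers b := by rw [hb]; exact mem_inf.mpr ⟨hx1, hx2⟩
      obtain ⟨k, rfl⟩ := mem_zpowers_iff.mp this
      exact hgb.zpow_right k
    apply hgc
    rw [mem_centralizer_iff]
    intro q hq
    by_cases hqA : q ∈ zpowers c
    · exact (hgB q hq hqA).eq.symm
    · have h1 : g * q * g⁻¹ ∉ zpowers c := by
        intro h1
        have h2 : Commute g (g * q * g⁻¹) := hgB _ (hgq q hq) h1
        apply hqA
        have h3 : q = g * q * g⁻¹ := by
          have h4 := h2.eq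
          have h5 : g * (g * q * g⁻¹) = g * q := by rw [h4]; group
          exact (mul_left_cancel h5).symm
        rw [h3]; exact h1
      -- u = q⁻¹ (g q g⁻¹)
      have hu : q⁻¹ * (g * q * g⁻¹) ∈ zpowers c :=
        hT.quot _ (hQ hq) _ (hQ (hgq q hq)) hqA h1
      have huQ : q⁻¹ * (g * q * g⁻¹) ∈ Q := mul_mem (inv_mem hq) (hgq q hq)
      set u := q⁻¹ * (g * q * g⁻¹) with hu_def
      have hgu : Commute g u := hgB u huQ hu
      have h2 : g * q * g⁻¹ = q * u := by rw [hu_def]; group
      have h3 : ∀ m : ℕ, g ^ m * q * (g ^ m)⁻¹ = q * u ^ m := by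
        intro m
        induction m with
        | zero => simp
        | succ m ih =>
          have : g ^ (m + 1) * q * (g ^ (m + 1))⁻¹ = g * (g ^ m * q * (g ^ m)⁻¹) * g⁻¹ := by
            rw [pow_succ']; group
          rw [this, ih]
          have h4 : g * (q * u ^ m) * g⁻¹ = (g * q * g⁻¹) * (g * u ^ m * g⁻¹) := by group
          rw [h4, h2, (hgu.pow_right m).eq, mul_inv_cancel_right, mul_assoc, pow_succ']
      have h5 := h3 (orderOf g)
      rw [pow_orderOf_eq_one] at h5
      have h6 : u ^ orderOf g = 1 := by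
        simpa using h5.symm
      obtain ⟨k, hk⟩ := htwo u (hcT hu)
      have h7 : u = 1 := by
        rw [← orderOf_eq_one_iff]
        exact Nat.eq_one_of_dvd_coprimes
          (Nat.Coprime.pow_left k (Nat.coprime_two_left.mpr hg))
          (orderOf_dvd_of_pow_eq_one hk) (orderOf_dvd_of_pow_eq_one h6)
      rw [h7, mul_one, mul_inv_eq_iff_eq_mul] at h2
      exact h2.symm
  · -- j = g b g⁻¹ is outside A
    set j := g * b * g⁻¹ with hj_def
    have hjQ : j ∈ Q := hgq b hbQ
    have hjz : j ^ 2 = z := hT.sq j (hQ hjQ) hcase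
    have hzg : g * (b ^ 2) * g⁻¹ = z := by
      rw [← hjz, hj_def, conj_pow]
    have hb4 : b ^ 4 = 1 := by
      have h1 : (g * (b ^ 2) * g⁻¹) ^ 2 = 1 := by rw [hzg, hT.z_sq]
      rw [conj_pow, ← pow_mul] at h1
      have h2 : g * b ^ (2 * 2) = g := by
        rw [mul_inv_eq_one] at h1; exact h1
      simpa using h2
    have hb2 : b ^ 2 = z := by
      rcases hT.invol (b ^ 2) (pow_mem hbA 2) (by rw [← pow_mul]; exact hb4) with h1 | h1
      · exfalso
        apply hT.z_ne
        rw [← hzg, h1]; group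
      · exact h1
    have hbne : b ^ 2 ≠ 1 := by rw [hb2]; exact hT.z_ne
    have hgz : g * z * g⁻¹ = z := by
      rw [hb2] at hzg; exact hzg
    have hQR : QRel b j :=
      { hi := hb4
        hj := by rw [hjz, hb2]
        hji := hT.conj j (hQ hjQ) hcase b hbA }
    set l := g * j * g⁻¹ with hl_def
    have hlQ : l ∈ Q := hgq j hjQ
    have hl2 : l ^ 2 = z := by
      rw [hl_def, conj_pow, hjz, hgz]
    have hbj : b ≠ j := by
      intro h1; apply hcase; rw [← h1]; exact hbA
    have horder : g ^ (orderOf g + 1) = g := by rw [pow_succ, pow_orderOf_eq_one, one_mul]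
    -- l is not in ⟨b⟩
    have hlA : l ∉ zpowers c := by
      intro hlA
      have h1 : l ∈ zpowers b := by rw [hb]; exact mem_inf.mpr ⟨hlQ, hlA⟩
      have h2 : g ^ 2 * b * (g ^ 2)⁻¹ = l := by
        rw [hl_def, hj_def]; simp [pow_succ, mul_assoc]
      have h3 : Commute (g ^ 2) b := by
        apply commute_of_zpowers hkb
        · exact Odd.of_dvd_nat hg (orderOf_pow_dvd 2)
        · rw [h2]; exact h1
      have h4 : Commute g b := by
        obtain ⟨m, hm⟩ := hg
        have h5 : (g ^ 2) ^ (m + 1) = g := by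
          rw [← pow_mul, show 2 * (m + 1) = (2 * m + 1) + 1 by ring, ← hm, horder]
        rw [← h5]
        exact h3.pow_left _
      apply hbj
      rw [hj_def, h4.eq, mul_inv_cancel_right]
    -- l is not in ⟨j⟩
    have hlj : l ∉ zpowers j := by
      intro h1
      obtain ⟨k, hk⟩ := htwo j (hQ hjQ)
      have h2 : Commute g j := commute_of_zpowers hk hg h1
      apply hbj
      have h3 : g⁻¹ * j * g = j := by
        rw [mul_assoc, ← h2.eq]; group
      have h4 : g⁻¹ * j * g = b := by rw [hj_def]; group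
      rw [← h4, h3]
    have h1 : j⁻¹ * l ∈ zpowers b := by
      rw [hb]
      exact mem_inf.mpr ⟨mul_mem (inv_mem hjQ) hlQ, hT.quot j (hQ hjQ) l (hQ hlQ) hcase hlA⟩
    obtain ⟨k, hk⟩ : ∃ k : Fin 4, b ^ (k : ℕ) = j⁻¹ * l := by
      obtain ⟨m, hm⟩ := (mem_powers_iff_mem_zpowers.mpr h1 : j⁻¹ * l ∈ Submonoid.powers b)
      exact ⟨⟨m % 4, Nat.mod_lt _ (by norm_num)⟩, by
        change b ^ (m % 4) = _
        rw [← pow_eq_pow_mod m hb4]; exact hm⟩
    have hlk : l = j * b ^ (k : ℕ) := by rw [hk]; group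
    fin_cases k
    · exfalso
      apply hlj
      simp only [pow_zero, mul_one] at hlk
      rw [hlk]; exact mem_zpowers j
    · -- l = j * b
      refine ⟨b, j * b, g⁻¹, ?_, hbne, by rw [orderOf_inv]; exact hg⟩
      have hlk' : l = j * b := by simpa using hlk
      have hbjb : b * j = j * b⁻¹ := by
        have := hQR.hji
        rw [mul_inv_eq_iff_eq_mul] at this
        rw [eq_mul_inv_iff_mul_eq, mul_assoc, this]; group
      have hjb2 : (j * b) ^ 2 = b ^ 2 := by
        rw [pow_two, mul_assoc, ← mul_assoc b, hbjb, inv_mul_cancel_right, ← pow_two, hQR.hj]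
      have hg1 : g * (j * b) * g⁻¹ = b := by
        have : g * (j * b) * g⁻¹ = (g * j * g⁻¹) * (g * b * g⁻¹) := by group
        rw [this, ← hl_def, ← hj_def, hlk', mul_assoc, hbjb, ← mul_assoc, ← pow_two, hQR.hj]
        group
      exact
        { hi := hb4
          hj := hjb2
          hji := by
            have : j * b * b * (j * b)⁻¹ = j * b * j⁻¹ := by group
            rw [this, hQR.hji]
          hti := by
            rw [inv_inv]
            nth_rewrite 1 [← hg1]
            group
          htj := by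
            have h5 : b * (j * b) = j := by rw [← mul_assoc, hbjb, inv_mul_cancel_right]
            rw [inv_inv, h5, ← hlk', hl_def]
            group }
    · exfalso
      apply hlj
      have : l = j ^ 3 := by
        rw [hlk]
        change j * b ^ 2 = j ^ 3
        rw [← hQR.hj]; group
      rw [this]
      exact pow_mem (mem_zpowers j) 3
    · -- l = j * b^3 = b * j
      refine ⟨b, j, g, ?_, hbne, hg⟩
      have hlk' : l = b * j := by
        rw [hlk]
        change j * b ^ 3 = b * j
        rw [hQR.jpow, show 3 * 3 = 4 + 4 + 1 from rfl, pow_add, pow_add, hb4]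
        group
      exact
        { toQRel := hQR
          hti := rfl
          htj := hlk' }

end Cfsg.Agent.Transfer.SL23Section
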