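import Mathlib
import Cfsg.Agent.Lib.Cores
import Cfsg.Agent.Transfer.FusionCases
set_option linter.all false

/-!
# Glauberman's argument for control of strong fusion: `O_p(G) ≠ 1`, `C_G(O_p(G)) ≰ O_p(G)`
-/

set_option autoImplicit false

namespace Cfsg.Agent.Transfer.FusionNonCentric

open Subgroup Cfsg
open Cfsg.Agent.Transfer.FusionBasic
open Cfsg.Agent.Transfer.FusionCases

variable {G : Type*} [Group G]

/-- `y ^ j * h * y ^ (-j) = q ^ j * h` if `y h y⁻¹ = q h` and `y` commutes with `q`. -/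
theorem pow_conj_eq {y h q : G} (h1 : y * h * y⁻¹ = q * h) (h2 : y * q = q * y) (j : ℕ) :
    y ^ j * h * (y ^ j)⁻¹ = q ^ j * h := by
  induction j with
  | zero => simp
  | succ j ih =>
    have h3 : Commute y (q ^ j) := Commute.pow_right h2 j
    calc y ^ (j + 1) * h * (y ^ (j + 1))⁻¹ = y * (y ^ j * h * (y ^ j)⁻¹) * y⁻¹ := by
          rw [pow_succ' y j]; group
      _ = y * q ^ j * h * y⁻¹ := by rw [ih]; group
      _ = q ^ j * y * h * y⁻¹ := by rw [h3.eq]
      _ = q ^ j * (y * h * y⁻¹) := by group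
      _ = q ^ (j + 1) * h := by rw [h1, pow_succ]; group

/-- The stabilizer part: elements of `N_G(H)` acting trivially on `H / Q` are products of an element
centralizing `H` and an element of the Sylow subgroup, if `G = C_G(Q) P`. -/
theorem exists_mul_of_trivial_mod [Finite G] {p : ℕ} [Fact p.Prime] (P : Sylow p G)
    (Q : Subgroup G) [hQn : Q.Normal] (hQp : IsPGroup p Q)
    (hCP : centralizer (Q : Set G) ⊔ (P : Subgroup G) = ⊤)
    {H : Subgroup G}
    (hT : SylIn p ((P : Subgroup G) ⊓ normalizer (H : Set G)) (normalizer (H : Set G)))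
    {c : G} (hc : c ∈ normalizer (H : Set G)) (hcQ : ∀ h ∈ H, c * h * c⁻¹ * h⁻¹ ∈ Q) :
    ∃ z ∈ centralizer (H : Set G), ∃ t ∈ (P : Subgroup G) ⊓ normalizer (H : Set G), c = z * t := by
  -- the group `K`
  let K : Subgroup G := normalizer (H : Set G) ⊓
    (centralizer ((H.map (QuotientGroup.mk' Q) : Subgroup (G ⧸ Q)) : Set (G ⧸ Q))).comap
      (QuotientGroup.mk' Q)
  have hKmem : ∀ x, x ∈ K ↔ x ∈ normalizer (H : Set G) ∧ ∀ h ∈ H, x * h * x⁻¹ * h⁻¹ ∈ Q := by
    intro x
    rw [Subgroup.mem_inf, Subgroup.mem_comap, Subgroup.mem_centralizer_iff]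
    refine and_congr_right fun _ => ⟨fun h1 h hh => ?_, ?_⟩
    · have h2 := h1 _ ⟨h, hh, rfl⟩
      rw [← QuotientGroup.eq_one_iff, ← QuotientGroup.mk'_apply]
      simp only [map_mul, map_inv]
      rw [← h2, mul_inv_cancel_right, mul_inv_cancel]
    · rintro h1 _ ⟨h, hh, rfl⟩
      have h2 := h1 h hh
      rw [← QuotientGroup.eq_one_iff, ← QuotientGroup.mk'_apply] at h2
      simp only [map_mul, map_inv] at h2
      rw [mul_inv_eq_one, mul_inv_eq_iff_eq_mul] at h2
      exact h2.symm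
  have hKN : K ≤ normalizer (H : Set G) := inf_le_left
  have hCK : centralizer (H : Set G) ≤ K := by
    intro x hx
    rw [hKmem]
    refine ⟨centralizer_le_normalizer _ hx, fun h hh => ?_⟩
    have := (Subgroup.mem_centralizer_iff.mp hx) h hh
    rw [← this]
    have e : h * x * x⁻¹ * h⁻¹ = 1 := by group
    rw [e]; exact one_mem _
  have hNK : normalizer (H : Set G) ≤ normalizer (K : Set G) := by
    intro n hn
    apply mem_normalizer_of_conj_mem
    intro x hx
    rw [hKmem] at hx ⊢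
    refine ⟨mul_mem (mul_mem hn hx.1) (inv_mem hn), fun h hh => ?_⟩
    have h1 : n⁻¹ * h * n ∈ H := by
      have := ((Subgroup.mem_normalizer_iff.mp (inv_mem hn)) h).mp hh
      rwa [inv_inv] at this
    have h2 := hQn.conj_mem _ (hx.2 _ h1) n
    have e : n * (x * (n⁻¹ * h * n) * x⁻¹ * (n⁻¹ * h * n)⁻¹) * n⁻¹ =
        n * x * n⁻¹ * h * (n * x * n⁻¹)⁻¹ * h⁻¹ := by group
    rwa [e] at h2
  have hNC : normalizer (H : Set G) ≤ normalizer (centralizer (H : Set G) : Set G) := by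
    intro n hn
    apply mem_normalizer_of_conj_mem
    intro x hx
    rw [Subgroup.mem_centralizer_iff] at hx ⊢
    intro h hh
    have h1 : n⁻¹ * h * n ∈ (H : Set G) := by
      have := ((Subgroup.mem_normalizer_iff.mp (inv_mem hn)) h).mp hh
      rwa [inv_inv] at this
    have h2 := hx _ h1
    calc h * (n * x * n⁻¹) = n * (n⁻¹ * h * n * x) * n⁻¹ := by group
      _ = n * (x * (n⁻¹ * h * n)) * n⁻¹ := by rw [h2]
      _ = n * x * n⁻¹ * h := by group
  have hTK : SylIn p (((P : Subgroup G) ⊓ normalizer (H : Set G)) ⊓ K) K := hT.inf hKN hNK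
  -- powers
  have hpow : ∀ x ∈ K, ∃ k : ℕ, x ^ p ^ k ∈ centralizer (H : Set G) := by
    intro x hx
    have hCn : (centralizer (Q : Set G)).Normal := inferInstance
    -- a power of `x` lies in `C_G(Q)`
    obtain ⟨a, ha⟩ : ∃ a : ℕ, x ^ p ^ a ∈ centralizer (Q : Set G) := by
      have h1 : x ∈ ((centralizer (Q : Set G) ⊔ (P : Subgroup G) : Subgroup G) : Set G) := by
        rw [hCP]; trivial
      rw [Subgroup.coe_mul_of_right_le_normalizer_left _ _ le_normalizer_of_normal] at h1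
      obtain ⟨u, hu, s, hs, rfl⟩ := h1
      obtain ⟨a, ha⟩ := P.isPGroup' ⟨s, hs⟩
      have ha' : s ^ p ^ a = 1 := by
        have := congrArg Subtype.val ha
        simpa using this
      refine ⟨a, ?_⟩
      rw [← QuotientGroup.eq_one_iff, QuotientGroup.mk_pow, QuotientGroup.mk_mul,
        (QuotientGroup.eq_one_iff u).mpr hu, one_mul, ← QuotientGroup.mk_pow, ha',
        QuotientGroup.mk_one]
    obtain ⟨b, hb⟩ := hQp.exists_card_eq
    refine ⟨a + b, ?_⟩
    obtain ⟨y, hy⟩ : ∃ y, y = x ^ p ^ a := ⟨_, rfl⟩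
    have hyK : y ∈ K := by rw [hy]; exact pow_mem hx _
    rw [← hy] at ha
    rw [pow_add, pow_mul, ← hy, Subgroup.mem_centralizer_iff]
    intro h hh
    have h1 := ((hKmem y).mp hyK).2 h hh
    have h2 : y * h * y⁻¹ = (y * h * y⁻¹ * h⁻¹) * h := by group
    have h3 : y * (y * h * y⁻¹ * h⁻¹) = (y * h * y⁻¹ * h⁻¹) * y :=
      ((Subgroup.mem_centralizer_iff.mp ha) _ h1).symm
    have h4 := pow_conj_eq h2 h3 (p ^ b)
    have h5 : (y * h * y⁻¹ * h⁻¹) ^ p ^ b = 1 := by
      have := congrArg Subtype.val (pow_card_eq_one' (x := (⟨_, h1⟩ : Q)))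
      rw [hb] at this
      rwa [Subgroup.coe_pow, Subgroup.coe_one] at this
    rw [h5, one_mul] at h4
    rw [mul_inv_eq_iff_eq_mul] at h4
    exact h4.symm
  obtain ⟨z, hz, t, ht, h⟩ := hTK.exists_mul hCK (hKN.trans hNC) hpow
    (x := c) ((hKmem c).mpr ⟨hc, hcQ⟩)
  exact ⟨z, hz, t, ht.1, h⟩

theorem ctrl_of_not_centric [Finite G] {p : ℕ} [Fact p.Prime] (P : Sylow p G) (M : Subgroup G)
    (hM : normalizer ((P : Subgroup G) : Set G) ≤ M)
    (hPC : ¬ (P : Subgroup G) ⊓ centralizer (pCore p G : Set G) ≤ pCore p G)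
    (hsub : ∀ L : Subgroup G, (P : Subgroup G) ≤ L → L ≠ ⊤ → ∀ H : Subgroup G,
      H ≤ (P : Subgroup G) → ∀ g ∈ L, (∀ h ∈ H, g * h * g⁻¹ ∈ (P : Subgroup G)) → Ind M H g)
    (hquot : ∃ L : Subgroup G, (P : Subgroup G) ≤ L ∧ L ≠ ⊤ ∧ ∀ H : Subgroup G,
      H ≤ (P : Subgroup G) → ∀ g : G, (∀ h ∈ H, g * h * g⁻¹ ∈ (P : Subgroup G)) →
        ∃ m ∈ L, ∀ h ∈ H, (g * h * g⁻¹)⁻¹ * (m * h * m⁻¹) ∈ pCore p G) :
    Ctrl (P : Subgroup G) M := by
  have hPM : (P : Subgroup G) ≤ M := le_normalizer.trans hM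
  obtain ⟨Q, hQ⟩ : ∃ Q : Subgroup G, Q = pCore p G := ⟨_, rfl⟩
  rw [← hQ] at hPC hquot
  have hQn : Q.Normal := by rw [hQ]; exact Cfsg.Agent.Lib.Cores.pCore_normal p
  have hQp : IsPGroup p Q := by rw [hQ]; exact Cfsg.Agent.Lib.Cores.pCore_isPGroup p
  have hQP : Q ≤ (P : Subgroup G) := by rw [hQ]; exact Cfsg.Agent.Lib.Cores.pCore_le_sylow P
  obtain ⟨C, hC⟩ : ∃ C : Subgroup G, C = centralizer (Q : Set G) := ⟨_, rfl⟩
  have hCn : C.Normal := by rw [hC]; infer_instance
  rw [← hC] at hPC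
  apply ctrl_of_fullyNormalized P M hM
  intro H hlt hT IH n hn
  have hNn : ∀ x ∈ normalizer (H : Set G), ∀ h ∈ H, x * h * x⁻¹ ∈ H :=
    fun x hx h hh => ((Subgroup.mem_normalizer_iff.mp hx) h).mp hh
  -- elements normalizing a larger subgroup
  have hbig : ∀ A : Subgroup G, A ≤ (P : Subgroup G) → ¬ A ≤ H → ∀ x ∈ normalizer (H : Set G),
      x ∈ normalizer (A : Set G) → Ind M H x := by
    intro A hAP hAH x hxH hxA
    have h1 : H < H ⊔ A := lt_of_le_of_ne le_sup_left
      (fun heq => hAH (heq ▸ (le_sup_right : A ≤ H ⊔ A)))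
    have h2 : x ∈ normalizer ((H ⊔ A : Subgroup G) : Set G) :=
      normalizer_inf_normalizer_le_normalizer_sup _ _ (Subgroup.mem_inf.mpr ⟨hxH, hxA⟩)
    have h3 : H ⊔ A ≤ (P : Subgroup G) := sup_le hlt.le hAP
    exact (IH (H ⊔ A) h3 (Cfsg.Agent.PLocal.ConjFunctor.card_lt_card_of_lt h1) x
      (fun a ha => h3 (((Subgroup.mem_normalizer_iff.mp h2) a).mp ha))).mono le_rfl le_sup_left
  by_cases hQH : Q ≤ H
  swap
  · exact hbig Q hQP hQH n hn (by rw [normalizer_eq_top]; trivial)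
  -- the Frattini argument in `N_G(H)` with the normal subgroup `C ∩ N_G(H)`
  have hNC : normalizer (H : Set G) ≤
      normalizer ((C ⊓ normalizer (H : Set G) : Subgroup G) : Set G) := by
    refine le_trans ?_ inf_normalizer_le_normalizer_inf
    exact le_inf le_normalizer_of_normal le_normalizer
  have hTC := hT.inf (N := C ⊓ normalizer (H : Set G)) inf_le_right hNC
  obtain ⟨TC, hTCdef⟩ : ∃ TC : Subgroup G, TC =
    (P : Subgroup G) ⊓ normalizer (H : Set G) ⊓ (C ⊓ normalizer (H : Set G)) := ⟨_, rfl⟩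
  rw [← hTCdef] at hTC
  obtain ⟨c, hc, hcn⟩ := hTC.frattini hNC hn
  have hcH : c ∈ normalizer (H : Set G) := (Subgroup.mem_inf.mp hc).2
  -- the part in `N_G(TC)`
  have hgood1 : Ind M H (c * n) := by
    by_cases hTCH : TC ≤ H
    · -- `D = Q C_P(Q) ≤ H`
      have hPCH : (P : Subgroup G) ⊓ C ≤ H := by
        by_contra hcon
        have hnorm : H ≤ normalizer (((P : Subgroup G) ⊓ C : Subgroup G) : Set G) := by
          refine le_trans ?_ inf_normalizer_le_normalizer_inf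
          exact le_inf (hlt.le.trans le_normalizer) le_normalizer_of_normal
        have h1 : H < H ⊔ ((P : Subgroup G) ⊓ C) := lt_of_le_of_ne le_sup_left
          (fun heq => hcon (heq ▸ (le_sup_right : _ ≤ H ⊔ ((P : Subgroup G) ⊓ C))))
        have h2 : IsPGroup p ↥(H ⊔ ((P : Subgroup G) ⊓ C)) :=
          P.isPGroup'.to_le (sup_le hlt.le inf_le_left)
        have h3 := Cfsg.Agent.PLocal.ConjFunctor.lt_inf_normalizer h2 h1
        obtain ⟨x, hx, hxH⟩ := SetLike.exists_of_lt h3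
        have h4 : x ∈ ((H ⊔ ((P : Subgroup G) ⊓ C) : Subgroup G) : Set G) := hx.1
        rw [Subgroup.coe_mul_of_left_le_normalizer_right _ _ hnorm] at h4
        obtain ⟨h, hh, y, hy, rfl⟩ := h4
        apply hxH
        refine mul_mem hh (hTCH ?_)
        rw [hTCdef]
        have h5 : y ∈ normalizer (H : Set G) := by
          have := mul_mem (inv_mem (le_normalizer hh : h ∈ normalizer (H : Set G))) hx.2
          simpa using this
        exact Subgroup.mem_inf.mpr ⟨Subgroup.mem_inf.mpr ⟨hy.1, h5⟩,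
          Subgroup.mem_inf.mpr ⟨hy.2, h5⟩⟩
      have hPC2 : (P : Subgroup G) ⊓ C = H ⊓ C :=
        le_antisymm (le_inf hPCH inf_le_right) (le_inf (inf_le_left.trans hlt.le) inf_le_right)
      obtain ⟨D, hD⟩ : ∃ D : Subgroup G, D = Q ⊔ ((P : Subgroup G) ⊓ C) := ⟨_, rfl⟩
      have hcnD : c * n ∈ normalizer (D : Set G) := by
        have h1 : c * n ∈ normalizer (H : Set G) := mul_mem hcH hn
        have h2 : c * n ∈ normalizer (((P : Subgroup G) ⊓ C : Subgroup G) : Set G) := by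
          rw [hPC2]
          apply inf_normalizer_le_normalizer_inf
          exact Subgroup.mem_inf.mpr ⟨h1, by rw [normalizer_eq_top (H := C)]; trivial⟩
        rw [hD]
        apply normalizer_inf_normalizer_le_normalizer_sup
        exact Subgroup.mem_inf.mpr ⟨by rw [normalizer_eq_top (H := Q)]; trivial, h2⟩
      have hPD : (P : Subgroup G) ≤ normalizer (D : Set G) := by
        rw [hD]
        refine le_trans ?_ (normalizer_inf_normalizer_le_normalizer_sup _ _)
        refine le_inf le_normalizer_of_normal ?_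
        refine le_trans ?_ inf_normalizer_le_normalizer_inf
        exact le_inf le_normalizer le_normalizer_of_normal
      have hDtop : normalizer (D : Set G) ≠ ⊤ := by
        intro htop
        have hDn : D.Normal := normalizer_eq_top_iff.mp htop
        have hDP : D ≤ (P : Subgroup G) := by rw [hD]; exact sup_le hQP inf_le_left
        have h1 : D ≤ pCore p G := Cfsg.Agent.Lib.Cores.le_pCore hDn (P.isPGroup'.to_le hDP)
        rw [← hQ] at h1
        exact hPC (le_trans (by rw [hD]; exact le_sup_right) h1)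
      exact hsub _ hPD hDtop H hlt.le _ hcnD
        (fun h hh => hlt.le (hNn _ (mul_mem hcH hn) h hh))
    · exact hbig TC (by rw [hTCdef]; exact inf_le_left.trans inf_le_left) hTCH _
        (mul_mem hcH hn) hcn
  -- the part in `C`
  have hgood2 : Ind M H c⁻¹ := by
    have hcC : c⁻¹ ∈ C := inv_mem (Subgroup.mem_inf.mp hc).1
    have hcH' : c⁻¹ ∈ normalizer (H : Set G) := inv_mem hcH
    by_cases htop : C ⊔ (P : Subgroup G) = ⊤
    · obtain ⟨L, hPL, hL, hLH⟩ := hquot
      obtain ⟨m, hm, hmh⟩ := hLH H hlt.le c⁻¹ (fun h hh => hlt.le (hNn _ hcH' h hh))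
      have hmH : m ∈ normalizer (H : Set G) := by
        apply mem_normalizer_of_conj_mem
        intro h hh
        have h1 := mul_mem (hNn _ hcH' h hh) (hQH (hmh h hh))
        rwa [mul_inv_cancel_left] at h1
      have h1 : Ind M H m := hsub L hPL hL H hlt.le m hm (fun h hh => hlt.le (hNn _ hmH h hh))
      -- `m⁻¹ c⁻¹` acts trivially on `H / Q`
      have h2 : ∀ h ∈ H, (m⁻¹ * c⁻¹) * h * (m⁻¹ * c⁻¹)⁻¹ * h⁻¹ ∈ Q := by
        intro h hh
        have h3 := hQn.conj_mem _ (inv_mem (hmh h hh)) m⁻¹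
        have h4 := hQn.conj_mem _ h3 h
        have e : h * (m⁻¹ * ((c⁻¹ * h * c⁻¹⁻¹)⁻¹ * (m * h * m⁻¹))⁻¹ * m⁻¹⁻¹) * h⁻¹ =
          (m⁻¹ * c⁻¹) * h * (m⁻¹ * c⁻¹)⁻¹ * h⁻¹ := by group
        rwa [e] at h4
      obtain ⟨z, hz, t, ht, hzt⟩ := exists_mul_of_trivial_mod P Q hQp
        (by rw [← hC]; exact htop) hT (mul_mem (inv_mem hmH) hcH') h2
      have htH : t ∈ normalizer (H : Set G) := (Subgroup.mem_inf.mp ht).2
      have h3 : Ind M H (z * t) := (ind_of_mem (hPM (Subgroup.mem_inf.mp ht).1)).comp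
        (K := H) (fun h hh => hNn _ htH h hh) (ind_of_mem_centralizer hz)
      rw [← hzt] at h3
      have h4 : Ind M H (m * (m⁻¹ * c⁻¹)) := h3.comp (K := H)
        (fun h hh => hNn _ (mul_mem (inv_mem hmH) hcH') h hh) h1
      rwa [mul_inv_cancel_left] at h4
    · exact hsub (C ⊔ (P : Subgroup G)) le_sup_right htop H hlt.le _
        (Subgroup.mem_sup_left hcC) (fun h hh => hlt.le (hNn _ hcH' h hh))
  have h5 : Ind M H (c⁻¹ * (c * n)) := hgood1.comp (K := H)
    (fun h hh => hNn _ (mul_mem hcH hn) h hh) hgood2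
  rwa [inv_mul_cancel_left] at h5

end Cfsg.Agent.Transfer.FusionNonCentric
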