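import Mathlib.GroupTheory.SchurZassenhaus
import Mathlib.GroupTheory.Sylow
import Mathlib.GroupTheory.Transfer
import Cfsg.Prelude.Def_Transfer
import Cfsg.Agent.S0002
set_option linter.all false

set_option autoImplicit false

open Cfsg
open scoped Pointwise

namespace Cfsg.Agent.Transfer.ResidualComplement

open Subgroup

/-- A homomorphism from a finite group into a `p`-group kills `O^p`. -/
theorem pResidual_le_ker {G H : Type*} [Group G] [Finite G] [Group H] {p : ℕ} [Fact p.Prime]
    (hH : IsPGroup p H) (f : G →* H) : Cfsg.pResidual p G ≤ f.ker := by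
  rw [Cfsg.pResidual, closure_le]
  intro g hg
  change Nat.Coprime (orderOf g) p at hg
  rw [SetLike.mem_coe, MonoidHom.mem_ker]
  obtain ⟨k, hk⟩ := hH (f g)
  have h1 : orderOf (f g) ∣ p ^ k := orderOf_dvd_of_pow_eq_one hk
  have h2 : orderOf (f g) ∣ orderOf g := orderOf_map_dvd f g
  have h3 : orderOf (f g) = 1 :=
    Nat.eq_one_of_dvd_coprimes (hg.pow_right k) h2 h1
  exact orderOf_eq_one_iff.mp h3

/-- `O^p(G)` has no nontrivial homomorphism to a `p`-group. -/
theorem hom_pResidual_eq_one {G H : Type*} [Group G] [Finite G] [Group H] {p : ℕ} [Fact p.Prime]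
    (hH : IsPGroup p H) (f : Cfsg.pResidual p G →* H) (x : Cfsg.pResidual p G) : f x = 1 := by
  have key : Cfsg.pResidual p G ≤ f.ker.map (Cfsg.pResidual p G).subtype := by
    conv_lhs => rw [Cfsg.pResidual]
    rw [closure_le]
    intro g hg
    change Nat.Coprime (orderOf g) p at hg
    have hgN : g ∈ Cfsg.pResidual p G := by
      rw [Cfsg.pResidual]
      exact subset_closure hg
    refine ⟨⟨g, hgN⟩, ?_, rfl⟩
    rw [SetLike.mem_coe, MonoidHom.mem_ker]
    obtain ⟨k, hk⟩ := hH (f ⟨g, hgN⟩)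
    have h1 : orderOf (f ⟨g, hgN⟩) ∣ p ^ k := orderOf_dvd_of_pow_eq_one hk
    have h2 : orderOf (f ⟨g, hgN⟩) ∣ orderOf g := by
      have := orderOf_map_dvd f ⟨g, hgN⟩
      rwa [Subgroup.orderOf_mk] at this
    have h3 : orderOf (f ⟨g, hgN⟩) = 1 :=
      Nat.eq_one_of_dvd_coprimes (hg.pow_right k) h2 h1
    exact orderOf_eq_one_iff.mp h3
  obtain ⟨y, hy, hyx⟩ := key x.2
  have : y = x := Subtype.ext hyx
  rw [← this]
  exact hy

/-- `O^p(G)` is normal. -/
theorem pResidual_normal {G : Type*} [Group G] (p : ℕ) : (Cfsg.pResidual p G).Normal := by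
  rw [Cfsg.pResidual]
  refine ⟨fun n hn g => ?_⟩
  induction hn using Subgroup.closure_induction with
  | mem x hx =>
    apply subset_closure
    change Nat.Coprime (orderOf (g * x * g⁻¹)) p
    have : orderOf (g * x * g⁻¹) = orderOf x := by
      have := (MulAut.conj g).orderOf_eq x
      rwa [MulAut.conj_apply] at this
    rw [this]
    exact hx
  | one => simp
  | mul x y _ _ hx hy =>
    have : g * (x * y) * g⁻¹ = (g * x * g⁻¹) * (g * y * g⁻¹) := by group
    rw [this]; exact mul_mem hx hy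
  | inv x _ hx =>
    have : g * x⁻¹ * g⁻¹ = (g * x * g⁻¹)⁻¹ := by group
    rw [this]; exact inv_mem hx

/-- The `p`-power of an element of a finite group that lies in `O^p(G)`. -/
theorem exists_pow_mem_pResidual {G : Type*} [Group G] [Finite G] {p : ℕ} [hp : Fact p.Prime]
    (g : G) : ∃ k : ℕ, g ^ (p ^ k) ∈ Cfsg.pResidual p G := by
  have h0 : orderOf g ≠ 0 := (orderOf_pos g).ne'
  obtain ⟨k, m, hm, hk⟩ := Nat.exists_eq_pow_mul_and_not_dvd h0 p hp.out.ne_one
  refine ⟨k, ?_⟩
  rw [Cfsg.pResidual]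
  apply subset_closure
  change Nat.Coprime (orderOf (g ^ (p ^ k))) p
  have hpk : p ^ k ≠ 0 := pow_ne_zero _ hp.out.ne_zero
  rw [orderOf_pow_of_dvd hpk ⟨m, hk⟩, hk, Nat.mul_div_cancel_left _ (Nat.pos_of_ne_zero hpk)]
  exact ((Nat.Prime.coprime_iff_not_dvd hp.out).mpr hm).symm

/-- `G / O^p(G)` is a `p`-group. -/
theorem index_pResidual {G : Type*} [Group G] [Finite G] (p : ℕ) [hp : Fact p.Prime] :
    ∃ k : ℕ, (Cfsg.pResidual p G).index = p ^ k := by
  have := pResidual_normal (G := G) p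
  have h : IsPGroup p (G ⧸ Cfsg.pResidual p G) := by
    intro x
    obtain ⟨g, rfl⟩ := QuotientGroup.mk_surjective x
    obtain ⟨k, hk⟩ := exists_pow_mem_pResidual (p := p) g
    refine ⟨k, ?_⟩
    rw [← QuotientGroup.mk_pow]
    exact (QuotientGroup.eq_one_iff _).mpr hk
  obtain ⟨k, hk⟩ := IsPGroup.iff_card.mp h
  exact ⟨k, by rw [Subgroup.index, hk]⟩

/-- If `Q` is an abelian Sylow `p`-subgroup of a finite group without nontrivial homomorphisms to
`Q`, then the centre of the normaliser of `Q` meets `Q` trivially. -/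
theorem eq_one_of_mem_center_normalizer {N : Type*} [Group N] [Finite N] {p : ℕ} [Fact p.Prime]
    (Q : Sylow p N) [IsMulCommutative Q]
    (hN : ∀ (f : N →* Q) (x : N), f x = 1) (z : N) (hz : z ∈ Q)
    (hzc : ∀ n ∈ normalizer (Q : Set N), n * z = z * n) : z = 1 := by
  have key : ∀ (k : ℕ) (g₀ : N), g₀⁻¹ * z ^ k * g₀ ∈ Q → g₀⁻¹ * z ^ k * g₀ = z ^ k := by
    intro k g₀ h
    obtain ⟨n, hn, h'⟩ := Q.conj_eq_normalizer_conj_of_mem (z ^ k) g₀ (Q.pow_mem hz k) h
    rw [h']
    have hc : Commute n (z ^ k) := (show Commute n z from hzc n hn).pow_right k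
    rw [mul_assoc, ← hc.eq, inv_mul_cancel_left]
  open scoped IsMulCommutative in
  have h1 := MonoidHom.transfer_eq_pow (MonoidHom.id Q) z key
  rw [hN] at h1
  have h2 : z ^ (Q : Subgroup N).index = 1 := (congrArg Subtype.val h1).symm
  obtain ⟨k, hk⟩ := Q.2 ⟨z, hz⟩
  have h3 : z ^ (p ^ k) = 1 := congrArg Subtype.val hk
  have h4 : Nat.Coprime (Q : Subgroup N).index (p ^ k) :=
    (((Nat.Prime.coprime_iff_not_dvd Fact.out).mpr Q.not_dvd_index).symm).pow_right k
  have h5 : orderOf z = 1 :=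
    Nat.eq_one_of_dvd_coprimes h4 (orderOf_dvd_of_pow_eq_one h2) (orderOf_dvd_of_pow_eq_one h3)
  exact orderOf_eq_one_iff.mp h5

/-- Let `Q ≤ L` be normal subgroups of the finite group `M`, `Q` abelian of order prime to its
index in `L`, `[M : L]` prime to `[L : Q]`, and no nontrivial element of `Q` central in `L`.
Then `L` has a complement in `M`. -/
theorem exists_isComplement'_of_fixedPointFree {M : Type*} [Group M] [Finite M]
    (L Q : Subgroup M) [hLn : L.Normal] [hQn : Q.Normal] [hQc : IsMulCommutative Q] (hQL : Q ≤ L)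
    (hcop : (Nat.card Q).Coprime (Q.relIndex L)) (hidx : L.index.Coprime (Q.relIndex L))
    (hfix : ∀ z ∈ Q, (∀ x ∈ L, x * z = z * x) → z = 1) :
    ∃ K : Subgroup M, K.IsComplement' L := by
  classical
  let A : Subgroup L := Q.subgroupOf L
  have hAcomm : IsMulCommutative A := by
    refine ⟨⟨fun a b => Subtype.ext (Subtype.ext ?_)⟩⟩
    have := congrArg Subtype.val (hQc.1.1 (⟨a.1.1, a.2⟩ : Q) ⟨b.1.1, b.2⟩)
    exact this
  have hAcard : Nat.card A = Nat.card Q :=
    Nat.card_congr (Subgroup.subgroupOfEquivOfLe hQL).toEquiv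
  have hcopA : (Nat.card A).Coprime A.index := by
    rw [hAcard]; exact hcop
  obtain ⟨H₀, hH₀⟩ := exists_right_complement'_of_coprime hcopA
  let H : Subgroup M := H₀.map L.subtype
  have hHL : H ≤ L := map_subtype_le H₀
  have hH₀card : Nat.card H₀ = Q.relIndex L := by
    exact hH₀.symm.index_eq_card.symm
  have hHcard : Nat.card H = Q.relIndex L := by
    rw [← hH₀card]
    exact Nat.card_congr (H₀.equivMapOfInjective L.subtype L.subtype_injective).symm.toEquiv
  -- every element of `L` is a product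
  have hprod : ∀ x ∈ L, ∃ q ∈ Q, ∃ h ∈ H, x = q * h := by
    intro x hx
    obtain ⟨⟨a, b⟩, hab⟩ := hH₀.2 (⟨x, hx⟩ : L)
    refine ⟨(a : L), a.2, (b : L), ⟨b, b.2, rfl⟩, ?_⟩
    exact (congrArg Subtype.val hab).symm
  have hdisj : ∀ x ∈ Q, x ∈ H → x = 1 := by
    intro x hxQ hxH
    obtain ⟨y, hy, rfl⟩ := hxH
    have : y ∈ (⊥ : Subgroup L) := hH₀.disjoint.le_bot ⟨hxQ, hy⟩
    rw [mem_bot] at this
    rw [this]; rfl
  -- Frattini argument
  have key : ∀ m : M, ∃ a ∈ Q, a⁻¹ * m ∈ normalizer (H : Set M) := by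
    intro m
    let φ : MulAut L := MulAut.conjNormal m
    have hcardφ : Nat.card (H₀.map φ.toMonoidHom) = Nat.card H₀ :=
      Nat.card_congr (H₀.equivMapOfInjective φ.toMonoidHom φ.injective).symm.toEquiv
    have hc : A.IsComplement' (H₀.map φ.toMonoidHom) := by
      apply isComplement'_of_coprime
      · rw [hcardφ]; exact hH₀.card_mul_card
      · rw [hcardφ, hH₀card]; exact hcopA
    obtain ⟨a, haA, ha⟩ := Cfsg.Agent.S0002.result A hcopA H₀ _ hH₀ hc
    refine ⟨a, haA, ?_⟩
    apply mem_normalizer_fintype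
    rintro _ ⟨y, hy, rfl⟩
    have h1 : φ y ∈ MulAut.conj a • H₀ := by
      rw [ha]; exact ⟨y, hy, rfl⟩
    obtain ⟨z, hz, hzy⟩ := h1
    refine ⟨z, hz, ?_⟩
    have h2 : (a : M) * z * (a : M)⁻¹ = m * y * m⁻¹ := by
      have := congrArg Subtype.val hzy
      exact this
    change (z : M) = (a : M)⁻¹ * m * y * ((a : M)⁻¹ * m)⁻¹
    have h3 : (z : M) = (a : M)⁻¹ * ((a : M) * z * (a : M)⁻¹) * a := by group
    rw [h3, h2]; group
  set R : Subgroup M := normalizer (H : Set M) with hR
  have hHR : H ≤ R := le_normalizer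
  have hRL : R ⊓ L = H := by
    apply le_antisymm
    · rintro x ⟨hxR, hxL⟩
      obtain ⟨q, hq, h, hh, rfl⟩ := hprod x hxL
      have hqR : q ∈ R := by
        have := R.mul_mem hxR (R.inv_mem (hHR hh))
        rwa [mul_inv_cancel_right] at this
      have hqH : ∀ y ∈ H, y * q = q * y := by
        intro y hy
        have h1 : q * y * q⁻¹ ∈ H := (mem_normalizer_iff.mp hqR y).mp hy
        have h2 : q * y * q⁻¹ * y⁻¹ ∈ H := mul_mem h1 (inv_mem hy)
        have h3 : q * y * q⁻¹ * y⁻¹ ∈ Q := by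
          have : q * y * q⁻¹ * y⁻¹ = q * (y * q⁻¹ * y⁻¹) := by group
          rw [this]
          exact mul_mem hq (hQn.conj_mem _ (inv_mem hq) y)
        have h4 := hdisj _ h3 h2
        rw [mul_inv_eq_one, mul_inv_eq_iff_eq_mul] at h4
        exact h4.symm
      have hq1 : q = 1 := by
        apply hfix q hq
        intro x hx
        obtain ⟨q', hq', h', hh', rfl⟩ := hprod x hx
        have hc : q' * q = q * q' := congrArg Subtype.val (hQc.1.1 (⟨q', hq'⟩ : Q) ⟨q, hq⟩)
        rw [mul_assoc, hqH h' hh', ← mul_assoc, hc, mul_assoc]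
      rw [hq1, one_mul]; exact hh
    · exact le_inf hHR hHL
  have hQR : Q ⊔ R = ⊤ := by
    rw [eq_top_iff]
    intro m _
    obtain ⟨a, ha, ham⟩ := key m
    have : m = a * (a⁻¹ * m) := by group
    rw [this]
    exact mul_mem_sup ha ham
  have hLR : L ⊔ R = ⊤ := by
    rw [eq_top_iff, ← hQR]
    exact sup_le_sup_right hQL R
  have hHRidx : (H.subgroupOf R).index = L.index := by
    change H.relIndex R = L.index
    rw [← hRL, inf_comm, inf_relIndex_right, ← relIndex_sup_right, sup_comm, hLR,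
      relIndex_top_right]
  have hHn : (H.subgroupOf R).Normal := inferInstance
  have hHRcard : Nat.card (H.subgroupOf R) = Q.relIndex L := by
    rw [← hHcard]
    exact Nat.card_congr (Subgroup.subgroupOfEquivOfLe hHR).toEquiv
  obtain ⟨K₀, hK₀⟩ := exists_right_complement'_of_coprime
    (N := H.subgroupOf R) (by rw [hHRcard, hHRidx]; exact hidx.symm)
  refine ⟨K₀.map R.subtype, ?_⟩
  have hKR : K₀.map R.subtype ≤ R := map_subtype_le K₀
  have hdisjKL : Disjoint (K₀.map R.subtype) L := by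
    rw [disjoint_iff_inf_le]
    rintro x ⟨hxK, hxL⟩
    have hxH : x ∈ H := by rw [← hRL]; exact ⟨hKR hxK, hxL⟩
    obtain ⟨y, hy, rfl⟩ := hxK
    have : y ∈ (⊥ : Subgroup R) := hK₀.disjoint.le_bot ⟨hxH, hy⟩
    rw [mem_bot] at this
    rw [this]; exact one_mem _
  apply isComplement'_of_card_mul_and_disjoint _ hdisjKL
  have h1 : Nat.card (K₀.map R.subtype) = L.index := by
    rw [← hHRidx, hK₀.symm.index_eq_card]
    exact Nat.card_congr (K₀.equivMapOfInjective R.subtype R.subtype_injective).symm.toEquiv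
  rw [h1, index_mul_card]

/-- If the Sylow `p`-subgroups of `O^p(G)` are abelian then `G` splits over `O^p(G)`. -/
theorem exists_isComplement'_pResidual {G : Type*} [Group G] [Finite G] {p : ℕ}
    [hp : Fact p.Prime] (h : ∀ Q : Sylow p (Cfsg.pResidual p G), IsMulCommutative Q) :
    ∃ K : Subgroup G, K.IsComplement' (Cfsg.pResidual p G) := by
  have hNn := pResidual_normal (G := G) p
  obtain ⟨k, hk⟩ := index_pResidual (G := G) p
  have hhom : ∀ {H : Type _} [Group H], IsPGroup p H →
      ∀ (f : Cfsg.pResidual p G →* H) (x : Cfsg.pResidual p G), f x = 1 :=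
    fun hH f x => hom_pResidual_eq_one hH f x
  generalize Cfsg.pResidual p G = N at *
  obtain ⟨Q⟩ : Nonempty (Sylow p N) := inferInstance
  have hQc := h Q
  let Q' : Subgroup G := (Q : Subgroup N).map N.subtype
  have hMN : normalizer (Q' : Set G) ⊔ N = ⊤ := Q.normalizer_sup_eq_top
  set M : Subgroup G := normalizer (Q' : Set G) with hM
  have hQM : Q' ≤ M := le_normalizer
  have hQN : Q' ≤ N := map_subtype_le _
  have hcardQ : Nat.card (Q'.subgroupOf M) = Nat.card Q := by
    rw [Nat.card_congr (Subgroup.subgroupOfEquivOfLe hQM).toEquiv]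
    exact Nat.card_congr
      ((Q : Subgroup N).equivMapOfInjective N.subtype N.subtype_injective).symm.toEquiv
  have hrel : Q'.relIndex N = (Q : Subgroup N).index := by
    change (Q'.subgroupOf N).index = _
    have : Q'.subgroupOf N = Q := comap_map_eq_self_of_injective N.subtype_injective _
    rw [this]
  have hrel2 : (Q'.subgroupOf M).relIndex (N.subgroupOf M) ∣ (Q : Subgroup N).index := by
    rw [← inf_subgroupOf_right N M, relIndex_subgroupOf inf_le_right, ← hrel]
    exact ⟨_, (relIndex_mul_relIndex Q' (N ⊓ M) N (le_inf hQN hQM) inf_le_left).symm⟩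
  have hpidx : Nat.Coprime p (Q : Subgroup N).index :=
    (Nat.Prime.coprime_iff_not_dvd hp.out).mpr Q.not_dvd_index
  have hprel : Nat.Coprime p ((Q'.subgroupOf M).relIndex (N.subgroupOf M)) :=
    hpidx.coprime_dvd_right hrel2
  obtain ⟨j, hj⟩ := IsPGroup.iff_card.mp Q.2
  have hnormal : (Q'.subgroupOf M).Normal := by
    rw [hM]; infer_instance
  have hcomm : IsMulCommutative (Q'.subgroupOf M) := by
    refine ⟨⟨fun a b => Subtype.ext (Subtype.ext ?_)⟩⟩
    obtain ⟨a', ha', haa⟩ : (a : M).1 ∈ Q' := a.2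
    obtain ⟨b', hb', hbb⟩ : (b : M).1 ∈ Q' := b.2
    have := congrArg Subtype.val (congrArg Subtype.val (hQc.1.1 (⟨a', ha'⟩ : Q) ⟨b', hb'⟩))
    change a.1.1 * b.1.1 = b.1.1 * a.1.1
    rw [← haa, ← hbb]
    exact this
  obtain ⟨K₀, hK₀⟩ := exists_isComplement'_of_fixedPointFree (N.subgroupOf M) (Q'.subgroupOf M)
    (comap_mono hQN)
    (by rw [hcardQ, hj]; exact hprel.pow_left j)
    (by
      change Nat.Coprime (N.relIndex M) _
      rw [← relIndex_sup_right, hMN, relIndex_top_right, hk]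
      exact hprel.pow_left k)
    (by
      rintro ⟨_, hzM⟩ ⟨z, hz, rfl⟩ hcen
      have hz1 : z = 1 := by
        apply eq_one_of_mem_center_normalizer Q (fun f x => hhom Q.2 f x) z hz
        intro n hn
        have hnM : (n : G) ∈ M := by
          apply le_normalizer_map N.subtype
          exact ⟨n, hn, rfl⟩
        have h1 := hcen ⟨n, hnM⟩ n.2
        have h2 : (n : G) * (z : G) = (z : G) * (n : G) := congrArg Subtype.val h1
        exact Subtype.ext h2
      subst hz1
      rfl)
  refine ⟨K₀.map M.subtype, ?_⟩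
  have hdisj : Disjoint (K₀.map M.subtype) N := by
    rw [disjoint_iff_inf_le]
    rintro _ ⟨⟨y, hy, rfl⟩, hxN⟩
    have : y ∈ (⊥ : Subgroup M) := hK₀.disjoint.le_bot ⟨hy, hxN⟩
    rw [mem_bot] at this
    rw [this]; exact one_mem _
  apply isComplement'_of_card_mul_and_disjoint _ hdisj
  have h1 : Nat.card (K₀.map M.subtype) = N.index := by
    rw [← relIndex_top_right, ← hMN, relIndex_sup_right]
    change _ = (N.subgroupOf M).index
    rw [hK₀.index_eq_card]
    exact Nat.card_congr (K₀.equivMapOfInjective M.subtype M.subtype_injective).symm.toEquiv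
  rw [h1, index_mul_card]

end Cfsg.Agent.Transfer.ResidualComplement
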