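import Mathlib
set_option linter.all false

/-!
# Alperin's fusion theorem (with tame intersections)

`FusionChain P A g` : the element `g` is a product `x₁ ⋯ xₙ` of elements
`xᵢ ∈ N_G(P ∩ Qᵢ)`, where `P ∩ Qᵢ` is a tame intersection, `xᵢ` is a `p`-element or `Qᵢ = P`,
`A ⊆ P ∩ Q₁`, `A ^ (x₁ ⋯ xᵢ) ⊆ P ∩ Qᵢ₊₁`.

Main theorem: `fusionChain_of_conj_subset`: if `A ⊆ P` and `g⁻¹ A g ⊆ P` then `FusionChain P A g`.
-/

set_option autoImplicit false

namespace Cfsg.Agent.Transfer.AlperinFusion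

open Subgroup

universe u

variable {G : Type u} [Group G] {p : ℕ}

/-- `P ∩ Q` is a tame intersection: `N_P(P ∩ Q)` and `N_Q(P ∩ Q)` are Sylow `p`-subgroups of
`N_G(P ∩ Q)`. -/
def IsTame (P Q : Sylow p G) : Prop :=
  ¬ p ∣ ((P : Subgroup G) ⊓ Subgroup.normalizer ((((P : Subgroup G) ⊓ (Q : Subgroup G)) :
      Subgroup G) : Set G)).relIndex
      (Subgroup.normalizer ((((P : Subgroup G) ⊓ (Q : Subgroup G)) : Subgroup G) : Set G)) ∧
  ¬ p ∣ ((Q : Subgroup G) ⊓ Subgroup.normalizer ((((P : Subgroup G) ⊓ (Q : Subgroup G)) :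
      Subgroup G) : Set G)).relIndex
      (Subgroup.normalizer ((((P : Subgroup G) ⊓ (Q : Subgroup G)) : Subgroup G) : Set G))

/-- Chains of fusion steps through normalizers of tame intersections with `P`. -/
inductive FusionChain (P : Sylow p G) : Set G → G → Prop
  | nil (A : Set G) : FusionChain P A 1
  | cons (A : Set G) (Q : Sylow p G) (x g : G) (hQ : IsTame P Q)
      (hx : x ∈ Subgroup.normalizer ((((P : Subgroup G) ⊓ (Q : Subgroup G)) : Subgroup G) : Set G))
      (hxp : (∃ k : ℕ, x ^ p ^ k = 1) ∨ Q = P)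
      (hA : A ⊆ (((P : Subgroup G) ⊓ (Q : Subgroup G) : Subgroup G) : Set G))
      (h : FusionChain P ((fun a => x⁻¹ * a * x) '' A) g) : FusionChain P A (x * g)

theorem image_conj_conj (A : Set G) (x y : G) :
    (fun a => y⁻¹ * a * y) '' ((fun a => x⁻¹ * a * x) '' A) = (fun a => (x * y)⁻¹ * a * (x * y)) '' A := by
  rw [Set.image_image]
  apply Set.image_congr
  intro a _
  group

theorem image_conj_one (A : Set G) : (fun a => (1 : G)⁻¹ * a * 1) '' A = A := by
  simp

theorem FusionChain.mono {P : Sylow p G} {B : Set G} {g : G} (h : FusionChain P B g) :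
    ∀ A : Set G, A ⊆ B → FusionChain P A g := by
  induction h with
  | nil B => intro A _; exact FusionChain.nil A
  | cons B Q x g hQ hx hxp hB h ih =>
    intro A hA
    exact FusionChain.cons A Q x g hQ hx hxp (hA.trans hB) (ih _ (Set.image_mono hA))

theorem FusionChain.trans {P : Sylow p G} {A : Set G} {g : G} (h : FusionChain P A g) :
    ∀ g' : G, FusionChain P ((fun a => g⁻¹ * a * g) '' A) g' → FusionChain P A (g * g') := by
  induction h with
  | nil A => intro g' h; rw [image_conj_one] at h; rw [one_mul]; exact h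
  | cons A Q x g hQ hx hxp hA h ih =>
    intro g' h'
    rw [mul_assoc]
    refine FusionChain.cons A Q x (g * g') hQ hx hxp hA (ih g' ?_)
    rw [image_conj_conj]
    exact h'

/-- Conversion to the indexed form. -/
theorem FusionChain.exists_fin {P : Sylow p G} {A : Set G} {g : G} (h : FusionChain P A g) :
    ∃ (n : ℕ) (Q : Fin n → Sylow p G) (x : Fin n → G), (List.ofFn x).prod = g ∧
      (∀ i : Fin n, x i ∈ Subgroup.normalizer
          ((((P : Subgroup G) ⊓ (Q i : Subgroup G)) : Subgroup G) : Set G) ∧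
        IsTame P (Q i) ∧ ((∃ k : ℕ, x i ^ p ^ k = 1) ∨ Q i = P)) ∧
      (∀ h : 0 < n, A ⊆ (((P : Subgroup G) ⊓ (Q ⟨0, h⟩ : Subgroup G) : Subgroup G) : Set G)) ∧
      ∀ i : Fin n, ∀ h : i.val + 1 < n,
        (fun a => (((List.ofFn x).take (i.val + 1)).prod)⁻¹ * a *
          ((List.ofFn x).take (i.val + 1)).prod) '' A ⊆
          (((P : Subgroup G) ⊓ (Q ⟨i.val + 1, h⟩ : Subgroup G) : Subgroup G) : Set G) := by
  induction h with
  | nil A =>
    refine ⟨0, Fin.elim0, Fin.elim0, by simp, fun i => i.elim0, fun h => absurd h (lt_irrefl 0),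
      fun i => i.elim0⟩
  | cons A Q x g hQ hx hxp hA h ih =>
    obtain ⟨n, Q', x', hprod, h1, h2, h3⟩ := ih
    refine ⟨n + 1, Fin.cons Q Q', Fin.cons x x', ?_, ?_, ?_, ?_⟩
    · rw [List.ofFn_succ, Fin.cons_zero, List.prod_cons]
      simp only [Fin.cons_succ]
      rw [hprod]
    · intro i
      refine Fin.cases ?_ ?_ i
      · exact ⟨hx, hQ, hxp⟩
      · intro j
        exact h1 j
    · intro _
      exact hA
    · intro i hi
      have hi' : i.val < n := by omega
      have hlist : (List.ofFn (Fin.cons x x' : Fin (n + 1) → G)).take (i.val + 1) =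
          x :: (List.ofFn x').take i.val := by
        rw [List.ofFn_succ, Fin.cons_zero, List.take_succ_cons]
        simp only [Fin.cons_succ]
      rw [hlist, List.prod_cons, ← image_conj_conj]
      have hQi : (Fin.cons Q Q' : Fin (n + 1) → Sylow p G) ⟨i.val + 1, hi⟩ = Q' ⟨i.val, hi'⟩ := rfl
      rw [hQi]
      obtain ⟨i, hlt⟩ := i
      cases i with
      | zero =>
        simp only [List.take_zero, List.prod_nil]
        rw [image_conj_one]
        exact h2 hi'
      | succ j =>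
        exact h3 ⟨j, by omega⟩ hi'

/-- Transport of a transitive relation along a chain. -/
theorem FusionChain.rel {P : Sylow p G} {r : G → G → Prop} (hrefl : ∀ a ∈ P, r a a)
    (htrans : ∀ a b c, r a b → r b c → r a c)
    (hstep : ∀ Q : Sylow p G, IsTame P Q → ∀ x ∈ Subgroup.normalizer
      ((((P : Subgroup G) ⊓ (Q : Subgroup G)) : Subgroup G) : Set G),
      ((∃ k : ℕ, x ^ p ^ k = 1) ∨ Q = P) →
      ∀ a ∈ (P : Subgroup G) ⊓ (Q : Subgroup G), r a (x⁻¹ * a * x))
    {A : Set G} {g : G} (h : FusionChain P A g) :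
    ∀ a ∈ A, a ∈ P → r a (g⁻¹ * a * g) := by
  induction h with
  | nil A =>
    intro a _ ha
    rw [inv_one, one_mul, mul_one]
    exact hrefl a ha
  | cons A Q x g hQ hx hxp hA h ih =>
    intro a ha haP
    have h1 := hstep Q hQ x hx hxp a (hA ha)
    have h2 : x⁻¹ * a * x ∈ P := by
      have h3 := (Subgroup.mem_normalizer_iff.1 (inv_mem hx) a).1 (hA ha)
      rw [inv_inv] at h3
      exact h3.1
    have h4 := ih _ ⟨a, ha, rfl⟩ h2
    have h5 : (x * g)⁻¹ * a * (x * g) = g⁻¹ * (x⁻¹ * a * x) * g := by group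
    rw [h5]
    exact htrans _ _ _ h1 h4

/-! ### Sylow subgroups of normalizers -/

section Sylow

variable [Finite G] [Fact p.Prime]

/-- A `p`-subgroup of `N` is contained in a Sylow `p`-subgroup `S` of `G` with `S ∩ N` Sylow in
`N`. -/
theorem exists_sylow_inf (N H : Subgroup G) (hH : IsPGroup p H) (hHN : H ≤ N) :
    ∃ S : Sylow p G, H ≤ S ∧ ¬ p ∣ ((S : Subgroup G) ⊓ N).relIndex N := by
  have h1 : IsPGroup p (H.subgroupOf N) := hH.comap_subtype
  obtain ⟨T, hT⟩ := h1.exists_le_sylow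
  have h2 : IsPGroup p ((T : Subgroup N).map N.subtype) := T.2.map N.subtype
  obtain ⟨S, hS⟩ := h2.exists_le_sylow
  refine ⟨S, ?_, ?_⟩
  · intro x hx
    apply hS
    exact ⟨⟨x, hHN hx⟩, hT hx, rfl⟩
  · intro hdvd
    have h3 : (T : Subgroup N) ≤ ((S : Subgroup G) ⊓ N).subgroupOf N := by
      intro x hx
      rw [Subgroup.mem_subgroupOf]
      exact ⟨hS ⟨x, hx, rfl⟩, x.2⟩
    have h4 := Subgroup.index_dvd_of_le h3
    exact T.not_dvd_index (hdvd.trans h4)

/-- Normalizers grow in Sylow subgroups. -/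
theorem exists_mem_normalizer_notMem (P : Sylow p G) (D : Subgroup G) (hD : D ≤ P)
    (hne : ¬ (P : Subgroup G) ≤ D) :
    ∃ u ∈ P, u ∈ Subgroup.normalizer (D : Set G) ∧ u ∉ D := by
  have hnil : Group.IsNilpotent P := P.2.isNilpotent
  have h1 := Group.normalizerCondition_of_isNilpotent (G := P)
  have hlt : D.subgroupOf P < ⊤ := by
    rw [lt_top_iff_ne_top]
    intro h
    rw [Subgroup.subgroupOf_eq_top] at h
    exact hne h
  have h2 := h1 _ hlt
  obtain ⟨u, hu, hu'⟩ := SetLike.exists_of_lt h2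
  refine ⟨u, u.2, ?_, fun h => hu' h⟩
  rw [Subgroup.mem_normalizer_iff] at hu ⊢
  intro h
  constructor
  · intro hh
    have := (hu ⟨h, hD hh⟩).1 hh
    exact this
  · intro hh
    have hh' : h ∈ P := by
      have h3 : (u : G)⁻¹ * ((u : G) * h * (u : G)⁻¹) * u ∈ P :=
        mul_mem (mul_mem (inv_mem u.2) (hD hh)) u.2
      have h4 : (u : G)⁻¹ * ((u : G) * h * (u : G)⁻¹) * u = h := by group
      rwa [h4] at h3
    exact (hu ⟨h, hh'⟩).2 hh

omit [Finite G] [Fact p.Prime] in
theorem mem_smul_sylow (g r : G) (R : Sylow p G) : r ∈ g • R ↔ g⁻¹ * r * g ∈ R := by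
  rw [← SetLike.mem_coe, Sylow.coe_smul, Set.mem_smul_set_iff_inv_smul_mem]
  rw [← map_inv, MulAut.smul_def, MulAut.conj_apply, inv_inv, SetLike.mem_coe]

/-- Two Sylow `p`-subgroups `A`, `B` of `N` are conjugate in `⟨A, B⟩`. -/
theorem exists_conj_of_not_dvd (N A B : Subgroup G) (hA : IsPGroup p A) (hB : IsPGroup p B)
    (hAN : A ≤ N) (hBN : B ≤ N) (hA' : ¬ p ∣ A.relIndex N) (hB' : ¬ p ∣ B.relIndex N) :
    ∃ z ∈ A ⊔ B, ∀ r ∈ A, z⁻¹ * r * z ∈ B := by
  set K := A ⊔ B with hK
  have hKN : K ≤ N := sup_le hAN hBN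
  have hAK : A ≤ K := le_sup_left
  have hBK : B ≤ K := le_sup_right
  have hA1 : ¬ p ∣ (A.subgroupOf K).index := by
    intro h
    apply hA'
    rw [← Subgroup.relIndex_mul_relIndex A K N hAK hKN]
    exact Dvd.dvd.mul_right h _
  have hB1 : ¬ p ∣ (B.subgroupOf K).index := by
    intro h
    apply hB'
    rw [← Subgroup.relIndex_mul_relIndex B K N hBK hKN]
    exact Dvd.dvd.mul_right h _
  have hA2 : IsPGroup p (A.subgroupOf K) := hA.comap_subtype
  have hB2 : IsPGroup p (B.subgroupOf K) := hB.comap_subtype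
  obtain ⟨z, hz⟩ := MulAction.exists_smul_eq K (hB2.toSylow hB1) (hA2.toSylow hA1)
  refine ⟨z, z.2, ?_⟩
  intro r hr
  have h1 : (⟨r, hAK hr⟩ : K) ∈ hA2.toSylow hA1 := by
    rw [IsPGroup.mem_toSylow]
    exact hr
  rw [← hz, mem_smul_sylow, IsPGroup.mem_toSylow] at h1
  exact h1

/-- The main claim in the proof of Alperin's theorem: every Sylow `p`-subgroup `R` can be moved to
`P` along a chain starting with `P ∩ R`. -/
def Reach (P R : Sylow p G) : Prop :=
  ∃ x : G, FusionChain P (((P : Subgroup G) ⊓ (R : Subgroup G) : Subgroup G) : Set G) x ∧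
    ∀ r ∈ R, x⁻¹ * r * x ∈ P

omit [Finite G] [Fact p.Prime] in
theorem Reach.of_chain {P R : Sylow p G} (x : G)
    (hx : FusionChain P (((P : Subgroup G) ⊓ (R : Subgroup G) : Subgroup G) : Set G) x)
    (hxP : ∀ r ∈ (P : Subgroup G) ⊓ (R : Subgroup G), x⁻¹ * r * x ∈ P)
    (h : Reach P (x⁻¹ • R)) : Reach P R := by
  obtain ⟨y, hy, hyR⟩ := h
  refine ⟨x * y, hx.trans y (hy.mono _ ?_), ?_⟩
  · rintro _ ⟨r, hr, rfl⟩
    refine ⟨hxP r hr, ?_⟩
    change x⁻¹ * r * x ∈ x⁻¹ • R
    rw [mem_smul_sylow]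
    have h1 : (x⁻¹)⁻¹ * (x⁻¹ * r * x) * x⁻¹ = r := by group
    rw [h1]
    exact hr.2
  · intro r hr
    have h1 : x⁻¹ * r * x ∈ x⁻¹ • R := by
      rw [mem_smul_sylow]
      have h1 : (x⁻¹)⁻¹ * (x⁻¹ * r * x) * x⁻¹ = r := by group
      rw [h1]
      exact hr
    have h2 := hyR _ h1
    have h3 : (x * y)⁻¹ * r * (x * y) = y⁻¹ * (x⁻¹ * r * x) * y := by group
    rw [h3]
    exact h2

theorem card_lt_of_mem {A B : Subgroup G} (h : A ≤ B) {u : G} (hu : u ∈ B) (hu' : u ∉ A) :
    Nat.card A < Nat.card B := by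
  have hle := Subgroup.card_le_of_le h
  refine lt_of_le_of_ne hle ?_
  intro heq
  have := Subgroup.eq_of_le_of_card_ge h heq.ge
  rw [this] at hu'
  exact hu' hu

omit [Fact p.Prime] in
theorem card_conj_inf (P R : Sylow p G) (D E : Subgroup G) (x : G) (u : G)
    (hD : D ≤ E) (hu : u ∈ E) (huD : u ∉ D) (hER : E ≤ R) (hEP : ∀ r ∈ E, x⁻¹ * r * x ∈ P) :
    Nat.card D < Nat.card ((P : Subgroup G) ⊓ ((x⁻¹ • R : Sylow p G) : Subgroup G) : Subgroup G) := by
  refine lt_of_lt_of_le (card_lt_of_mem hD hu huD) ?_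
  have hcE : Nat.card (E.map (MulAut.conj x⁻¹).toMonoidHom) = Nat.card E :=
    Subgroup.card_map_of_injective (MulAut.conj x⁻¹).injective
  rw [← hcE]
  apply Subgroup.card_le_of_le
  rintro _ ⟨r, hr, rfl⟩
  have h0 : (MulAut.conj x⁻¹) r = x⁻¹ * r * x := by
    rw [MulAut.conj_apply, inv_inv]
  change (MulAut.conj x⁻¹) r ∈ _
  rw [h0]
  refine ⟨hEP r hr, ?_⟩
  change x⁻¹ * r * x ∈ x⁻¹ • R
  rw [mem_smul_sylow]
  have h1 : (x⁻¹)⁻¹ * (x⁻¹ * r * x) * x⁻¹ = r := by group
  rw [h1]
  exact hER hr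

/-- Step 2. -/
theorem reach_of_sylow_normalizer (P R : Sylow p G)
    (ih : ∀ S : Sylow p G, Nat.card ((P : Subgroup G) ⊓ (R : Subgroup G) : Subgroup G) <
      Nat.card ((P : Subgroup G) ⊓ (S : Subgroup G) : Subgroup G) → Reach P S)
    (hN : ¬ p ∣ ((P : Subgroup G) ⊓ Subgroup.normalizer ((((P : Subgroup G) ⊓ (R : Subgroup G)) :
      Subgroup G) : Set G)).relIndex
      (Subgroup.normalizer ((((P : Subgroup G) ⊓ (R : Subgroup G)) : Subgroup G) : Set G))) :
    Reach P R := by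
  classical
  by_cases hRP : (R : Subgroup G) ≤ P
  · refine ⟨1, FusionChain.nil _, ?_⟩
    intro r hr
    rw [inv_one, one_mul, mul_one]
    exact hRP hr
  set D : Subgroup G := (P : Subgroup G) ⊓ (R : Subgroup G) with hDdef
  set N : Subgroup G := Subgroup.normalizer (D : Set G) with hNdef
  have hDP : D ≤ P := inf_le_left
  have hDR : D ≤ R := inf_le_right
  have hDN : D ≤ N := Subgroup.le_normalizer
  -- growth in `R`
  obtain ⟨u, huR, huN, huD⟩ := exists_mem_normalizer_notMem R D hDR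
    (fun h => hRP (h.trans hDP))
  obtain ⟨T, hT, hTN⟩ := exists_sylow_inf N ((R : Subgroup G) ⊓ N) (R.2.to_inf_left) inf_le_right
  have hDT : D ≤ T := (le_inf hDR hDN).trans hT
  by_cases hcase : Nat.card D < Nat.card ((P : Subgroup G) ⊓ (T : Subgroup G) : Subgroup G)
  · obtain ⟨w, hw, hwT⟩ := ih T hcase
    apply Reach.of_chain w
    · exact hw.mono _ (fun r hr => ⟨hDP hr, hDT hr⟩)
    · intro r hr
      exact hwT r (hDT hr)
    · apply ih
      exact card_conj_inf P R D ((R : Subgroup G) ⊓ N) w u (le_inf hDR hDN) ⟨huR, huN⟩ huD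
        inf_le_left (fun r hr => hwT r (hT hr))
  · have hPT : (P : Subgroup G) ⊓ (T : Subgroup G) = D := by
      symm
      exact Subgroup.eq_of_le_of_card_ge (le_inf hDP hDT) (not_lt.1 hcase)
    have htame : IsTame P T := by
      refine ⟨?_, ?_⟩
      · rw [hPT]; exact hN
      · rw [hPT]; exact hTN
    obtain ⟨z, hz, hz'⟩ := exists_conj_of_not_dvd N ((T : Subgroup G) ⊓ N) ((P : Subgroup G) ⊓ N)
      (T.2.to_inf_left) (P.2.to_inf_left) inf_le_right inf_le_right hTN hN
    -- chains inside `N` along `p`-elements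
    have hzN : z ∈ N := (sup_le inf_le_right inf_le_right : ((T : Subgroup G) ⊓ N) ⊔
      ((P : Subgroup G) ⊓ N) ≤ N) hz
    have hKN : ((T : Subgroup G) ⊓ N) ⊔ ((P : Subgroup G) ⊓ N) ≤ N :=
      sup_le inf_le_right inf_le_right
    have hchain : FusionChain P (D : Set G) z := by
      rw [Subgroup.sup_eq_closure] at hz hKN
      have hpe : ∀ x ∈ (((T : Subgroup G) ⊓ N : Subgroup G) : Set G) ∪
          (((P : Subgroup G) ⊓ N : Subgroup G) : Set G), ∃ k : ℕ, x ^ p ^ k = 1 := by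
        rintro x (hx | hx)
        · obtain ⟨k, hk⟩ := isPGroup_iff_pow_pow_eq_one.1 T.2 ⟨x, hx.1⟩
          exact ⟨k, congrArg Subtype.val hk⟩
        · obtain ⟨k, hk⟩ := isPGroup_iff_pow_pow_eq_one.1 P.2 ⟨x, hx.1⟩
          exact ⟨k, congrArg Subtype.val hk⟩
      have hmoveD : ∀ x ∈ N, ∀ B : Set G, B ⊆ D → (fun a => x⁻¹ * a * x) '' B ⊆ D := by
        intro x hx B hB
        rintro _ ⟨b, hb, rfl⟩
        have h1 := (Subgroup.mem_normalizer_iff.1 (inv_mem hx) b).1 (hB hb)
        rw [inv_inv] at h1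
        exact h1
      have hgen : ∀ x ∈ N, (∃ k : ℕ, x ^ p ^ k = 1) → ∀ B : Set G, B ⊆ D → ∀ y : G,
          FusionChain P ((fun a => x⁻¹ * a * x) '' B) y → FusionChain P B (x * y) := by
        intro x hx hxp B hB y hy
        refine FusionChain.cons B T x y htame ?_ (Or.inl hxp) ?_ hy
        · rw [hPT]; exact hx
        · rw [hPT]; exact hB
      have hmain : ∀ x (_ : x ∈ closure ((((T : Subgroup G) ⊓ N : Subgroup G) : Set G) ∪
          (((P : Subgroup G) ⊓ N : Subgroup G) : Set G))), ∀ B : Set G, B ⊆ D →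
          FusionChain P B x := by
        intro x hx
        induction hx using Subgroup.closure_induction_left with
        | one => intro B _; exact FusionChain.nil B
        | mul_left x hx y hy ihy =>
          intro B hB
          have hxN : x ∈ N := hKN (Subgroup.subset_closure hx)
          exact hgen x hxN (hpe x hx) B hB y (ihy _ (hmoveD x hxN B hB))
        | inv_mul_cancel x hx y hy ihy =>
          intro B hB
          have hxN : x⁻¹ ∈ N := inv_mem (hKN (Subgroup.subset_closure hx))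
          obtain ⟨k, hk⟩ := hpe x hx
          exact hgen x⁻¹ hxN ⟨k, by rw [inv_pow, hk, inv_one]⟩ B hB y (ihy _ (hmoveD _ hxN B hB))
      exact hmain z hz _ subset_rfl
    apply Reach.of_chain z hchain
    · intro r hr
      exact (hz' r ⟨hDT hr, hDN hr⟩).1
    · apply ih
      exact card_conj_inf P R D ((R : Subgroup G) ⊓ N) z u (le_inf hDR hDN) ⟨huR, huN⟩ huD
        inf_le_left (fun r hr => (hz' r ⟨hT hr, hr.2⟩).1)

/-- Every Sylow `p`-subgroup can be moved to `P`. -/
theorem reach_all (P : Sylow p G) : ∀ (m : ℕ) (R : Sylow p G),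
    Nat.card P - Nat.card ((P : Subgroup G) ⊓ (R : Subgroup G) : Subgroup G) = m → Reach P R := by
  intro m
  induction m using Nat.strong_induction_on with
  | _ m IH =>
  intro R hm
  have ih : ∀ S : Sylow p G, Nat.card ((P : Subgroup G) ⊓ (R : Subgroup G) : Subgroup G) <
      Nat.card ((P : Subgroup G) ⊓ (S : Subgroup G) : Subgroup G) → Reach P S := by
    intro S hS
    have hle : Nat.card ((P : Subgroup G) ⊓ (S : Subgroup G) : Subgroup G) ≤ Nat.card P :=
      Subgroup.card_le_of_le inf_le_left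
    exact IH _ (by omega) S rfl
  by_cases hPR : (P : Subgroup G) ≤ R
  · -- then `P = R`
    have hPR' : (R : Subgroup G) = P := P.is_maximal' R.2 hPR
    refine ⟨1, FusionChain.nil _, ?_⟩
    intro r hr
    rw [inv_one, one_mul, mul_one]
    exact hPR'.le hr
  set D : Subgroup G := (P : Subgroup G) ⊓ (R : Subgroup G) with hDdef
  set N : Subgroup G := Subgroup.normalizer (D : Set G) with hNdef
  have hDP : D ≤ P := inf_le_left
  have hDR : D ≤ R := inf_le_right
  have hDN : D ≤ N := Subgroup.le_normalizer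
  obtain ⟨u, huP, huN, huD⟩ := exists_mem_normalizer_notMem P D hDP
    (fun h => hPR (h.trans hDR))
  obtain ⟨S, hS, hSN⟩ := exists_sylow_inf N ((P : Subgroup G) ⊓ N) (P.2.to_inf_left) inf_le_right
  have hlt : Nat.card D < Nat.card ((P : Subgroup G) ⊓ (S : Subgroup G) : Subgroup G) := by
    refine card_lt_of_mem (u := u) ?_ ⟨huP, hS ⟨huP, huN⟩⟩ huD
    exact le_inf hDP ((le_inf hDP hDN).trans hS)
  obtain ⟨x, hx, hxS⟩ := ih S hlt
  have hDS : D ≤ S := (le_inf hDP hDN).trans hS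
  apply Reach.of_chain x
  · exact hx.mono _ (fun r hr => ⟨hDP hr, hDS hr⟩)
  · intro r hr
    exact hxS r (hDS hr)
  by_cases hcase : Nat.card D <
      Nat.card ((P : Subgroup G) ⊓ ((x⁻¹ • R : Sylow p G) : Subgroup G) : Subgroup G)
  · exact ih _ hcase
  have hconj : ∀ r : G, (MulAut.conj x⁻¹).toMonoidHom r = x⁻¹ * r * x := by
    intro r
    change (MulAut.conj x⁻¹) r = _
    rw [MulAut.conj_apply, inv_inv]
  have hDle : D.map (MulAut.conj x⁻¹).toMonoidHom ≤
      (P : Subgroup G) ⊓ ((x⁻¹ • R : Sylow p G) : Subgroup G) := by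
    rintro _ ⟨r, hr, rfl⟩
    rw [hconj]
    refine ⟨hxS r (hDS hr), ?_⟩
    change x⁻¹ * r * x ∈ x⁻¹ • R
    rw [mem_smul_sylow]
    have h1 : (x⁻¹)⁻¹ * (x⁻¹ * r * x) * x⁻¹ = r := by group
    rw [h1]
    exact hDR hr
  have hcardD : Nat.card (D.map (MulAut.conj x⁻¹).toMonoidHom) = Nat.card D :=
    Subgroup.card_map_of_injective (MulAut.conj x⁻¹).injective
  have hDeq : D.map (MulAut.conj x⁻¹).toMonoidHom =
      (P : Subgroup G) ⊓ ((x⁻¹ • R : Sylow p G) : Subgroup G) :=
    Subgroup.eq_of_le_of_card_ge hDle (by rw [hcardD]; exact not_lt.1 hcase)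
  apply reach_of_sylow_normalizer
  · intro S' hS'
    apply ih
    rw [← hDeq, hcardD] at hS'
    exact hS'
  · rw [← hDeq]
    intro hdvd
    apply hSN
    have hNmap : Subgroup.normalizer ((D.map (MulAut.conj x⁻¹).toMonoidHom : Subgroup G) : Set G) =
        N.map (MulAut.conj x⁻¹).toMonoidHom := by
      rw [hNdef]
      exact (Subgroup.map_equiv_normalizer_eq D (MulAut.conj x⁻¹)).symm
    rw [hNmap] at hdvd
    have h1 : ((S : Subgroup G) ⊓ N).map (MulAut.conj x⁻¹).toMonoidHom ≤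
        (P : Subgroup G) ⊓ N.map (MulAut.conj x⁻¹).toMonoidHom := by
      rintro _ ⟨r, hr, rfl⟩
      refine ⟨?_, ⟨r, hr.2, rfl⟩⟩
      rw [hconj]
      exact hxS r hr.1
    have h2 := Subgroup.relIndex_dvd_of_le_left (N.map (MulAut.conj x⁻¹).toMonoidHom) h1
    rw [Subgroup.relIndex_map_map_of_injective _ _ (MulAut.conj x⁻¹).injective] at h2
    exact hdvd.trans h2

omit [Finite G] in
theorem isTame_self [Finite (Sylow p G)] (P : Sylow p G) [hP : P.FiniteIndex] : IsTame P P := by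
  have h : ¬ p ∣ ((P : Subgroup G) ⊓ Subgroup.normalizer ((((P : Subgroup G) ⊓ (P : Subgroup G)) :
      Subgroup G) : Set G)).relIndex
      (Subgroup.normalizer ((((P : Subgroup G) ⊓ (P : Subgroup G)) : Subgroup G) : Set G)) := by
    rw [inf_idem]
    intro h
    rw [inf_eq_left.2 (Subgroup.le_normalizer (H := (P : Subgroup G)))] at h
    have h2 := Subgroup.relIndex_mul_index (Subgroup.le_normalizer (H := (P : Subgroup G)))
    exact P.not_dvd_index (h2 ▸ h.mul_right _)
  exact ⟨h, h⟩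

/-- **Alperin's fusion theorem.** If `A` and `g⁻¹ A g` are contained in the Sylow `p`-subgroup `P`
then there is a fusion chain for `A` and `g`. -/
theorem fusionChain_of_conj_subset (P : Sylow p G) (A : Set G) (g : G) (hA : A ⊆ (P : Set G))
    (hAg : (fun a => g⁻¹ * a * g) '' A ⊆ (P : Set G)) : FusionChain P A g := by
  obtain ⟨x, hx, hxR⟩ := reach_all P _ (g • P) rfl
  have hgx : x⁻¹ * g ∈ Subgroup.normalizer ((((P : Subgroup G) ⊓ (P : Subgroup G)) :
      Subgroup G) : Set G) := by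
    rw [inf_idem]
    refine Sylow.smul_eq_iff_mem_normalizer.1 ?_
    have h1 : (((x⁻¹ * g) • P : Sylow p G) : Subgroup G) ≤ P := by
      intro r hr
      change r ∈ (x⁻¹ * g) • P at hr
      rw [mem_smul_sylow] at hr
      have h2 : x * r * x⁻¹ ∈ g • P := by
        rw [mem_smul_sylow]
        have h3 : g⁻¹ * (x * r * x⁻¹) * g = (x⁻¹ * g)⁻¹ * r * (x⁻¹ * g) := by group
        rw [h3]
        exact hr
      have h4 := hxR _ h2
      have h5 : x⁻¹ * (x * r * x⁻¹) * x = r := by group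
      rw [h5] at h4
      exact h4
    apply Sylow.ext
    exact (((x⁻¹ * g) • P).is_maximal' P.2 h1).symm
  have hAR : A ⊆ (((P : Subgroup G) ⊓ ((g • P : Sylow p G) : Subgroup G) : Subgroup G) : Set G) := by
    intro a ha
    refine ⟨hA ha, ?_⟩
    change a ∈ g • P
    rw [mem_smul_sylow]
    exact hAg ⟨a, ha, rfl⟩
  have hfinal : FusionChain P A (x * (x⁻¹ * g)) := by
    refine (hx.mono A hAR).trans _ ?_
    have h0 : FusionChain P ((fun a => x⁻¹ * a * x) '' A) ((x⁻¹ * g) * 1) := by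
      refine FusionChain.cons _ P (x⁻¹ * g) 1 (isTame_self P) hgx (Or.inr rfl) ?_ (FusionChain.nil _)
      rw [inf_idem]
      rintro _ ⟨a, ha, rfl⟩
      exact hxR a (hAR ha).2
    rwa [mul_one] at h0
  rwa [mul_inv_cancel_left] at hfinal

/-- Element form of **Alperin's fusion theorem**: a reflexive transitive relation on `P` that
contains conjugation inside the normalizers of tame intersections contains `G`-conjugacy on `P`. -/
theorem rel_of_conj {P : Sylow p G} {r : G → G → Prop} (hrefl : ∀ a ∈ P, r a a)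
    (htrans : ∀ a b c, r a b → r b c → r a c)
    (hstep : ∀ Q : Sylow p G, IsTame P Q → ∀ x ∈ Subgroup.normalizer
      ((((P : Subgroup G) ⊓ (Q : Subgroup G)) : Subgroup G) : Set G),
      ((∃ k : ℕ, x ^ p ^ k = 1) ∨ Q = P) →
      ∀ a ∈ (P : Subgroup G) ⊓ (Q : Subgroup G), r a (x⁻¹ * a * x))
    {a g : G} (ha : a ∈ P) (hg : g⁻¹ * a * g ∈ P) : r a (g⁻¹ * a * g) := by
  have h := fusionChain_of_conj_subset P {a} g (by simpa using ha) (by simpa using hg)
  exact h.rel hrefl htrans hstep a rfl ha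

end Sylow

end Cfsg.Agent.Transfer.AlperinFusion
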